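import Cfsg.Agent.Orthogonal.Dickson
import Cfsg.Agent.Orthogonal.StdForms

/-!
Maximal totally singular subspaces and the Dickson invariant; splitting of involution classes
from `O` to `Ω` in characteristic two.
-/

set_option autoImplicit false

namespace Cfsg.Agent.H51

open QuadraticMap Module Cfsg.Agent.Orthogonal

variable {F V : Type*} [Field F] [AddCommGroup V] [Module F V] [FiniteDimensional F V]
variable {Q : QuadraticForm F V}

theorem perp_eq_self (hQ : Nondeg Q) {W : Submodule F V} (hW : TotSing Q W)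
    (hd : 2 * finrank F W = finrank F V) : perp Q W = W := by
  refine (Submodule.eq_of_le_of_finrank_eq hW.le_perp ?_).symm
  have := hQ.finrank_add_perp W
  omega

/-- A totally singular subspace is no larger than a frame with anisotropic kernel. -/
theorem finrank_totSing_le (hQ : Nondeg Q) {k : ℕ} {e f : Fin k → V} (h : IsFrame Q e f)
    (ha : Aniso Q (IsFrame.kernel Q e f)) {W : Submodule F V} (hW : TotSing Q W) :
    finrank F W ≤ k := by
  by_contra hlt
  push Not at hlt
  set E := Submodule.span F (Set.range e) with hE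
  have hEk : finrank F E = k := by
    have he : LinearIndependent F e := h.linearIndependent.comp Sum.inl Sum.inl_injective
    rw [hE, finrank_span_eq_card he, Fintype.card_fin]
  have hEp : ∀ i, ∀ y ∈ E, polar Q y (e i) = 0 := fun i y hy => by
    induction hy using Submodule.span_induction with
    | mem u hu => obtain ⟨j, rfl⟩ := hu; exact h.ee j i
    | zero => exact polar_zero_left (Q := Q) _
    | add u v _ _ au av => rw [polar_add_left, au, av, add_zero]
    | smul a u _ au => rw [polar_smul_left', au, mul_zero]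
  have hET : TotSing Q E := fun x hx => by
    induction hx using Submodule.span_induction with
    | mem y hy => obtain ⟨i, rfl⟩ := hy; exact h.qe i
    | zero => exact QuadraticMap.map_zero Q
    | add y z hy hz ay az =>
      rw [map_add_polar, ay, az, add_zero, zero_add]
      clear az
      induction hz using Submodule.span_induction with
      | mem u hu => obtain ⟨j, rfl⟩ := hu; exact hEp j y hy
      | zero => exact polar_zero_right (Q := Q) _
      | add u v _ _ au av => rw [polar_add_right, au, av, add_zero]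
      | smul a u _ au => rw [polar_smul_right', au, mul_zero]
    | smul a y _ ay => rw [qmap_smul, ay, mul_zero]
  obtain ⟨g, hg⟩ := hET.exists_map_le hQ hW (by omega)
  set W' := W.map (((g⁻¹ : O Q) : V ≃ₗ[F] V) : V →ₗ[F] V) with hW'
  have hEW : E ≤ W' := fun x hx => ⟨(g : V ≃ₗ[F] V) x, hg ⟨x, hx, rfl⟩, by
    rw [LinearEquiv.coe_coe, ← mul_app, ← Subgroup.coe_mul, inv_mul_cancel]; rfl⟩
  have hT : TotSing Q W' := hW.map g⁻¹
  have hle : W' ≤ E := by
    intro x hx
    set p := ∑ i, polar Q (f i) x • e i with hp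
    have hpE : p ∈ E := Submodule.sum_mem _ fun i _ =>
      Submodule.smul_mem _ _ (Submodule.subset_span ⟨i, rfl⟩)
    have hk : x - p ∈ IsFrame.kernel Q e f := by
      refine IsFrame.mem_kernel.2 ⟨fun i => ?_, fun i => ?_⟩
      · exact hT.polar_eq (hEW (Submodule.subset_span ⟨i, rfl⟩)) (W'.sub_mem hx (hEW hpE))
      · have : polar Q (f i) p = polar Q (f i) x := by
          rw [hp, ← polarBilin_apply', map_sum]
          simp [h.fe]
        rw [polar_sub_right, this, sub_self]
    have := ha _ hk (hT _ (W'.sub_mem hx (hEW hpE)))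
    rw [sub_eq_zero.1 this]
    exact hpE
  have := Submodule.finrank_mono hle
  rw [LinearEquiv.finrank_map_eq, hEk] at this
  omega

/-- Two maximal totally singular subspaces meeting in a hyperplane have intersections of
dimensions differing by one with any third one. -/
theorem finrank_inf_adjacent (hQ : Nondeg Q) {m : ℕ} (hn : finrank F V = 2 * m)
    {W A B : Submodule F V} (hW : TotSing Q W) (hA : TotSing Q A) (hB : TotSing Q B)
    (dW : finrank F W = m) (dA : finrank F A = m) (dB : finrank F B = m)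
    (hAB : finrank F (A ⊓ B : Submodule F V) + 1 = m) :
    finrank F (W ⊓ A : Submodule F V) + 1 = finrank F (W ⊓ B : Submodule F V) ∨
      finrank F (W ⊓ B : Submodule F V) + 1 = finrank F (W ⊓ A : Submodule F V) := by
  obtain ⟨H, hH⟩ : ∃ H, H = A ⊓ B := ⟨_, rfl⟩
  rw [← hH] at hAB
  have hHA : H ≤ A := hH.le.trans inf_le_left
  have hHB : H ≤ B := hH.le.trans inf_le_right
  obtain ⟨x, hxA, hxH⟩ := SetLike.exists_of_lt (lt_of_le_of_ne hHA
    (fun h => by have h' := congrArg (fun S : Submodule F V => finrank F S) h; omega))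
  obtain ⟨y, hyB, hyH⟩ := SetLike.exists_of_lt (lt_of_le_of_ne hHB
    (fun h => by have h' := congrArg (fun S : Submodule F V => finrank F S) h; omega))
  have eA : A = H ⊔ Submodule.span F {x} := by
    refine (Submodule.eq_of_le_of_finrank_eq (sup_le hHA
      ((Submodule.span_singleton_le_iff_mem x A).2 hxA)) ?_).symm
    rw [Submodule.finrank_sup_span_singleton hxH]; omega
  have eB : B = H ⊔ Submodule.span F {y} := by
    refine (Submodule.eq_of_le_of_finrank_eq (sup_le hHB
      ((Submodule.span_singleton_le_iff_mem y B).2 hyB)) ?_).symm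
    rw [Submodule.finrank_sup_span_singleton hyH]; omega
  have hHy : ∀ h ∈ H, polar Q h y = 0 := fun h hh => hB.polar_eq (hHB hh) hyB
  have hxy : polar Q x y ≠ 0 := by
    intro h0
    have hy : y ∈ perp Q A := by
      intro w hw
      rw [eA] at hw
      obtain ⟨h, hh, z, hz, rfl⟩ := Submodule.mem_sup.1 hw
      obtain ⟨a, rfl⟩ := Submodule.mem_span_singleton.1 hz
      rw [polar_add_left, hHy h hh, polar_smul_left', h0, mul_zero, add_zero]
    rw [perp_eq_self hQ hA (by omega)] at hy
    exact hyH (hH ▸ ⟨hy, hyB⟩)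
  have hperpH : perp Q H = A ⊔ B := by
    refine (Submodule.eq_of_le_of_finrank_eq (sup_le ?_ ?_) ?_).symm
    · exact fun a ha w hw => hA.polar_eq (hHA hw) ha
    · exact fun a ha w hw => hB.polar_eq (hHB hw) ha
    · have h1 := Submodule.finrank_sup_add_finrank_inf_eq A B
      have h2 := hQ.finrank_add_perp H
      rw [← hH] at h1
      omega
  have hsing : ∀ z ∈ perp Q H, Q z = 0 → z ∈ A ∨ z ∈ B := by
    intro z hz hQz
    rw [hperpH] at hz
    obtain ⟨p, hp, q, hq, rfl⟩ := Submodule.mem_sup.1 hz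
    rw [map_add_polar, hA p hp, hB q hq, add_zero, zero_add] at hQz
    obtain ⟨h₁, hh₁, z₁, hz₁, rfl⟩ := Submodule.mem_sup.1 (eA ▸ hp)
    obtain ⟨h₂, hh₂, z₂, hz₂, rfl⟩ := Submodule.mem_sup.1 (eB ▸ hq)
    obtain ⟨a, rfl⟩ := Submodule.mem_span_singleton.1 hz₁
    obtain ⟨b, rfl⟩ := Submodule.mem_span_singleton.1 hz₂
    simp only [polar_add_left, polar_add_right, polar_smul_left', polar_smul_right',
      hA.polar_eq (hHA hh₁) (hHA hh₂), hA.polar_eq hxA (hHA hh₂), hHy h₁ hh₁, mul_zero, zero_add] at hQz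
    rcases mul_eq_zero.1 hQz with hb0 | ha0
    · left
      rw [hb0, zero_smul, add_zero]
      exact A.add_mem (A.add_mem (hHA hh₁) (A.smul_mem _ hxA)) (hHA hh₂)
    · right
      rw [(mul_eq_zero.1 ha0).resolve_right hxy, zero_smul, add_zero]
      exact B.add_mem (hHB hh₁) (B.add_mem (hHB hh₂) (B.smul_mem _ hyB))
  -- both intersections contain `W ⊓ H`
  have key : ∀ {C : Submodule F V} {c : V}, C = H ⊔ Submodule.span F {c} →
      finrank F (W ⊓ C : Submodule F V) ≤ finrank F (W ⊓ H : Submodule F V) + 1 := by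
    intro C c hC
    have h1 := Submodule.finrank_sup_add_finrank_inf_eq (W ⊓ C) H
    have h2 : W ⊓ C ⊓ H = W ⊓ H := by
      rw [inf_assoc, inf_eq_right.2 (show H ≤ C by rw [hC]; exact le_sup_left)]
    have h3 : W ⊓ C ⊔ H ≤ C := sup_le inf_le_right (by rw [hC]; exact le_sup_left)
    have h4 := Submodule.finrank_mono h3
    have h5 : finrank F C ≤ finrank F H + 1 := by
      rw [hC]
      have := Submodule.finrank_add_le_finrank_add_finrank H (Submodule.span F {c})
      have hc := finrank_span_le_card (R := F) ({c} : Set V)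
      simp at hc
      omega
    rw [h2] at h1
    omega
  have kA := key eA
  have kB := key eB
  have mA := Submodule.finrank_mono (inf_le_inf_left W hHA)
  have mB := Submodule.finrank_mono (inf_le_inf_left W hHB)
  obtain ⟨z, hzW, hzH⟩ : ∃ z ∈ W ⊓ perp Q H, z ∉ H := by
    by_contra hc
    push Not at hc
    have h1 : W ⊓ perp Q H ≤ W ⊓ H := fun z hz => ⟨hz.1, hc z hz⟩
    have h2 := Submodule.finrank_mono h1
    have h3 : perp Q (W ⊔ H) = W ⊓ perp Q H := by rw [perp_sup, perp_eq_self hQ hW (by omega)]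
    have h4 := hQ.finrank_add_perp (W ⊔ H)
    have h5 := Submodule.finrank_sup_add_finrank_inf_eq W H
    rw [h3] at h4
    omega
  have hnot : ¬ (finrank F (W ⊓ H : Submodule F V) + 1 = finrank F (W ⊓ A : Submodule F V) ∧
      finrank F (W ⊓ H : Submodule F V) + 1 = finrank F (W ⊓ B : Submodule F V)) := by
    rintro ⟨h1, h2⟩
    obtain ⟨a, ha, haH⟩ := SetLike.exists_of_lt
      (lt_of_le_of_ne (inf_le_inf_left W hHA) fun h => by rw [h] at h1; omega)
    obtain ⟨b, hb, hbH⟩ := SetLike.exists_of_lt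
      (lt_of_le_of_ne (inf_le_inf_left W hHB) fun h => by rw [h] at h2; omega)
    obtain ⟨g₁, hg₁, z₁, hz₁, rfl⟩ := Submodule.mem_sup.1 (eA ▸ ha.2)
    obtain ⟨g₂, hg₂, z₂, hz₂, rfl⟩ := Submodule.mem_sup.1 (eB ▸ hb.2)
    obtain ⟨α, rfl⟩ := Submodule.mem_span_singleton.1 hz₁
    obtain ⟨β, rfl⟩ := Submodule.mem_span_singleton.1 hz₂
    have h0 := hW.polar_eq ha.1 hb.1
    simp only [polar_add_left, polar_add_right, polar_smul_left', polar_smul_right',
      hA.polar_eq (hHA hg₁) (hHA hg₂), hA.polar_eq hxA (hHA hg₂), hHy g₁ hg₁, mul_zero, zero_add] at h0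
    rcases mul_eq_zero.1 h0 with h | h
    · refine hbH ⟨hb.1, ?_⟩
      rw [h, zero_smul, add_zero]; exact hg₂
    · refine haH ⟨ha.1, ?_⟩
      rw [(mul_eq_zero.1 h).resolve_right hxy, zero_smul, add_zero]; exact hg₁
  have hone : finrank F (W ⊓ H : Submodule F V) < finrank F (W ⊓ A : Submodule F V) ∨
      finrank F (W ⊓ H : Submodule F V) < finrank F (W ⊓ B : Submodule F V) := by
    rcases hsing z hzW.2 (hW z hzW.1) with h | h
    · exact Or.inl (Submodule.finrank_lt_finrank_of_lt (lt_of_le_of_ne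
        (inf_le_inf_left W hHA) fun he => hzH (he.ge ⟨hzW.1, h⟩).2))
    · exact Or.inr (Submodule.finrank_lt_finrank_of_lt (lt_of_le_of_ne
        (inf_le_inf_left W hHB) fun he => hzH (he.ge ⟨hzW.1, h⟩).2))
  omega

/-- The Dickson invariant through the action on a maximal totally singular subspace. -/
theorem dicksonSign_eq_inf (hQ : Nondeg Q) (hgen : reflGroup Q = ⊤) {m : ℕ}
    (hn : finrank F V = 2 * m) {W : Submodule F V} (hW : TotSing Q W) (dW : finrank F W = m)
    (g : O Q) :
    dicksonSign g = (-1) ^ (m + finrank F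
      (W ⊓ W.map ((g : V ≃ₗ[F] V) : V →ₗ[F] V) : Submodule F V)) := by
  have hg : g ∈ reflGroup Q := by rw [hgen]; trivial
  have hstep : ∀ (v : V) (y : O Q), dicksonSign y = (-1) ^ (m + finrank F
      (W ⊓ W.map ((y : V ≃ₗ[F] V) : V →ₗ[F] V) : Submodule F V)) →
      dicksonSign (rO Q v * y) = (-1) ^ (m + finrank F
      (W ⊓ W.map (((rO Q v * y : O Q) : V ≃ₗ[F] V) : V →ₗ[F] V) : Submodule F V)) := by
    intro v y hy
    by_cases hv : Q v = 0
    · rw [rO_of_singular hv, one_mul]; exact hy
    rw [dicksonSign_rO_mul hQ hv, hy]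
    set A := W.map ((y : V ≃ₗ[F] V) : V →ₗ[F] V) with hAdef
    have hA : TotSing Q A := hW.map y
    have dA : finrank F A = m := by rw [hAdef, LinearEquiv.finrank_map_eq, dW]
    have hmap : W.map (((rO Q v * y : O Q) : V ≃ₗ[F] V) : V →ₗ[F] V) =
        A.map ((rO Q v : V ≃ₗ[F] V) : V →ₗ[F] V) := by
      rw [hAdef, ← Submodule.map_comp]; rfl
    rw [hmap]
    set B := A.map ((rO Q v : V ≃ₗ[F] V) : V →ₗ[F] V) with hBdef
    have hB : TotSing Q B := hA.map (rO Q v)
    have dB : finrank F B = m := by rw [hBdef, LinearEquiv.finrank_map_eq, dA]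
    have hv0 : v ∉ A := fun h => hv (hA v h)
    have hAB : A ⊓ B = perp Q (A ⊔ Submodule.span F {v}) := by
      rw [perp_sup, perp_eq_self hQ hA (by omega)]
      refine le_antisymm ?_ fun a ha => ⟨ha.1, a, ha.1, ?_⟩
      · rintro a ⟨ha, w, hw, rfl⟩
        rw [LinearEquiv.coe_coe, rO_app] at ha ⊢
        have hc : (Q v)⁻¹ * polar Q v w = 0 := by
          by_contra hc
          refine hv0 ?_
          have := A.smul_mem ((Q v)⁻¹ * polar Q v w)⁻¹ (A.sub_mem hw ha)
          rwa [sub_sub_cancel, inv_smul_smul₀ hc] at this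
        rw [hc, zero_smul, sub_zero]
        exact ⟨hw, (mem_perp_span_singleton Q).2
          ((mul_eq_zero.1 hc).resolve_left (inv_ne_zero hv))⟩
      · exact rO_fix ((mem_perp_span_singleton Q).1 ha.2)
    have hd : finrank F (A ⊓ B : Submodule F V) + 1 = m := by
      have h1 := hQ.finrank_add_perp (A ⊔ Submodule.span F {v})
      rw [Submodule.finrank_sup_span_singleton hv0, ← hAB] at h1
      omega
    rcases finrank_inf_adjacent hQ hn hW hA hB dW dA dB hd with h | h
    · rw [← h, ← add_assoc, pow_succ, mul_neg, mul_one]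
    · rw [← h, ← add_assoc, pow_succ, mul_neg, mul_one, neg_neg]
  induction hg using Subgroup.closure_induction_left with
  | one =>
    rw [dicksonSign_one, show W.map (((1 : O Q) : V ≃ₗ[F] V) : V →ₗ[F] V) = W from
      Submodule.map_id W, inf_idem, dW, ← two_mul, pow_mul, neg_one_sq, one_pow]
  | mul_left x hx y _ hy => obtain ⟨v, rfl⟩ := hx; exact hstep v y hy
  | inv_mul_cancel x hx y _ hy => obtain ⟨v, rfl⟩ := hx; rw [rO_inv]; exact hstep v y hy

/-- `g - 1` of an involution in characteristic two maps into its fixed space. -/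
theorem range_le_fixSpace [CharP F 2] {t : O Q} (ht : t * t = 1) :
    LinearMap.range (((t : V ≃ₗ[F] V) : V →ₗ[F] V) - LinearMap.id) ≤ fixSpace t := by
  have h2 : ∀ z : V, -z = z := fun z => by
    rw [neg_eq_iff_add_eq_zero, ← two_smul F z, CharTwo.two_eq_zero, zero_smul]
  rintro - ⟨x, rfl⟩
  simp only [LinearMap.sub_apply, LinearEquiv.coe_coe, LinearMap.id_apply, mem_fixSpace, map_sub]
  rw [← mul_app, ← Subgroup.coe_mul, ht]
  simp [sub_eq_add_neg, h2, add_comm]

/-- If the fixed space of `t` is not totally singular then its centraliser contains a reflection. -/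
theorem exists_ker_conj_of_not_totSing (hQ : Nondeg Q) (hgen : reflGroup Q = ⊤) {t s : O Q}
    (h : IsConj t s) (hns : ¬ TotSing Q (fixSpace t)) :
    ∃ g ∈ (dickson hQ hgen).ker, g * t * g⁻¹ = s := by
  obtain ⟨k, hk⟩ := isConj_iff.1 h
  by_cases hd : dickson hQ hgen k = 1
  · exact ⟨k, hd, hk⟩
  simp only [TotSing, not_forall] at hns
  obtain ⟨u, hu, hQu⟩ := hns
  have hcomm : t * rO Q u * t⁻¹ = rO Q u := by rw [conj_rO, mem_fixSpace.1 hu]
  have hfix : rO Q u * t * rO Q u = t := by
    rw [mul_inv_eq_iff_eq_mul] at hcomm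
    rw [← hcomm, mul_assoc, rO_mul_self, mul_one]
  refine ⟨k * rO Q u, ?_, ?_⟩
  · rw [MonoidHom.mem_ker, map_mul, dickson_rO hQ hgen hQu,
      (Int.units_eq_one_or _).resolve_left hd]
    rfl
  · calc k * rO Q u * t * (k * rO Q u)⁻¹ = k * (rO Q u * t * rO Q u) * k⁻¹ := by
          rw [mul_inv_rev, rO_inv]; group
      _ = s := by rw [hfix, hk]

/-- When the fixed space is totally singular, conjugacy in the Dickson kernel is a parity. -/
theorem exists_ker_conj_iff (hQ : Nondeg Q) (hgen : reflGroup Q = ⊤) {m : ℕ} (hm : Even m)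
    (hn : finrank F V = 2 * m) {t s : O Q} (h : IsConj t s) (hT : TotSing Q (fixSpace t))
    (hd : finrank F (fixSpace t) = m) :
    (∃ g ∈ (dickson hQ hgen).ker, g * t * g⁻¹ = s) ↔
      Even (finrank F (fixSpace t ⊓ fixSpace s : Submodule F V)) := by
  have hmap : ∀ g : O Q, g * t * g⁻¹ = s →
      (fixSpace t).map ((g : V ≃ₗ[F] V) : V →ₗ[F] V) = fixSpace s := by
    intro g hg
    rw [mul_inv_eq_iff_eq_mul] at hg
    have happ : ∀ x, (g : V ≃ₗ[F] V) ((t : V ≃ₗ[F] V) x) = (s : V ≃ₗ[F] V) ((g : V ≃ₗ[F] V) x) :=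
      fun x => congrArg (fun z : O Q => (z : V ≃ₗ[F] V) x) hg
    ext y
    obtain ⟨x, rfl⟩ := (g : V ≃ₗ[F] V).surjective y
    rw [Submodule.mem_map_equiv, LinearEquiv.symm_apply_apply, mem_fixSpace, mem_fixSpace, ← happ,
      EmbeddingLike.apply_eq_iff_eq]
  have hsign : ∀ g : O Q, g * t * g⁻¹ = s → (dickson hQ hgen g = 1 ↔
      Even (finrank F (fixSpace t ⊓ fixSpace s : Submodule F V))) := by
    intro g hg
    rw [dickson_apply, dicksonSign_eq_inf hQ hgen hn hT hd, hmap g hg,
      neg_one_pow_eq_one_iff_even (by decide), Nat.even_add]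
    simp [hm]
  constructor
  · rintro ⟨g, hg, hgt⟩; exact (hsign g hgt).1 hg
  · intro he
    obtain ⟨k, hk⟩ := isConj_iff.1 h
    exact ⟨k, (hsign k hk).2 he, hk⟩

end Cfsg.Agent.H51
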