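import Cfsg.Prelude.Def_ChevAutomorphisms
import Cfsg.Prelude.Def_ChevG2
import Cfsg.Prelude.Def_ChevB2
import Cfsg.Prelude.Def_ChevD4
import Cfsg.Prelude.Def_ChevF4
import Cfsg.Prelude.Def_ChevE6
import Cfsg.Prelude.Def_ChevE7
import Cfsg.Prelude.Def_ChevE8

/-!
Weight homogeneity of the chain tables: `x_r(t)` conjugated by the diagonal matrix of a character
of the root lattice is `x_r(χ(r) t)`.
-/
set_option autoImplicit false
set_option Elab.async false

namespace Cfsg.Agent.H51

open Cfsg.Lie

/-- the list `l` is a chain of successive sums with `r`, starting after `s` -/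
def okSeq (D : ChevalleyDatum) (r : ℕ) : ℕ → List (ℕ × ℤ) → Bool
  | _, [] => true
  | s, q :: l => decide (s < D.nroots) && (D.chainRoot r s 1 == some q.1) && okSeq D r q.1 l

/-- all chains of the root `r` are chains of successive sums -/
def weightCheckAt (D : ChevalleyDatum) (r : ℕ) : Bool :=
  (D.chain.getD r #[]).toList.all fun e => okSeq D r e.1 e.2.toList

/-- all chains of the datum are chains of successive sums -/
def WeightOK (D : ChevalleyDatum) : Prop := ∀ r < D.nroots, weightCheckAt D r = true

theorem weightOK_mk {D : ChevalleyDatum}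
    (h : (List.range D.nroots).all (weightCheckAt D) = true) : WeightOK D := by
  simpa [WeightOK, List.all_eq_true, List.mem_range] using h

theorem weightOK_g2 : WeightOK chevG2 := weightOK_mk (by decide +kernel)
theorem weightOK_b2 : WeightOK chevB2 := weightOK_mk (by decide +kernel)
theorem weightOK_d4 : WeightOK chevD4 := weightOK_mk (by decide +kernel)
theorem weightOK_f4 : WeightOK chevF4 := weightOK_mk (by decide +kernel)
theorem weightOK_e6 : WeightOK chevE6 := weightOK_mk (by decide +kernel)
theorem weightOK_e7 : WeightOK chevE7 := weightOK_mk (by decide +kernel)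
theorem weightE8_0 : (List.range' 0 60).all (weightCheckAt chevE8) = true := by decide +kernel

theorem weightE8_1 : (List.range' 60 60).all (weightCheckAt chevE8) = true := by decide +kernel

theorem weightE8_2 : (List.range' 120 60).all (weightCheckAt chevE8) = true := by decide +kernel

theorem weightE8_3 : (List.range' 180 60).all (weightCheckAt chevE8) = true := by decide +kernel

theorem weightOK_e8 : WeightOK chevE8 := by
  intro r hr
  have hn : chevE8.nroots = 240 := by decide +kernel
  rw [hn] at hr
  have key : ∀ a, (List.range' a 60).all (weightCheckAt chevE8) = true → a ≤ r → r < a + 60 →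
      weightCheckAt chevE8 r = true := fun a h h1 h2 =>
    List.all_eq_true.1 h r (List.mem_range'_1.2 ⟨h1, h2⟩)
  rcases Nat.lt_or_ge r 60 with h | h
  · exact key 0 weightE8_0 (Nat.zero_le r) (by omega)
  rcases Nat.lt_or_ge r 120 with h | h
  · exact key 60 weightE8_1 (by omega) (by omega)
  rcases Nat.lt_or_ge r 180 with h | h
  · exact key 120 weightE8_2 (by omega) (by omega)
  · exact key 180 weightE8_3 (by omega) (by omega)

theorem weightOK_of_mem {D : ChevalleyDatum}
    (hD : D ∈ [chevG2, chevB2, chevD4, chevF4, chevE6, chevE7, chevE8]) : WeightOK D := by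
  simp only [List.mem_cons, List.not_mem_nil, or_false] at hD
  rcases hD with rfl | rfl | rfl | rfl | rfl | rfl | rfl
  exacts [weightOK_g2, weightOK_b2, weightOK_d4, weightOK_f4, weightOK_e6, weightOK_e7, weightOK_e8]

variable {D : ChevalleyDatum} {F : Type*} [Field F]

theorem okSeq_weight {χ : ℕ → Fˣ} (hχ : D.IsRootCharacter χ) {r : ℕ} (hr : r < D.nroots) :
    ∀ (l : List (ℕ × ℤ)) (s : ℕ), okSeq D r s l = true →
      ∀ (i : ℕ) (q : ℕ × ℤ), l[i]? = some q → χ q.1 = χ r ^ (i + 1) * χ s := by
  intro l
  induction l with
  | nil => intro s _ i q h; simp at h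
  | cons a l ih =>
    intro s h i q hq
    simp only [okSeq, Bool.and_eq_true, beq_iff_eq, decide_eq_true_eq] at h
    have ha : χ a.1 = χ r * χ s := hχ.2 r s a.1 hr h.1.1 h.1.2
    cases i with
    | zero =>
      rw [List.getElem?_cons_zero, Option.some.injEq] at hq
      rw [← hq, pow_one, ha]
    | succ i =>
      rw [List.getElem?_cons_succ] at hq
      rw [ih a.1 h.2 i q hq, ha, pow_succ (χ r) (i + 1), mul_assoc]

theorem chainCoeff_weight (hW : WeightOK D) {χ : ℕ → Fˣ} (hχ : D.IsRootCharacter χ) {r s u : ℕ}
    (hr : r < D.nroots) {km : ℕ × ℤ} (h : km ∈ D.chainCoeff r s u) :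
    χ u = χ r ^ km.1 * χ s := by
  simp only [ChevalleyDatum.chainCoeff, List.mem_flatMap, List.mem_map, List.mem_filter,
    decide_eq_true_eq] at h
  obtain ⟨e, ⟨he, hes⟩, q, ⟨hq, hqu⟩, rfl⟩ := h
  have hc := hW r hr
  simp only [weightCheckAt, List.all_eq_true] at hc
  rw [← hqu, ← hes]
  exact okSeq_weight hχ hr _ _ (hc e he) q.2 q.1 (List.mem_zipIdx_iff_getElem?.1 hq)

/-- conjugation of a root element by the diagonal matrix of a character -/
theorem charDiag_mul_x_mul (hW : WeightOK D) {χ : ℕ → Fˣ} (hχ : D.IsRootCharacter χ) {r : ℕ}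
    (hr : r < D.nroots) (t : F) :
    D.charDiag F χ * D.x F r t * D.charDiag F (fun s => (χ s)⁻¹) = D.x F r ((χ r : F) * t) := by
  have hx : ∀ c : F, D.x F r c = D.xMat F ⟨r, hr⟩ c := fun c => dif_pos hr
  rw [hx, hx]
  ext a b
  rw [ChevalleyDatum.charDiag, ChevalleyDatum.charDiag, Matrix.mul_diagonal, Matrix.diagonal_mul]
  rcases b with i | s
  · rcases a with i' | u
    · simp [ChevalleyDatum.xMat]
    · by_cases hu : u = (⟨r, hr⟩ : Fin D.nroots)
      · subst hu
        simp only [ChevalleyDatum.xMat, Matrix.of_apply, if_true, Sum.elim_inl, Sum.elim_inr]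
        ring
      · simp [ChevalleyDatum.xMat, hu]
  · by_cases hs : s = (⟨r, hr⟩ : Fin D.nroots)
    · subst hs
      rcases a with i' | u
      · simp [ChevalleyDatum.xMat]
      · by_cases hu : u = (⟨r, hr⟩ : Fin D.nroots)
        · subst hu; simp [ChevalleyDatum.xMat]
        · simp [ChevalleyDatum.xMat, hu]
    · by_cases hsn : s.val = D.negIdx.getD r 0
      · have hχs : (χ s.val)⁻¹ = χ r := by
          rw [show s.val = D.neg r from hsn, hχ.1 r hr, inv_inv]
        rcases a with i' | u
        · simp only [ChevalleyDatum.xMat, Matrix.of_apply, if_neg hs, if_pos hsn, Sum.elim_inl,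
            Sum.elim_inr, hχs]
          ring
        · by_cases hus : u = s
          · subst hus
            simp only [ChevalleyDatum.xMat, Matrix.of_apply, if_neg hs, if_pos hsn, if_true,
              Sum.elim_inr, mul_one]
            exact (χ u.val).mul_inv
          · by_cases hur : u = (⟨r, hr⟩ : Fin D.nroots)
            · subst hur
              simp only [ChevalleyDatum.xMat, Matrix.of_apply, if_neg hs, if_pos hsn, if_neg hus,
                if_true, Sum.elim_inr, hχs]
              ring
            · simp [ChevalleyDatum.xMat, hs, hsn, hus, hur]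
      · rcases a with i' | u
        · simp only [ChevalleyDatum.xMat, Matrix.of_apply, if_neg hs, if_neg hsn, Sum.elim_inl]
          simp
        · simp only [ChevalleyDatum.xMat, Matrix.of_apply, if_neg hs, if_neg hsn, Sum.elim_inr]
          rw [mul_add, add_mul]
          congr 1
          · by_cases hus : u = s
            · subst hus; simp
            · simp [hus]
          · have hlist : ∀ L : List (ℕ × ℤ), (∀ km ∈ L, χ u.val = χ r ^ km.1 * χ s.val) →
                (χ u.val : F) * (L.map fun km => ((km.2 : ℤ) : F) * t ^ km.1).sum *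
                  (((χ s.val)⁻¹ : Fˣ) : F) =
                (L.map fun km => ((km.2 : ℤ) : F) * ((χ r : F) * t) ^ km.1).sum := by
              intro L
              induction L with
              | nil => simp
              | cons a L ih =>
                intro h
                simp only [List.map_cons, List.sum_cons, mul_add, add_mul]
                rw [ih fun km hkm => h km (List.mem_cons_of_mem _ hkm)]
                congr 1
                rw [h a List.mem_cons_self, Units.val_mul, Units.val_pow_eq_pow_val, mul_pow]
                have := (χ s.val).mul_inv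
                linear_combination ((χ r : F) ^ a.1 * ((a.2 : ℤ) : F) * t ^ a.1) * this
            exact hlist _ fun km hkm => chainCoeff_weight hW hχ hr hkm

end Cfsg.Agent.H51
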