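import Cfsg.Agent.H37.Chev.Struct
import Cfsg.Agent.H51.Weights

/-!
A Chevalley group meets the group of character diagonal matrices in its diagonal subgroup.
-/

set_option autoImplicit false

namespace Cfsg.Agent.H51

open Cfsg.Lie Cfsg.Agent.H37 Cfsg.Agent.H37.RootSys

variable {D : ChevalleyDatum} {F : Type*} [Field F] (Q : Chev.Data D F)

include Q in
theorem charDiag_mem_diagonal (hW : WeightOK D) {χ : ℕ → Fˣ} (hχ : D.IsRootCharacter χ)
    {g : GL D.Idx F} (hg : g ∈ D.group F)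
    (hgχ : (g : Matrix D.Idx D.Idx F) = D.charDiag F χ) : g ∈ D.diagonalSubgroup F := by
  set g' : ↥(D.group F) := ⟨g, hg⟩
  have hgi : ((g⁻¹ : GL D.Idx F) : Matrix D.Idx D.Idx F) = D.charDiag F (fun s => (χ s)⁻¹) := by
    refine Units.inv_eq_of_mul_eq_one_right ?_
    rw [hgχ, ChevalleyDatum.charDiag, ChevalleyDatum.charDiag, Matrix.diagonal_mul_diagonal,
      ← Matrix.diagonal_one]
    congr 1
    funext a
    rcases a with i | s <;> simp
  have hconj : ∀ r, r < D.nroots → ∀ t,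
      g' * Q.sys.x r t * g'⁻¹ = Q.sys.x r ((χ r : F) * t) := fun r hr t => by
    refine Subtype.ext (Units.ext ?_)
    change ((g * Q.K.xU F r t * g⁻¹ : GL D.Idx F) : Matrix D.Idx D.Idx F) = D.x F r _
    rw [Units.val_mul, Units.val_mul, hgχ, hgi, Chevalley.Cert.coe_xU]
    exact charDiag_mul_x_mul hW hχ hr t
  have hU : ∀ a ∈ Q.sys.U, g' * a * g'⁻¹ ∈ Q.sys.U := fun a ha =>
    conj_mem_XS (fun r hr t => by
      rw [hconj r (mem_posSet.1 hr).1]; exact x_mem_XS hr _) ha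
  obtain ⟨u, hu, h, hh, w, v, hv, e⟩ := Q.sys.normalForm.exists_eq g'
  change g' = u * h * Q.sys.rep w * v at e
  have hvU : v ∈ Q.sys.U := Q.sys.Uw_le w hv
  have hw : w = 1 := by
    by_contra hne
    obtain ⟨i, hi, hneg⟩ := Q.X.good.exists_descent hne
    have hs := Q.X.good.simple_spec hi
    have hx1 := Q.sys.x_one_ne hs.2.1 hs.1
    set a := v⁻¹ * Q.sys.x (D.simple i) 1 * v
    have ha : a ∈ Q.sys.U :=
      mul_mem (mul_mem (inv_mem hvU) (Q.sys.x_mem_U hs.2.1 hs.1 1)) hvU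
    have h1 := hU a ha
    rw [show g' * a * g'⁻¹ =
        u * (h * (Q.sys.rep w * Q.sys.x (D.simple i) 1 * (Q.sys.rep w)⁻¹) * h⁻¹) * u⁻¹ by
      rw [e]; simp only [a]; group] at h1
    obtain ⟨t1, e1⟩ := Q.sys.rep_conj w (D.simple i) hs.2.1 1
    obtain ⟨t2, e2⟩ := Q.sys.h_conj h hh _ (Fin.isLt _) t1
    rw [e1, e2] at h1
    have h2 := mul_mem (mul_mem (inv_mem hu) h1) hu
    rw [show u⁻¹ * (u * Q.sys.x (Q.X.good.hom w ⟨D.simple i, hs.2.1⟩).val t2 * u⁻¹) * u =
      Q.sys.x (Q.X.good.hom w ⟨D.simple i, hs.2.1⟩).val t2 by group] at h2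
    have h3 := Q.sys.x_neg_eq_one (Fin.isLt _) hneg h2
    rw [h3, ← e1] at e2
    exact hx1 (conj_eq_one_iff.1 (conj_eq_one_iff.1 e2))
  subst hw
  replace hv : v ∈ Q.sys.Uw 1 := hv
  rw [Q.sys.Uw_one, Subgroup.mem_bot] at hv
  rw [Q.sys.rep_one, hv, mul_one, mul_one] at e
  have hu1 : u = 1 := by
    have h1 := coe_mem_posUni Q.K Q.ord hu
    have hd : (h : GL D.Idx F) ∈ D.diagonalSubgroup F := hh
    have e' : g = (u : GL D.Idx F) * h := congrArg Subtype.val e
    have hoff : ∀ a b : D.Idx, a ≠ b → ((u : GL D.Idx F) : Matrix D.Idx D.Idx F) a b = 0 := by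
      intro a b hab
      have e2 : ((u : GL D.Idx F) : Matrix D.Idx D.Idx F) =
          (g : Matrix D.Idx D.Idx F) * (((h : GL D.Idx F)⁻¹ : GL D.Idx F) : Matrix D.Idx D.Idx F) := by
        rw [← Units.val_mul, e', mul_inv_cancel_right]
      rw [e2, hgχ, ChevalleyDatum.charDiag, Matrix.diagonal_mul,
        Q.T.off _ (inv_mem hd) a b hab, mul_zero]
    refine Subtype.ext (Units.ext ?_)
    ext a b
    rw [OneMemClass.coe_one, Units.val_one]
    by_cases hab : a = b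
    · subst hab; rw [Matrix.one_apply_eq]; exact raises_diag h1 a
    · rw [Matrix.one_apply_ne hab]; exact hoff a b hab
  rw [hu1, one_mul] at e
  have : g = (h : GL D.Idx F) := congrArg Subtype.val e
  rw [this]
  exact hh

end Cfsg.Agent.H51
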