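import Cfsg.Agent.H51.RootPairs
import Cfsg.Agent.Chevalley.Torus

/-!
Centralisers of root elements of a dominant root whose root elements commute with the positive
unipotent group.
-/

set_option autoImplicit false

namespace Cfsg.Agent.H51

open Cfsg.Lie Cfsg.Agent.H37 Cfsg.Agent.H37.RootSys

variable {D : ChevalleyDatum}

/-- The table facts used about the root `m` and the set `J` of nodes orthogonal to it. -/
structure Dominant (K : Chevalley.Cert D) (m : ℕ) (J : List ℕ) : Prop where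
  lt : m < D.nroots
  pos : D.nroots / 2 ≤ m
  J_lt : ∀ i ∈ J, i < D.rank
  fix : ∀ i ∈ J, K.w i m = m
  nonneg : ∀ i < D.rank, 0 ≤ Chevalley.pairingSum D m (D.simple i)
  orth : ∀ i < D.rank, Chevalley.pairingSum D m (D.simple i) = 0 → i ∈ J
  out : ∃ i₀ < D.rank, D.cartan i₀ m = 1 ∧ ∀ i < D.rank, i ∉ J → i = i₀
  cartan_J : ∀ i ∈ J, D.cartan i m = 0

variable {F : Type*} [Field F] (Q : Chev.Data D F)

theorem pairing_hom (w : Q.X.M.Group) : ∀ r s : Fin D.nroots,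
    Chevalley.pairingSum D (Q.X.good.hom w r) (Q.X.good.hom w s) =
      Chevalley.pairingSum D r s := by
  refine Sys.gen_induction (p := fun w => ∀ r s : Fin D.nroots,
    Chevalley.pairingSum D (Q.X.good.hom w r) (Q.X.good.hom w s) =
      Chevalley.pairingSum D r s) (by simp) (fun i w ih r s => ?_) w
  have hi : i.val < D.rank := Q.rank_eq.symm ▸ i.isLt
  rw [map_mul, Equiv.Perm.mul_apply, Equiv.Perm.mul_apply, hom_simple_val, hom_simple_val,
    Q.K.pairing_w hi (Fin.isLt _) (Q.K.w_lt i hi _ (Fin.isLt _)).1,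
    (Q.K.w_lt i hi _ (Fin.isLt _)).2, ih]

theorem pairingSum_nonpos {m : ℕ} {J : List ℕ} (hm : Dominant Q.K m J) {s : ℕ}
    (hs : s < D.nroots / 2) : Chevalley.pairingSum D m s ≤ 0 := by
  have hs' : s < D.nroots := by omega
  have h := Q.K.pe_eq (r := m) (Sum.inr ⟨s, hs'⟩ : D.Idx)
  simp only [Chevalley.pe, Sum.elim_inr, Chevalley.Cert.cfI_inr] at h
  rw [h]
  refine Finset.sum_nonpos fun j hj => mul_nonpos_of_nonpos_of_nonneg ?_
    (hm.nonneg j (Finset.mem_range.1 hj))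
  have := Q.K.cf_nonneg (D.neg s) (Q.K.neg_lt hs')
    (by rw [Q.K.neg_eq s hs']; have := Q.K.two_half; omega) j (Finset.mem_range.1 hj)
  rw [Q.K.cf_neg s hs' j (Finset.mem_range.1 hj)] at this
  omega

/-- The stabiliser of `m` in the Weyl group is generated by the fundamental reflections fixing
it. -/
theorem stab_le_closure {m : ℕ} {J : List ℕ} (hm : Dominant Q.K m J) : ∀ w : Q.X.M.Group,
    (Q.X.good.hom w ⟨m, hm.lt⟩).val = m →
      w ∈ Subgroup.closure {x | ∃ i : Fin Q.X.n, (i : ℕ) ∈ J ∧ x = Q.X.M.simple i} := by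
  suffices h : ∀ k, ∀ w : Q.X.M.Group, Q.X.good.inv w = k →
      (Q.X.good.hom w ⟨m, hm.lt⟩).val = m →
      w ∈ Subgroup.closure {x | ∃ i : Fin Q.X.n, (i : ℕ) ∈ J ∧ x = Q.X.M.simple i} from
    fun w => h _ w rfl
  intro k
  induction k using Nat.strong_induction_on with
  | _ k ih =>
    intro w hk hw
    by_cases h1 : w = 1
    · rw [h1]; exact one_mem _
    obtain ⟨i, hi, hneg⟩ := Q.X.good.exists_descent h1
    have hi' : i < D.rank := Q.rank_eq.symm ▸ hi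
    have hs := Q.X.good.simple_spec hi
    have hp := pairing_hom Q w ⟨m, hm.lt⟩ ⟨D.simple i, hs.2.1⟩
    rw [hw] at hp
    have h2 := pairingSum_nonpos Q hm hneg
    rw [hp] at h2
    have hiJ : i ∈ J := hm.orth i hi' (le_antisymm h2 (hm.nonneg i hi'))
    have hsq : Q.X.M.simple ⟨i, hi⟩ * Q.X.M.simple ⟨i, hi⟩ = 1 :=
      Q.X.M.toCoxeterSystem.simple_mul_simple_self ⟨i, hi⟩
    have hw' : (Q.X.good.hom (w * Q.X.M.simple ⟨i, hi⟩) ⟨m, hm.lt⟩).val = m := by
      rw [map_mul, Equiv.Perm.mul_apply]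
      have : Q.X.good.hom (Q.X.M.simple ⟨i, hi⟩) ⟨m, hm.lt⟩ = ⟨m, hm.lt⟩ :=
        Fin.ext (by rw [hom_simple_val]; exact hm.fix i hiJ)
      rw [this, hw]
    have hlt : Q.X.good.inv (w * Q.X.M.simple ⟨i, hi⟩) < k := by
      have hx : D.nroots / 2 ≤ (Q.X.good.hom (w * Q.X.M.simple ⟨i, hi⟩)
          ⟨D.simple i, hs.2.1⟩).val := by
        have hq : Q.X.good.hom (Q.X.M.simple ⟨i, hi⟩) ⟨D.simple i, hs.2.1⟩ =
            ⟨D.nroots - 1 - D.simple i, by omega⟩ := Fin.ext (by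
          rw [Q.X.good.hom_simple, Q.X.good.sigmaPerm_val,
            RootSys.neg_simple_eq Q.X.good Q.K hi, Q.K.neg_eq _ hs.2.1])
        rw [map_mul, Equiv.Perm.mul_apply, hq, Q.X.good.hom_neg w ⟨D.simple i, hs.2.1⟩]
        have := Q.X.good.even
        omega
      have h3 := Q.X.good.inv_mul_gen hi hx
      rw [show Weyl.gen Q.X.M i = Q.X.M.simple ⟨i, hi⟩ from Sys.gen_eq ⟨i, hi⟩, mul_assoc,
        hsq, mul_one] at h3
      omega
    have h4 := ih _ hlt _ rfl hw'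
    have h5 := mul_mem h4 (Subgroup.subset_closure (k := {x | ∃ j : Fin Q.X.n, (j : ℕ) ∈ J ∧
      x = Q.X.M.simple j}) ⟨⟨i, hi⟩, hiJ, rfl⟩)
    rwa [mul_assoc, hsq, mul_one] at h5

/-- Root subgroups of different roots, one positive, meet trivially. -/
theorem root_eq_of_x_eq {m r : ℕ} (hm : m < D.nroots) (hp : D.nroots / 2 ≤ m) (hr : r < D.nroots)
    {t u : F} (hu : u ≠ 0) (h : Q.sys.x r t = Q.sys.x m u) : r = m := by
  have hne : Q.sys.x m u ≠ 1 := fun e =>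
    hu (Q.sys.sep (Q.sys.P_eq ▸ mem_posSet.2 ⟨hm, hp⟩) u (e ▸ one_mem _))
  rcases Nat.lt_or_ge r (D.nroots / 2) with hn | hn
  · exact absurd (h ▸ Q.sys.x_neg_eq_one hr hn (h ▸ Q.sys.x_mem_U hm hp u)) hne
  · rcases Nat.lt_trichotomy r m with hlt | heq | hlt
    · have h0 := Q.sys.sep (Q.sys.P_eq ▸ mem_posSet.2 ⟨hr, hn⟩) t (h ▸ x_mem_XS
        (show m ∈ {q | q ∈ Q.sys.P ∧ r < q} from ⟨Q.sys.P_eq ▸ mem_posSet.2 ⟨hm, hp⟩, hlt⟩) u)
      rw [h0, Q.sys.x_zero' hr] at h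
      exact absurd h.symm hne
    · exact heq
    · exact absurd (Q.sys.sep (Q.sys.P_eq ▸ mem_posSet.2 ⟨hm, hp⟩) u (h ▸ x_mem_XS
        (show r ∈ {q | q ∈ Q.sys.P ∧ m < q} from ⟨Q.sys.P_eq ▸ mem_posSet.2 ⟨hr, hn⟩, hlt⟩) t)) hu

variable [CharP F 2]

theorem sg_cast (i r : ℕ) : (Q.K.sg i r : F) = 1 := by
  rcases Q.K.sg_pm i r with h | h <;> simp [h, CharTwo.neg_eq]

/-- The centraliser of a root element of a dominant root. -/
theorem centralizer_root {m : ℕ} {J : List ℕ} (hm : Dominant Q.K m J)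
    (hcentral : ∀ g ∈ Q.sys.U, g * Q.sys.x m 1 = Q.sys.x m 1 * g) :
    D.group F ⊓ Subgroup.centralizer {Q.K.xU F m 1} = D.posUnipotent F ⊔ Subgroup.closure
      {g : GL D.Idx F | ∃ s ∈ J.map (fun i => D.neg (D.simple i)), ∃ c : F,
        (g : Matrix D.Idx D.Idx F) = D.x F s c} := by
  set L := D.posUnipotent F ⊔ Subgroup.closure
      {g : GL D.Idx F | ∃ s ∈ J.map (fun i => D.neg (D.simple i)), ∃ c : F,
        (g : Matrix D.Idx D.Idx F) = D.x F s c} with hL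
  set K : Subgroup ↥(D.group F) := L.subgroupOf (D.group F) with hK
  set Z : Subgroup ↥(D.group F) := Subgroup.centralizer {Q.sys.x m 1} with hZ
  have hUK : Q.sys.U ≤ K := XS_le fun r hr t => by
    rw [hK, Subgroup.mem_subgroupOf]
    exact Subgroup.mem_sup_left (Subgroup.subset_closure
      ⟨r, t, (Q.ord.isPosRoot_iff r).2 (mem_posSet.1 hr), rfl⟩)
  have hnegK : ∀ i ∈ J, ∀ t, Q.sys.x (D.neg (D.simple i)) t ∈ K := fun i hi t => by
    rw [hK, Subgroup.mem_subgroupOf]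
    exact Subgroup.mem_sup_right (Subgroup.subset_closure
      ⟨_, List.mem_map.2 ⟨i, hi, rfl⟩, t, rfl⟩)
  have hposK : ∀ i ∈ J, ∀ t, Q.sys.x (D.simple i) t ∈ K := fun i hi t =>
    hUK (Q.sys.x_mem_U (Q.K.simple_lt i (hm.J_lt i hi)).1 (Q.K.simple_lt i (hm.J_lt i hi)).2 t)
  have hwordK : ∀ i ∈ J, ∀ (t : F) (hg : Q.K.nU F (D.simple i) t ∈ D.group F),
      (⟨Q.K.nU F (D.simple i) t, hg⟩ : ↥(D.group F)) ∈ K := fun i hi t hg => by
    have : (⟨Q.K.nU F (D.simple i) t, hg⟩ : ↥(D.group F)) =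
        Q.sys.x (D.simple i) t * Q.sys.x (D.neg (D.simple i)) (-t⁻¹) * Q.sys.x (D.simple i) t :=
      Subtype.ext (Q.K.nU_eq F _ _)
    rw [this]
    exact mul_mem (mul_mem (hposK i hi t) (hnegK i hi _)) (hposK i hi t)
  have hnsK : ∀ i ∈ J, Q.sys.ns i ∈ K := fun i hi => hwordK i hi 1 (nG Q.K F i).2
  have hUZ : Q.sys.U ≤ Z := fun g hg => by
    rw [hZ, Subgroup.mem_centralizer_singleton_iff]; exact hcentral g hg
  have hnsconj : ∀ i ∈ J, ∀ r, r < D.nroots → ∀ t,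
      Q.sys.ns i * Q.sys.x r t * (Q.sys.ns i)⁻¹ = Q.sys.x (Q.K.w i r) t := fun i hi r hr t => by
    refine Subtype.ext ?_
    have := Q.K.nS_conj_xU F (hm.J_lt i hi) hr t
    rw [sg_cast Q, one_mul] at this
    exact this
  have hnsZ : ∀ i ∈ J, Q.sys.ns i ∈ Z := fun i hi => by
    rw [hZ, Subgroup.mem_centralizer_singleton_iff]
    have := hnsconj i hi m hm.lt 1
    rw [hm.fix i hi, mul_inv_eq_iff_eq_mul] at this
    exact this
  have hnegZ : ∀ i ∈ J, ∀ t, Q.sys.x (D.neg (D.simple i)) t ∈ Z := fun i hi t => by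
    have hi' := hm.J_lt i hi
    have hw : Q.K.w i (D.simple i) = D.neg (D.simple i) := by
      rw [← RootSys.sigma_eq_w Q.X.good Q.K (Q.rank_eq ▸ hi') (Q.K.simple_lt i hi').1,
        RootSys.neg_simple_eq Q.X.good Q.K (Q.rank_eq ▸ hi')]
    rw [← hw, ← hnsconj i hi _ (Q.K.simple_lt i hi').1 t]
    exact mul_mem (mul_mem (hnsZ i hi)
      (hUZ (Q.sys.x_mem_U (Q.K.simple_lt i hi').1 (Q.K.simple_lt i hi').2 t))) (inv_mem (hnsZ i hi))
  -- representatives of the stabiliser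
  have hrep : ∀ w : Q.X.M.Group,
      w ∈ Subgroup.closure {x | ∃ i : Fin Q.X.n, (i : ℕ) ∈ J ∧ x = Q.X.M.simple i} →
      ∃ h ∈ Q.sys.H, ∃ k ∈ K ⊓ Z, Q.sys.rep w = h * k := by
    intro w hw
    have step : ∀ (i : Fin Q.X.n), (i : ℕ) ∈ J → ∀ y,
        (∃ h ∈ Q.sys.H, ∃ k ∈ K ⊓ Z, Q.sys.rep y = h * k) →
        ∃ h ∈ Q.sys.H, ∃ k ∈ K ⊓ Z, Q.sys.rep (Q.X.M.simple i * y) = h * k := by
      rintro i hi y ⟨h, hh, k, hk, e⟩
      obtain ⟨a, ha, e1⟩ := Q.sys.rep_mul (Q.X.M.simple i) y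
      obtain ⟨b, hb, e2⟩ := Q.sys.rep_simple i
      refine ⟨a⁻¹ * b * (Q.sys.ns i * h * (Q.sys.ns i)⁻¹),
        mul_mem (mul_mem (inv_mem ha) hb) (Q.sys.n_conj_H i i.isLt h hh),
        Q.sys.ns i * k, mul_mem ⟨hnsK i hi, hnsZ i hi⟩ hk, ?_⟩
      calc Q.sys.rep (Q.X.M.simple i * y) = a⁻¹ * (a * Q.sys.rep (Q.X.M.simple i * y)) := by group
        _ = _ := by rw [← e1, e2, e]; group
    induction hw using Subgroup.closure_induction_left with
    | one => exact ⟨1, one_mem _, 1, one_mem _, by rw [Q.sys.rep_one, mul_one]⟩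
    | mul_left x hx y _ hy => obtain ⟨i, hi, rfl⟩ := hx; exact step i hi y hy
    | inv_mul_cancel x hx y _ hy =>
      obtain ⟨i, hi, rfl⟩ := hx
      rw [show (Q.X.M.simple i)⁻¹ = Q.X.M.simple i from
        inv_eq_of_mul_eq_one_right (Q.X.M.toCoxeterSystem.simple_mul_simple_self i)]
      exact step i hi y hy
  -- the diagonal part
  have hHZ : ∀ h ∈ Q.sys.H, h ∈ Z → h ∈ K := by
    intro h hh hz
    have hd : (h : GL D.Idx F) ∈ D.diagonalSubgroup F := hh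
    rw [Q.K.diagonalSubgroup_eq] at hd
    obtain ⟨c, hc⟩ := hd
    obtain ⟨i₀, hi₀, hA, huniq⟩ := hm.out
    set f : Fin D.rank → Fˣ := fun i => c i ^ D.cartan i m with hf
    have hscal : Chevalley.Scales (fun x : D.Idx => ∏ i : Fin D.rank,
        c i ^ Chevalley.pe (D.simple i) x) m (∏ i, f i) := by
      intro k row col hne
      simp only [hf, ← Finset.prod_pow, ← Finset.prod_mul_distrib]
      refine Finset.prod_congr rfl fun i _ => ?_
      have := Q.K.scales_hDiag F (r := D.simple i) hm.lt (c i) k row col hne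
      rw [Q.K.pairing_simple i.isLt] at this
      exact this
    have hone : (∏ i, f i : Fˣ) = c ⟨i₀, hi₀⟩ := by
      rw [Finset.prod_eq_single (⟨i₀, hi₀⟩ : Fin D.rank)]
      · simp [hf, hA]
      · intro i _ hne
        have hiJ : (i : ℕ) ∈ J := by
          by_contra hJ
          exact hne (Fin.ext (huniq i i.isLt hJ))
        simp [hf, hm.cartan_J i hiJ]
      · simp
    have hx : Q.K.xU F m ((c ⟨i₀, hi₀⟩ : F) * 1) = Q.K.xU F m 1 := by
      rw [← hone, ← Q.K.dU_conj_xU F hm.lt hscal 1]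
      change Chevalley.torus D F c * _ * (Chevalley.torus D F c)⁻¹ = _
      rw [hc, mul_inv_eq_iff_eq_mul]
      exact congrArg Subtype.val (Subgroup.mem_centralizer_singleton_iff.1 hz)
    have hc1 : c ⟨i₀, hi₀⟩ = 1 := by
      refine Units.ext ?_
      have h2 : Q.K.xU F m ((c ⟨i₀, hi₀⟩ : F) * 1 + -1) = 1 := by
        rw [← Q.K.xU_add, hx, Q.K.xU_add, add_neg_cancel, Q.K.xU_zero]
      have h3 := (Q.K.xU_eq_one_iff F hm.lt _).1 h2
      rw [Units.val_one]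
      linear_combination h3
    rw [hK, Subgroup.mem_subgroupOf, ← hc, Q.K.torus_eq_prod]
    refine Subgroup.list_prod_mem _ fun g hg => ?_
    simp only [List.mem_map] at hg
    obtain ⟨i, -, rfl⟩ := hg
    by_cases hiJ : (i : ℕ) ∈ J
    · rw [Q.K.hU_eq]
      exact mul_mem (hwordK i hiJ _ (Q.K.wU_mem F fun p _ => Q.K.xU_mem_group F p.1 p.2))
        (hwordK i hiJ _ (Q.K.wU_mem F fun p _ => Q.K.xU_mem_group F p.1 p.2))
    · obtain rfl : i = ⟨i₀, hi₀⟩ := Fin.ext (huniq i i.isLt hiJ)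
      rw [hc1, Units.val_one, Q.K.hU_one]
      exact one_mem _
  -- assembly
  have hKZ : K ≤ Z := by
    have hgen : L ≤ Z.map (D.group F).subtype := by
      refine sup_le ?_ ((Subgroup.closure_le _).2 ?_)
      · refine (Subgroup.closure_le _).2 ?_
        rintro g ⟨r, t, hr, hg⟩
        obtain ⟨h1, h2⟩ := (Q.ord.isPosRoot_iff r).1 hr
        exact ⟨Q.sys.x r t, hUZ (Q.sys.x_mem_U h1 h2 t), Units.ext hg.symm⟩
      · rintro g ⟨s, hs, t, hg⟩
        obtain ⟨i, hi, rfl⟩ := List.mem_map.1 hs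
        exact ⟨Q.sys.x (D.neg (D.simple i)) t, hnegZ i hi t, Units.ext hg.symm⟩
    intro g hg
    obtain ⟨z, hz, e⟩ := hgen hg
    rwa [← Subtype.ext (a1 := z) (a2 := g) e]
  have hZK : Z ≤ K := by
    intro g hg
    obtain ⟨u, hu, h, hh, w, v, hv, e⟩ := Q.sys.normalForm.exists_eq g
    change g = u * h * Q.sys.rep w * v at e
    have hvU : v ∈ Q.sys.U := Q.sys.Uw_le w hv
    have hmid : h * Q.sys.rep w ∈ Z := by
      have : h * Q.sys.rep w = u⁻¹ * g * v⁻¹ := by rw [e]; group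
      rw [this]
      exact mul_mem (mul_mem (inv_mem (hUZ hu)) hg) (inv_mem (hUZ hvU))
    obtain ⟨t1, e1⟩ := Q.sys.rep_conj w m hm.lt 1
    obtain ⟨t2, e2⟩ := Q.sys.h_conj h hh _ (Fin.isLt _) t1
    have hwm : (Q.X.good.hom w ⟨m, hm.lt⟩).val = m := by
      refine root_eq_of_x_eq Q hm.lt hm.pos (Fin.isLt _) one_ne_zero (t := t2) ?_
      have hz := Subgroup.mem_centralizer_singleton_iff.1 hmid
      rw [← e2, ← e1, show h * (Q.sys.rep w * Q.sys.x m 1 * (Q.sys.rep w)⁻¹) * h⁻¹ =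
        h * Q.sys.rep w * Q.sys.x m 1 * (h * Q.sys.rep w)⁻¹ by group, hz, mul_inv_cancel_right]
    obtain ⟨h', hh', k, hk, ek⟩ := hrep w (stab_le_closure Q hm w hwm)
    have hhh : h * h' ∈ Z := by
      have : h * h' = h * Q.sys.rep w * k⁻¹ := by rw [ek]; group
      rw [this]
      exact mul_mem hmid (inv_mem hk.2)
    rw [e, ek, show u * h * (h' * k) * v = u * (h * h') * k * v by group]
    exact mul_mem (mul_mem (mul_mem (hUK hu) (hHZ _ (mul_mem hh hh') hhh)) hk.1) (hUK hvU)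
  have hLG : L ≤ D.group F := by
    refine sup_le posUnipotent_le_group ?_
    refine (Subgroup.closure_le _).2 ?_
    rintro g ⟨s, -, t, hg⟩
    rw [show g = Q.K.xU F s t from Units.ext hg]
    exact Q.K.xU_mem_group F s t
  ext g
  rw [Subgroup.mem_inf, Subgroup.mem_centralizer_singleton_iff]
  constructor
  · rintro ⟨hgG, hgc⟩
    exact hZK (x := ⟨g, hgG⟩) (Subgroup.mem_centralizer_singleton_iff.2 (Subtype.ext hgc))
  · intro hgL
    exact ⟨hLG hgL, congrArg Subtype.val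
      (Subgroup.mem_centralizer_singleton_iff.1 (hKZ (x := ⟨g, hLG hgL⟩) hgL))⟩

end Cfsg.Agent.H51
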