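import Cfsg.Agent.H51.RootPairs

/-!
Supports of elements of the positive unipotent group and their behaviour under the Weyl
representatives.
-/

set_option autoImplicit false

namespace Cfsg.Agent.H51

open Cfsg.Lie Cfsg.Agent.H37 Cfsg.Agent.H37.RootSys

section Inter

variable {G F : Type*} [Group G] [Field F] (Y : Unip G F)

/-- The subgroups of two closed sets meet in the subgroup of the intersection. -/
theorem XS_inter {S T : Finset ℕ} (hS : Y.Closed S) (hT : Y.Closed T) {g : G}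
    (hgS : g ∈ XS Y.x (↑S : Set ℕ)) (hgT : g ∈ XS Y.x (↑T : Set ℕ)) :
    g ∈ XS Y.x (↑(S ∩ T) : Set ℕ) := by
  suffices ∀ m k, S.sup id < k + m → ∀ g ∈ XS Y.x {r | r ∈ S ∧ k ≤ r},
      g ∈ XS Y.x {r | r ∈ T ∧ k ≤ r} → g ∈ XS Y.x (↑(S ∩ T) : Set ℕ) by
    refine this (S.sup id + 1) 0 (by omega) g (XS_mono ?_ hgS) (XS_mono ?_ hgT) <;>
      exact fun r hr => ⟨hr, Nat.zero_le r⟩
  intro m
  induction m with
  | zero =>
      intro k hk g hg _
      have : {r | r ∈ S ∧ k ≤ r} = ∅ := by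
        refine Set.eq_empty_iff_forall_notMem.2 fun r hr => ?_
        have := Finset.le_sup (f := id) hr.1
        simp only [id_eq] at this
        have := hr.2
        omega
      rw [this, XS_empty, Subgroup.mem_bot] at hg
      rw [hg]
      exact one_mem _
  | succ m ih =>
      intro k hk g hg hg'
      have hmonoS : ∀ {p}, p ∈ XS Y.x {r | r ∈ S ∧ k < r} → p ∈ XS Y.x {r | r ∈ Y.P ∧ k < r} :=
        fun hp => XS_mono (S' := {r | r ∈ Y.P ∧ k < r}) (fun r hr => ⟨hS.1 hr.1, hr.2⟩) hp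
      have hmonoT : ∀ {p}, p ∈ XS Y.x {r | r ∈ T ∧ k < r} → p ∈ XS Y.x {r | r ∈ Y.P ∧ k < r} :=
        fun hp => XS_mono (S' := {r | r ∈ Y.P ∧ k < r}) (fun r hr => ⟨hT.1 hr.1, hr.2⟩) hp
      by_cases hkS : k ∈ S <;> by_cases hkT : k ∈ T
      · obtain ⟨t, p, hp, rfl⟩ := Y.exists_head hS hkS hg
        obtain ⟨u, p', hp', e⟩ := Y.exists_head hT hkT hg'
        obtain ⟨rfl, rfl⟩ := Y.head_unique Y.closed_P (hS.1 hkS) (hmonoS hp) (hmonoT hp') e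
        exact mul_mem (x_mem_XS (S := (↑(S ∩ T) : Set ℕ)) (Finset.mem_inter.2 ⟨hkS, hkT⟩) t)
          (ih (k + 1) (by omega) p hp hp')
      · obtain ⟨t, p, hp, rfl⟩ := Y.exists_head hS hkS hg
        rw [Unip.tail_of_not_mem hkT] at hg'
        obtain ⟨rfl, -⟩ := Y.head_unique Y.closed_P (hS.1 hkS) (t := t) (u := 0) (hmonoS hp) (hmonoT hg')
          (by rw [Y.x_zero (hS.1 hkS), one_mul])
        rw [Y.x_zero (hS.1 hkS), one_mul] at hg' ⊢
        exact ih (k + 1) (by omega) p hp hg'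
      · obtain ⟨t, p, hp, rfl⟩ := Y.exists_head hT hkT hg'
        rw [Unip.tail_of_not_mem hkS] at hg
        obtain ⟨rfl, -⟩ := Y.head_unique Y.closed_P (hT.1 hkT) (t := t) (u := 0) (hmonoT hp) (hmonoS hg)
          (by rw [Y.x_zero (hT.1 hkT), one_mul])
        rw [Y.x_zero (hT.1 hkT), one_mul] at hg ⊢
        exact ih (k + 1) (by omega) p hg hp
      · rw [Unip.tail_of_not_mem hkS] at hg
        rw [Unip.tail_of_not_mem hkT] at hg'
        exact ih (k + 1) (by omega) g hg hg'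

end Inter

variable {D : ChevalleyDatum} {F : Type*} [Field F] (Q : Chev.Data D F)

/-- The image of a root index under a Weyl group element. -/
noncomputable def img (w : Q.X.M.Group) (r : ℕ) : ℕ :=
  if h : r < D.nroots then (Q.X.good.hom w ⟨r, h⟩).val else r

theorem img_of_lt (w : Q.X.M.Group) {r : ℕ} (h : r < D.nroots) :
    img Q w r = (Q.X.good.hom w ⟨r, h⟩).val := dif_pos h

theorem img_lt (w : Q.X.M.Group) {r : ℕ} (h : r < D.nroots) : img Q w r < D.nroots := by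
  rw [img_of_lt Q w h]; exact Fin.isLt _

theorem closed_keep (w : Q.X.M.Group) : Q.sys.toUnip.Closed (Sys.keep Q.X.good w) := by
  refine ⟨by rw [Q.sys.P_eq]; exact Finset.filter_subset _ _, fun r hr s hs _ k hk => ?_⟩
  obtain ⟨hr1, hr2, hr3⟩ := Sys.mem_keep.1 hr
  obtain ⟨hs1, hs2, hs3⟩ := Sys.mem_keep.1 hs
  have hk1 := (Q.sys.T_pos (Q.sys.P_eq ▸ mem_posSet.2 ⟨hr1, hr2⟩)
    (Q.sys.P_eq ▸ mem_posSet.2 ⟨hs1, hs2⟩) hk).1
  rw [Q.sys.P_eq, mem_posSet] at hk1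
  have h := (Q.sys.T_pos (Q.sys.P_eq ▸ mem_posSet.2 ⟨Fin.isLt _, hr3⟩)
    (Q.sys.P_eq ▸ mem_posSet.2 ⟨Fin.isLt _, hs3⟩) (Q.sys.T_hom w r s k hr1 hs1 hk1.1 hk)).1
  rw [Q.sys.P_eq, mem_posSet] at h
  exact Sys.mem_keep.2 ⟨hk1.1, hk1.2, h.2⟩

theorem closed_inter {S T : Finset ℕ} (hS : Q.sys.toUnip.Closed S) (hT : Q.sys.toUnip.Closed T) :
    Q.sys.toUnip.Closed (S ∩ T) :=
  ⟨fun _ h => hS.1 (Finset.mem_inter.1 h).1, fun r hr s hs hne k hk => Finset.mem_inter.2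
    ⟨hS.2 r (Finset.mem_inter.1 hr).1 s (Finset.mem_inter.1 hs).1 hne k hk,
      hT.2 r (Finset.mem_inter.1 hr).2 s (Finset.mem_inter.1 hs).2 hne k hk⟩⟩

theorem closed_image (w : Q.X.M.Group) {T : Finset ℕ} (hT : Q.sys.toUnip.Closed T)
    (hkeep : T ⊆ Sys.keep Q.X.good w) : Q.sys.toUnip.Closed (T.image (img Q w)) := by
  constructor
  · intro a ha
    obtain ⟨r, hr, rfl⟩ := Finset.mem_image.1 ha
    obtain ⟨h1, -, h3⟩ := Sys.mem_keep.1 (hkeep hr)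
    rw [Q.sys.P_eq, mem_posSet, img_of_lt Q w h1]
    exact ⟨Fin.isLt _, h3⟩
  · intro a ha b hb hne k hk
    obtain ⟨r, hr, rfl⟩ := Finset.mem_image.1 ha
    obtain ⟨s, hs, rfl⟩ := Finset.mem_image.1 hb
    obtain ⟨hr1, hr2, hr3⟩ := Sys.mem_keep.1 (hkeep hr)
    obtain ⟨hs1, hs2, hs3⟩ := Sys.mem_keep.1 (hkeep hs)
    rw [img_of_lt Q w hr1, img_of_lt Q w hs1] at hk
    have hk1 : k < D.nroots := hk.1
    have hback := Q.sys.T_hom w⁻¹ _ _ k (Fin.isLt _) (Fin.isLt _) hk1 hk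
    simp only [Fin.eta, map_inv, Equiv.Perm.inv_def, Equiv.symm_apply_apply] at hback
    refine Finset.mem_image.2 ⟨_, hT.2 r hr s hs (fun e => hne (by rw [e])) _ hback, ?_⟩
    rw [img_of_lt Q w (Fin.isLt _), Fin.eta]
    simp

/-- An element whose conjugate by a representative stays positive lives on the roots kept
positive, and the conjugate lives on their images. -/
theorem supp_of_conj {S : Finset ℕ} (hS : Q.sys.toUnip.Closed S) (w : Q.X.M.Group)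
    {h g : ↥(D.group F)} (hh : h ∈ Q.sys.H) (hg : g ∈ XS Q.sys.x (↑S : Set ℕ))
    (hconj : h * Q.sys.rep w * g * (h * Q.sys.rep w)⁻¹ ∈ Q.sys.U) :
    g ∈ XS Q.sys.x (↑(S ∩ Sys.keep Q.X.good w) : Set ℕ) ∧
      h * Q.sys.rep w * g * (h * Q.sys.rep w)⁻¹ ∈
        XS Q.sys.x (↑((S ∩ Sys.keep Q.X.good w).image (img Q w)) : Set ℕ) := by
  have hgU : g ∈ Q.sys.U := XS_mono (fun r hr => Q.sys.P_eq ▸ hS.1 hr) hg
  have h1 : Q.sys.rep w * g * (Q.sys.rep w)⁻¹ ∈ Q.sys.U := by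
    have := Q.sys.H_conj_U (inv_mem hh) hconj
    rwa [show h⁻¹ * (h * Q.sys.rep w * g * (h * Q.sys.rep w)⁻¹) * h⁻¹⁻¹ =
      Q.sys.rep w * g * (Q.sys.rep w)⁻¹ by group] at this
  obtain ⟨a, ha, b, hb, rfl⟩ := Q.sys.U_split w hgU
  have ha' := Q.sys.keep_conj w ha
  have hb' := Q.sys.flip_conj w hb
  have hb1 : Q.sys.rep w * b * (Q.sys.rep w)⁻¹ ∈ Q.sys.U := by
    have := mul_mem (inv_mem ha') h1
    rwa [show (Q.sys.rep w * a * (Q.sys.rep w)⁻¹)⁻¹ * (Q.sys.rep w * (a * b) * (Q.sys.rep w)⁻¹) =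
      Q.sys.rep w * b * (Q.sys.rep w)⁻¹ by group] at this
  have hb2 : b = 1 := conj_eq_one_iff.1 (Q.sys.UHV _ hb1 1 (one_mem _) _ hb' (mul_one _))
  subst hb2
  rw [mul_one] at hg ⊢
  have hkeep : a ∈ XS Q.sys.x (↑(S ∩ Sys.keep Q.X.good w) : Set ℕ) :=
    XS_inter Q.sys.toUnip hS (closed_keep Q w) hg ha
  refine ⟨hkeep, conj_mem_XS (fun r hr t => ?_) hkeep⟩
  have hr1 : r < D.nroots := (Sys.mem_keep.1 (Finset.mem_inter.1 hr).2).1
  obtain ⟨t1, e1⟩ := Q.sys.rep_conj w r hr1 t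
  obtain ⟨t2, e2⟩ := Q.sys.h_conj h hh _ (Fin.isLt _) t1
  rw [show h * Q.sys.rep w * Q.sys.x r t * (h * Q.sys.rep w)⁻¹ =
    h * (Q.sys.rep w * Q.sys.x r t * (Q.sys.rep w)⁻¹) * h⁻¹ by group, e1, e2]
  exact x_mem_XS (Finset.mem_coe.2 (Finset.mem_image.2 ⟨r, hr, by rw [img_of_lt Q w hr1]⟩)) t2

/-- If an element with non-zero first coordinate at `k` comes from an element on `S` by a
representative, then `k` is the image of a root of `S`. -/
theorem exists_preimage {S : Finset ℕ} (hS : Q.sys.toUnip.Closed S) (w : Q.X.M.Group)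
    {h g : ↥(D.group F)} (hh : h ∈ Q.sys.H) (hg : g ∈ XS Q.sys.x (↑S : Set ℕ))
    {k : ℕ} (hk : k < D.nroots) (hkp : D.nroots / 2 ≤ k) {t : F} (ht : t ≠ 0) {p : ↥(D.group F)}
    (hp : p ∈ XS Q.sys.x {r | r ∈ posSet D ∧ k < r})
    (e : h * Q.sys.rep w * g * (h * Q.sys.rep w)⁻¹ = Q.sys.x k t * p) :
    ∃ r ∈ S, D.nroots / 2 ≤ r ∧ img Q w r = k := by
  by_contra hcon
  push Not at hcon
  have hpU : Q.sys.x k t * p ∈ Q.sys.U :=
    mul_mem (Q.sys.x_mem_U hk hkp t) (XS_mono (fun r hr => hr.1) hp)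
  obtain ⟨-, hmem⟩ := supp_of_conj Q hS w hh hg (e ▸ hpU)
  set T := (S ∩ Sys.keep Q.X.good w).image (img Q w) with hTdef
  have hT : Q.sys.toUnip.Closed T :=
    closed_image Q w (closed_inter Q hS (closed_keep Q w)) Finset.inter_subset_right
  have hP : Q.sys.toUnip.Closed Q.sys.P := Q.sys.toUnip.closed_P
  have hkT : k ∉ T := fun hkT => by
    obtain ⟨r, hr, e'⟩ := Finset.mem_image.1 hkT
    exact hcon r (Finset.mem_inter.1 hr).1 (Sys.mem_keep.1 (Finset.mem_inter.1 hr).2).2.1 e'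
  rw [e] at hmem
  have hS' : Q.sys.toUnip.Closed (Q.sys.P.filter fun r => k ≤ r) :=
    ⟨Finset.filter_subset _ _, fun r hr s hs hne j hj => Finset.mem_filter.2
      ⟨(Q.sys.T_pos (Finset.mem_filter.1 hr).1 (Finset.mem_filter.1 hs).1 hj).1,
        le_trans (Finset.mem_filter.1 hr).2
          (Q.sys.T_pos (Finset.mem_filter.1 hr).1 (Finset.mem_filter.1 hs).1 hj).2.1.le⟩⟩
  have h2 : Q.sys.x k t * p ∈ XS Q.sys.x (↑(Q.sys.P.filter fun r => k ≤ r) : Set ℕ) := by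
    refine mul_mem (x_mem_XS (Finset.mem_coe.2 (Finset.mem_filter.2
      ⟨Q.sys.P_eq ▸ mem_posSet.2 ⟨hk, hkp⟩, le_rfl⟩)) t) (XS_mono ?_ hp)
    exact fun r hr => Finset.mem_coe.2 (Finset.mem_filter.2 ⟨Q.sys.P_eq ▸ hr.1, hr.2.le⟩)
  have h3 := XS_inter Q.sys.toUnip hS' hT h2 hmem
  have h4 : Q.sys.x k t ∈ XS Q.sys.x {r | r ∈ Q.sys.P ∧ k < r} := by
    have := mul_mem (XS_mono (S' := {r | r ∈ Q.sys.P ∧ k < r}) ?_ h3)
      (inv_mem (XS_mono (S' := {r | r ∈ Q.sys.P ∧ k < r}) ?_ hp))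
    · rwa [mul_inv_cancel_right] at this
    · intro r hr
      obtain ⟨hr1, hr2⟩ := Finset.mem_inter.1 hr
      exact ⟨(Finset.mem_filter.1 hr1).1, lt_of_le_of_ne (Finset.mem_filter.1 hr1).2
        fun he => hkT (he ▸ hr2)⟩
    · exact fun r hr => ⟨Q.sys.P_eq ▸ hr.1, hr.2⟩
  exact ht (Q.sys.sep (Q.sys.P_eq ▸ mem_posSet.2 ⟨hk, hkp⟩) t h4)

end Cfsg.Agent.H51
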