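import Cfsg.Agent.H51.RootCases
import Cfsg.Agent.H51.Supports

/-!
Tools for centralisers of products of two commuting root elements in characteristic two.
-/

set_option autoImplicit false
set_option maxRecDepth 100000

namespace Cfsg.Agent.H51.CW

open Cfsg.Lie Cfsg.Agent.H37 Cfsg.Agent.H37.RootSys

variable {D : ChevalleyDatum} {F : Type*} [Field F] (Q : Chev.Data D F)

/-- A numerical certificate that a list of positive roots is closed. -/
def closedB (D : ChevalleyDatum) (B : List ℕ) : Bool :=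
  B.all fun r => decide (r < D.nroots) && decide (D.nroots / 2 ≤ r) && B.all fun s => r == s ||
    (List.range D.nroots).all fun k => B.contains k || decide (k ≤ r) || decide (k ≤ s) ||
      (List.range D.rank).any fun i =>
        (decide (D.cartan i r ≤ 0) && decide (D.cartan i s ≤ 0) && decide (0 < D.cartan i k)) ||
        (decide (0 ≤ D.cartan i r) && decide (0 ≤ D.cartan i s) && decide (D.cartan i k < 0))

include Q in
theorem T_cartan {r s k : ℕ} (hr : r < D.nroots) (hs : s < D.nroots) (h : Combo Q.K r s k)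
    {i : ℕ} (hi : i < D.rank) : ∃ a b : ℕ, 0 < a ∧ 0 < b ∧
      D.cartan i k = a * D.cartan i r + b * D.cartan i s := by
  obtain ⟨hk, a, b, ha, hb, e⟩ := h
  refine ⟨a, b, ha, hb, ?_⟩
  rw [Q.K.cartan_lin i hi k hk, Q.K.cartan_lin i hi r hr, Q.K.cartan_lin i hi s hs,
    ← List.sum_map_mul_left, ← List.sum_map_mul_left, ← List.sum_map_add]
  refine congrArg List.sum (List.map_congr_left fun m hm => ?_)
  rw [e m (List.mem_range.1 hm)]
  ring

theorem closed_of_closedB {B : List ℕ} (h : closedB D B = true) :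
    Q.sys.toUnip.Closed B.toFinset := by
  simp only [closedB, List.all_eq_true, Bool.and_eq_true, decide_eq_true_eq, Bool.or_eq_true,
    beq_iff_eq, List.mem_range, List.contains_iff_mem, List.any_eq_true] at h
  constructor
  · intro r hr
    rw [List.mem_toFinset] at hr
    exact Q.sys.P_eq ▸ mem_posSet.2 ⟨(h r hr).1.1, (h r hr).1.2⟩
  · intro r hr s hs hne k hk
    rw [List.mem_toFinset] at hr hs ⊢
    obtain ⟨⟨hr1, hr2⟩, hall⟩ := h r hr
    obtain ⟨⟨hs1, hs2⟩, -⟩ := h s hs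
    obtain ⟨hkP, hrk, hsk⟩ := Q.sys.T_pos (Q.sys.P_eq ▸ mem_posSet.2 ⟨hr1, hr2⟩)
      (Q.sys.P_eq ▸ mem_posSet.2 ⟨hs1, hs2⟩) hk
    rw [Q.sys.P_eq, mem_posSet] at hkP
    rcases (hall s hs).resolve_left hne k hkP.1 with ((h' | h') | h') | ⟨i, hi, h'⟩
    · exact h'
    · omega
    · omega
    · exfalso
      obtain ⟨a, b, ha, hb, e⟩ := T_cartan Q hr1 hs1 hk hi
      rcases h' with ⟨⟨h1, h2⟩, h3⟩ | ⟨⟨h1, h2⟩, h3⟩
      · have := mul_nonpos_of_nonneg_of_nonpos (Int.natCast_nonneg a) h1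
        have := mul_nonpos_of_nonneg_of_nonpos (Int.natCast_nonneg b) h2
        omega
      · have := mul_nonneg (Int.natCast_nonneg a) h1
        have := mul_nonneg (Int.natCast_nonneg b) h2
        omega

theorem closed_from (k : ℕ) : Q.sys.toUnip.Closed (Q.sys.P.filter fun r => k ≤ r) :=
  ⟨Finset.filter_subset _ _, fun _ hr _ hs _ _ hj => Finset.mem_filter.2
    ⟨(Q.sys.T_pos (Finset.mem_filter.1 hr).1 (Finset.mem_filter.1 hs).1 hj).1,
      le_trans (Finset.mem_filter.1 hr).2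
        (Q.sys.T_pos (Finset.mem_filter.1 hr).1 (Finset.mem_filter.1 hs).1 hj).2.1.le⟩⟩

theorem eq_zero_of_mem {S : Finset ℕ} (hS : Q.sys.toUnip.Closed S) {k : ℕ} (hk : k < D.nroots)
    (hp : D.nroots / 2 ≤ k) (hkS : k ∉ S) {t : F} (h : Q.sys.x k t ∈ XS Q.sys.x (↑S : Set ℕ)) :
    t = 0 := by
  have hkP : k ∈ Q.sys.P := Q.sys.P_eq ▸ mem_posSet.2 ⟨hk, hp⟩
  have h1 := XS_inter Q.sys.toUnip (closed_from Q k) hS
    (x_mem_XS (Finset.mem_coe.2 (Finset.mem_filter.2 ⟨hkP, le_rfl⟩)) t) h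
  refine Q.sys.sep hkP t (XS_mono ?_ h1)
  intro r hr
  obtain ⟨h1, h2⟩ := Finset.mem_inter.1 hr
  exact ⟨(Finset.mem_filter.1 h1).1, lt_of_le_of_ne (Finset.mem_filter.1 h1).2
    fun he => hkS (he ▸ h2)⟩

/-- The commutator relation as a product. -/
theorem comm_list {r s : ℕ} (hr : r < D.nroots) (hs : s < D.nroots) (h1 : s ≠ r)
    (h2 : s ≠ D.neg r) (t u : F) :
    Q.sys.x s u * Q.sys.x r t = Q.sys.x r t * Q.sys.x s u *
      ((D.commTerms r s).map fun c =>
        Q.sys.x c.1 ((c.2.1 : F) * (-t) ^ c.2.2.1 * u ^ c.2.2.2)).prod := by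
  refine Subtype.ext ?_
  simp only [Subgroup.coe_mul, SubmonoidClass.coe_list_prod, List.map_map]
  change Q.K.xU F s u * Q.K.xU F r t = _
  rw [Q.K.xU_comm F hr hs h1 h2, ChevalleyDatum.commWord, Chevalley.Cert.wU, List.map_map]
  rfl

variable [CharP F 2]

theorem x_even {k : ℕ} {z : ℤ} (hz : (2 : ℤ) ∣ z) (s : F) : Q.sys.x k ((z : F) * s) = 1 := by
  obtain ⟨j, rfl⟩ := hz
  refine Subtype.ext ?_
  change Q.K.xU F k _ = 1
  rw [Int.cast_mul, Int.cast_ofNat, CharTwo.two_eq_zero, zero_mul, zero_mul, Q.K.xU_zero]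

/-- Conjugating a root element by another one: the error lies on the odd terms. -/
theorem conj_x {r k : ℕ} (hr : r < D.nroots) (hr' : D.nroots / 2 ≤ r) (hk : k < D.nroots)
    (hk' : D.nroots / 2 ≤ k) {B : Set ℕ}
    (hB : ∀ c ∈ D.commTerms r k, (2 : ℤ) ∣ c.2.1 ∨ c.1 ∈ B) (t u : F) :
    ∃ m ∈ XS Q.sys.x B, (Q.sys.x r t)⁻¹ * Q.sys.x k u * Q.sys.x r t = Q.sys.x k u * m := by
  by_cases hrk : k = r
  · subst hrk
    exact ⟨1, one_mem _, by
      rw [mul_one, mul_assoc, inv_mul_eq_iff_eq_mul, ← Q.sys.x_add' _ hr, ← Q.sys.x_add' _ hr,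
        add_comm]⟩
  · have hneg : k ≠ D.neg r := by rw [Q.K.neg_eq r hr]; have := Q.K.two_half; omega
    refine ⟨_, Subgroup.list_prod_mem _ ?_, by
      rw [mul_assoc, comm_list Q hr hk hrk hneg, mul_assoc, inv_mul_cancel_left]⟩
    intro g hg
    obtain ⟨c, hc, rfl⟩ := List.mem_map.1 hg
    rcases hB c hc with h | h
    · rw [mul_assoc (c.2.1 : F), x_even Q h]
      exact one_mem _
    · exact x_mem_XS h _

/-- Root elements with only even commutator terms commute. -/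
theorem commute_x {r k : ℕ} (hr : r < D.nroots) (hr' : D.nroots / 2 ≤ r) (hk : k < D.nroots)
    (hk' : D.nroots / 2 ≤ k) (hB : ∀ c ∈ D.commTerms r k, (2 : ℤ) ∣ c.2.1) (t u : F) :
    Q.sys.x k u * Q.sys.x r t = Q.sys.x r t * Q.sys.x k u := by
  obtain ⟨m, hm, e⟩ := conj_x Q hr hr' hk hk' (B := ∅) (fun c hc => Or.inl (hB c hc)) t u
  rw [XS_empty, Subgroup.mem_bot] at hm
  rwa [hm, mul_one, mul_assoc, inv_mul_eq_iff_eq_mul] at e

/-- One odd term. -/
theorem conj_single {r k j : ℕ} (hr : r < D.nroots) (hr' : D.nroots / 2 ≤ r) (hk : k < D.nroots)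
    (hk' : D.nroots / 2 ≤ k) (hne : k ≠ r) {z : ℤ} (hz : ¬ (2 : ℤ) ∣ z)
    (hL : D.commTerms r k = [(j, z, 1, 1)]) (t : F) :
    (Q.sys.x r t)⁻¹ * Q.sys.x k 1 * Q.sys.x r t = Q.sys.x k 1 * Q.sys.x j t := by
  have hneg : k ≠ D.neg r := by rw [Q.K.neg_eq r hr]; have := Q.K.two_half; omega
  obtain ⟨m, hm⟩ : Odd z := Int.not_even_iff_odd.1 fun h => hz (even_iff_two_dvd.1 h)
  rw [mul_assoc, comm_list Q hr hk hne hneg, hL, mul_assoc, inv_mul_cancel_left]
  simp [hm, CharTwo.two_eq_zero, CharTwo.neg_eq]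

/-- The table condition under which elements on `R` move `x k` only inside `B`. -/
def moveB (D : ChevalleyDatum) (R B : List ℕ) (ks : List ℕ) : Bool :=
  R.all fun r => decide (r < D.nroots) && decide (D.nroots / 2 ≤ r) && (B ++ ks).all fun k =>
    decide (k < D.nroots) && decide (D.nroots / 2 ≤ k) &&
    (D.commTerms r k).all fun c => decide ((2 : ℤ) ∣ c.2.1) || B.contains c.1

theorem moveB_spec {R B ks : List ℕ} (h : moveB D R B ks = true) {r k : ℕ} (hr : r ∈ R)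
    (hk : k ∈ B ∨ k ∈ ks) (t u : F) : ∃ m ∈ XS Q.sys.x (↑B.toFinset : Set ℕ),
      (Q.sys.x r t)⁻¹ * Q.sys.x k u * Q.sys.x r t = Q.sys.x k u * m := by
  simp only [moveB, List.all_eq_true, Bool.and_eq_true, decide_eq_true_eq, Bool.or_eq_true,
    List.contains_iff_mem, List.mem_append] at h
  obtain ⟨⟨hr1, hr2⟩, hall⟩ := h r hr
  obtain ⟨⟨hk1, hk2⟩, hc⟩ := hall k hk
  exact conj_x Q hr1 hr2 hk1 hk2 (fun c hc' => (hc c hc').imp id
    fun h' => Finset.mem_coe.2 (List.mem_toFinset.2 h')) t u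

theorem le_normalizer {R B ks : List ℕ} (h : moveB D R B ks = true) :
    XS Q.sys.x (↑R.toFinset : Set ℕ) ≤
      Subgroup.normalizer (XS Q.sys.x (↑B.toFinset : Set ℕ) : Set ↥(D.group F)) := by
  have key : ∀ r ∈ R, ∀ t, ∀ g ∈ XS Q.sys.x (↑B.toFinset : Set ℕ),
      (Q.sys.x r t)⁻¹ * g * Q.sys.x r t ∈ XS Q.sys.x (↑B.toFinset : Set ℕ) := fun r hr t g hg => by
    have := conj_mem_XS (a := (Q.sys.x r t)⁻¹) (K := XS Q.sys.x (↑B.toFinset : Set ℕ))
      (fun k hk u => ?_) hg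
    · rwa [inv_inv] at this
    · rw [inv_inv]
      obtain ⟨m, hm, e⟩ := moveB_spec Q h hr
        (Or.inl (List.mem_toFinset.1 (Finset.mem_coe.1 hk))) t u
      rw [e]
      exact mul_mem (x_mem_XS hk u) hm
  refine XS_le fun r hr t => ?_
  have hr' := List.mem_toFinset.1 (Finset.mem_coe.1 hr)
  have hr0 : r < D.nroots := by
    simp only [moveB, List.all_eq_true, Bool.and_eq_true, decide_eq_true_eq] at h
    exact (h r hr').1.1
  have hinv : Q.sys.x r (-t) = (Q.sys.x r t)⁻¹ :=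
    eq_inv_of_mul_eq_one_left (by rw [← Q.sys.x_add' r hr0, neg_add_cancel, Q.sys.x_zero' hr0])
  rw [Subgroup.mem_normalizer_iff]
  intro g
  constructor
  · intro hg
    have := key r hr' (-t) g hg
    rwa [hinv, inv_inv] at this
  · intro hg
    have := key r hr' t _ hg
    simpa [mul_assoc] using this

/-- Elements on `R` move `x k u` only inside `B`. -/
theorem move {R B ks : List ℕ} (h : moveB D R B ks = true) {k : ℕ} (hk : k ∈ ks) (u : F)
    {p : ↥(D.group F)} (hp : p ∈ XS Q.sys.x (↑R.toFinset : Set ℕ)) :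
    ∃ m ∈ XS Q.sys.x (↑B.toFinset : Set ℕ), p⁻¹ * Q.sys.x k u * p = Q.sys.x k u * m := by
  have hn := le_normalizer Q h
  induction hp using Subgroup.closure_induction with
  | mem g hg =>
      obtain ⟨r, hr, t, rfl⟩ := hg
      exact moveB_spec Q h (List.mem_toFinset.1 (Finset.mem_coe.1 hr)) (Or.inr hk) t u
  | one => exact ⟨1, one_mem _, by group⟩
  | mul a b _ hb iha ihb =>
      obtain ⟨m, hm, e⟩ := iha
      obtain ⟨m', hm', e'⟩ := ihb
      refine ⟨m' * (b⁻¹ * m * b), mul_mem hm'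
        ((Subgroup.mem_normalizer_iff''.1 (hn hb) m).1 hm), ?_⟩
      calc (a * b)⁻¹ * Q.sys.x k u * (a * b) = b⁻¹ * (a⁻¹ * Q.sys.x k u * a) * b := by group
        _ = (b⁻¹ * Q.sys.x k u * b) * (b⁻¹ * m * b) := by rw [e]; group
        _ = _ := by rw [e']; group
  | inv a ha iha =>
      obtain ⟨m, hm, e⟩ := iha
      refine ⟨(a * m * a⁻¹)⁻¹, inv_mem ((Subgroup.mem_normalizer_iff.1 (hn ha) m).1 hm), ?_⟩
      calc a⁻¹⁻¹ * Q.sys.x k u * a⁻¹
          = a * (Q.sys.x k u * m) * a⁻¹ * (a * m * a⁻¹)⁻¹ := by group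
        _ = _ := by rw [← e]; group

/-- The product of two moved elements. -/
theorem move_pair {R B ks : List ℕ} (h : moveB D R B ks = true) {k l : ℕ} (hk : k ∈ ks)
    (hl : l ∈ ks) (hlR : l ∈ R) (u u' : F) {p : ↥(D.group F)}
    (hp : p ∈ XS Q.sys.x (↑R.toFinset : Set ℕ)) :
    ∃ m ∈ XS Q.sys.x (↑B.toFinset : Set ℕ),
      p⁻¹ * (Q.sys.x k u * Q.sys.x l u') * p = Q.sys.x k u * Q.sys.x l u' * m := by
  obtain ⟨m, hm, e⟩ := move Q h hk u hp
  obtain ⟨m', hm', e'⟩ := move Q h hl u' hp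
  have hx := le_normalizer Q h (x_mem_XS (Finset.mem_coe.2 (List.mem_toFinset.2 hlR)) u')
  refine ⟨(Q.sys.x l u')⁻¹ * m * Q.sys.x l u' * m',
    mul_mem ((Subgroup.mem_normalizer_iff''.1 hx m).1 hm) hm', ?_⟩
  calc p⁻¹ * (Q.sys.x k u * Q.sys.x l u') * p
      = (p⁻¹ * Q.sys.x k u * p) * (p⁻¹ * Q.sys.x l u' * p) := by group
    _ = _ := by rw [e, e']; group

end Cfsg.Agent.H51.CW
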