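import Cfsg.Agent.H37.Chev.Struct
import Cfsg.Agent.Chevalley.Torus

/-!
The positive unipotent group is a Sylow subgroup for the characteristic.
-/

set_option autoImplicit false

namespace Cfsg.Agent.H51

open Cfsg.Lie Cfsg.Agent.H37 Cfsg.Agent.H37.RootSys

variable {D : ChevalleyDatum} {F : Type*} [Field F] (Q : Chev.Data D F)
variable [Finite F] {p : ℕ} [Fact p.Prime] [CharP F p]

theorem not_dvd_card_H : ¬ p ∣ Nat.card Q.sys.H := by
  intro hdvd
  have h1 : Nat.card Q.sys.H ∣ Nat.card (Fin D.rank → Fˣ) := by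
    rw [show Nat.card Q.sys.H = Nat.card (D.diagonalSubgroup F) from Q.card_H,
      Q.K.diagonalSubgroup_eq]
    exact Subgroup.card_range_dvd _
  have : Fintype F := Fintype.ofFinite F
  rw [Nat.card_pi, Finset.prod_const, Nat.card_units] at h1
  have h2 := (Fact.out (p := p.Prime)).dvd_of_dvd_pow (hdvd.trans h1)
  obtain ⟨k, hp, hk⟩ := FiniteField.card F p
  rw [Nat.card_eq_fintype_card, hk] at h2
  have h3 : p ∣ p ^ (k : ℕ) := dvd_pow_self p k.pos.ne'
  have h4 : 1 ≤ p ^ (k : ℕ) := Nat.one_le_pow _ _ hp.pos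
  have h5 := Nat.dvd_sub h3 h2
  rw [Nat.sub_sub_self h4, Nat.dvd_one] at h5
  exact hp.one_lt.ne' h5

theorem not_dvd_index_U : ¬ p ∣ Q.sys.U.index := by
  classical
  have := Q.X.good.finite
  have : Fintype Q.X.M.Group := Fintype.ofFinite _
  have : Fintype F := Fintype.ofFinite F
  have : Finite ↥(D.group F) := inferInstance
  have hc := Q.sys.normalForm.card_eq
  have hU : 0 < Nat.card Q.sys.U := Nat.card_pos
  have hi : Q.sys.U.index = Nat.card Q.sys.H * ∑ w, Nat.card (Q.sys.Uw w) := by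
    refine Nat.eq_of_mul_eq_mul_left hU ?_
    rw [Subgroup.card_mul_index, hc, mul_assoc]
    rfl
  rw [hi, (Fact.out (p := p.Prime)).dvd_mul, not_or]
  refine ⟨not_dvd_card_H Q, fun hdvd => ?_⟩
  rw [Finset.sum_eq_add_sum_sdiff_singleton_of_mem (Finset.mem_univ (1 : Q.X.M.Group))] at hdvd
  have h2 : p ∣ ∑ w ∈ Finset.univ \ {1}, Nat.card (Q.sys.Uw w) := by
    refine Finset.dvd_sum fun w hw => ?_
    rw [Q.sys.card_Uw]
    have hne : w ≠ 1 := by simpa using hw
    refine dvd_pow ?_ fun h0 => hne (Q.X.good.eq_one_of_inv_eq_zero h0)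
    obtain ⟨k, -, hk⟩ := FiniteField.card F p
    rw [Nat.card_eq_fintype_card, hk]
    exact dvd_pow_self p k.pos.ne'
  have h1 := (Nat.dvd_add_left h2).1 hdvd
  rw [Q.sys.Uw_one, Subgroup.card_bot, Nat.dvd_one] at h1
  exact (Fact.out (p := p.Prime)).one_lt.ne' h1

/-- Every `p`-element is conjugate into `U`. -/
theorem exists_conj_mem_U {g : ↥(D.group F)} {k : ℕ} (hg : g ^ p ^ k = 1) :
    ∃ c : ↥(D.group F), c * g * c⁻¹ ∈ Q.sys.U := by
  have : Finite ↥(D.group F) := inferInstance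
  have hUp : IsPGroup p Q.sys.U := by
    have : Fintype F := Fintype.ofFinite F
    obtain ⟨a, -, ha⟩ := FiniteField.card F p
    refine IsPGroup.of_card (n := (a : ℕ) * (D.nroots / 2)) ?_
    rw [Q.sys.card_U, Nat.card_eq_fintype_card, ha, ← pow_mul]
  have hzp : IsPGroup p (Subgroup.zpowers g) := fun x => by
    obtain ⟨n, hn⟩ := Subgroup.mem_zpowers_iff.1 x.2
    refine ⟨k, Subtype.ext ?_⟩
    rw [Subgroup.coe_pow, Subgroup.coe_one, ← hn, ← zpow_natCast, ← zpow_mul, mul_comm, zpow_mul,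
      zpow_natCast, hg, one_zpow]
  obtain ⟨P, hP⟩ := hzp.exists_le_sylow
  obtain ⟨U', hU'⟩ := hUp.exists_le_sylow
  have heq : (U' : Subgroup ↥(D.group F)) = Q.sys.U := by
    refine (Subgroup.eq_of_le_of_card_ge hU' ?_).symm
    have h1 := Subgroup.relIndex_mul_index hU'
    have h2 : Q.sys.U.relIndex (U' : Subgroup ↥(D.group F)) = 1 := by
      obtain ⟨b, hb⟩ := U'.isPGroup'.index
        (Q.sys.U.subgroupOf (U' : Subgroup ↥(D.group F)))
      rcases Nat.eq_zero_or_pos b with h0 | h0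
      · rw [Subgroup.relIndex, hb, h0, pow_zero]
      · exfalso
        refine not_dvd_index_U Q ?_
        rw [← h1, Subgroup.relIndex, hb]
        exact dvd_mul_of_dvd_left (dvd_pow_self p h0.ne') _
    have h3 := Subgroup.card_mul_index (Q.sys.U.subgroupOf (U' : Subgroup ↥(D.group F)))
    rw [show (Q.sys.U.subgroupOf (U' : Subgroup ↥(D.group F))).index = 1 from h2, mul_one,
      Nat.card_congr (Subgroup.subgroupOfEquivOfLe hU').toEquiv] at h3
    exact le_of_eq h3.symm
  obtain ⟨c, hc⟩ := MulAction.exists_smul_eq (↥(D.group F)) P U'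
  refine ⟨c, ?_⟩
  rw [← heq, ← hc, Sylow.coe_subgroup_smul]
  exact Subgroup.smul_mem_pointwise_smul _ _ _ (hP (Subgroup.mem_zpowers g))

end Cfsg.Agent.H51
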