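import Cfsg.Agent.Orthogonal.Basic

/-!
Over a finite field of characteristic two, elements of an orthogonal group that are conjugate under
the group of the polar form are conjugate in the orthogonal group itself.
-/

set_option autoImplicit false

namespace Cfsg.Agent.H51

open QuadraticMap Module Cfsg.Agent.Orthogonal

section CharTwoConj

variable {F : Type*} [Field F] [Finite F] [CharP F 2]

/-- The Artin–Schreier map `y ↦ y ^ 2 + y`. -/
def asHom : F →+ F where
  toFun y := y ^ 2 + y
  map_zero' := by simp
  map_add' x y := by rw [CharTwo.add_sq]; ring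

theorem asHom_apply (y : F) : asHom y = y ^ 2 + y := rfl

theorem index_asHom_range : (asHom (F := F)).range.index = 2 := by
  have hker : ((asHom (F := F)).ker : Set F) = {0, 1} := by
    ext y
    simp only [SetLike.mem_coe, AddMonoidHom.mem_ker, asHom_apply, Set.mem_insert_iff,
      Set.mem_singleton_iff]
    constructor
    · intro h
      have : y * (y + 1) = 0 := by linear_combination h
      rcases mul_eq_zero.1 this with h | h
      · exact Or.inl h
      · exact Or.inr (CharTwo.add_eq_zero.1 h)
    · rintro (rfl | rfl)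
      · simp
      · rw [one_pow, CharTwo.add_self_eq_zero]
  have h2 : Nat.card (asHom (F := F)).ker = 2 := by
    rw [← SetLike.coe_sort_coe, hker, Nat.card_coe_set_eq, Set.ncard_pair zero_ne_one]
  have h3 := (asHom (F := F)).ker.card_mul_index
  rw [AddSubgroup.index_ker, h2] at h3
  have h4 := (asHom (F := F)).range.card_mul_index
  rw [← h3, mul_comm 2] at h4
  exact Nat.eq_of_mul_eq_mul_left Nat.card_pos h4

open Classical in
/-- The non-trivial additive character of `F` trivial on `y ^ 2 + y`. -/
noncomputable def asSign (x : F) : ℤ := if x ∈ (asHom (F := F)).range then 1 else -1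

theorem asSign_add (x y : F) : asSign (x + y) = asSign x * asSign y := by
  have h := AddSubgroup.add_mem_iff_of_index_two (index_asHom_range (F := F)) (a := x) (b := y)
  unfold asSign
  by_cases hx : x ∈ (asHom (F := F)).range <;> by_cases hy : y ∈ (asHom (F := F)).range <;>
    simp [hx, hy, h]

theorem asSign_zero : asSign (0 : F) = 1 := by
  rw [asSign, if_pos (zero_mem _)]

theorem exists_asSign_neg : ∃ x : F, asSign x = -1 := by
  by_contra h
  push Not at h
  have : (asHom (F := F)).range = ⊤ := eq_top_iff.2 fun x _ => by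
    by_contra hx
    exact h x (by rw [asSign, if_neg hx])
  have h2 := index_asHom_range (F := F)
  rw [this, AddSubgroup.index_top] at h2
  omega

theorem asSign_sq (x : F) : asSign (x ^ 2) = asSign x := by
  have h : asSign (x ^ 2 + x) = 1 := by rw [asSign, if_pos ⟨x, rfl⟩]
  rw [show x ^ 2 = (x ^ 2 + x) + x by rw [CharTwo.add_cancel_right], asSign_add, h, one_mul]

theorem asSign_eq_one {x : F} (h : asSign x = 1) : ∃ y, y ^ 2 + y = x := by
  by_contra hc
  rw [asSign, if_neg fun ⟨y, hy⟩ => hc ⟨y, hy⟩] at h
  norm_num at h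

variable {V : Type*} [AddCommGroup V] [Module F V] [FiniteDimensional F V]
variable {Q : QuadraticForm F V}

/-- Two quadratic forms with the same polar form differ by the square of a linear form. -/
theorem exists_polar_sq (hQ : Nondeg Q) (Q' : QuadraticForm F V)
    (hp : ∀ x y, polar Q' x y = polar Q x y) : ∃ a, ∀ v, Q' v = Q v + polar Q a v ^ 2 := by
  have hinj : Function.Injective fun x : F => x ^ 2 := fun x y h => CharTwo.sq_injective h
  have hsurj : Function.Surjective fun x : F => x ^ 2 := Finite.surjective_of_injective hinj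
  choose r hr using hsurj
  replace hr : ∀ x, r x ^ 2 = x := hr
  let f : V →ₗ[F] F :=
    { toFun := fun v => r (Q' v - Q v)
      map_add' := fun x y => hinj (by
        simp only [CharTwo.add_sq, hr]
        rw [map_add_polar, map_add_polar, hp]; ring)
      map_smul' := fun c x => hinj (by
        simp only [RingHom.id_apply, smul_eq_mul, mul_pow, hr]
        rw [qmap_smul, qmap_smul]; ring) }
  obtain ⟨a, ha⟩ := hQ.exists_repr f
  refine ⟨a, fun v => ?_⟩
  rw [ha v]
  change Q' v = Q v + r (Q' v - Q v) ^ 2
  rw [hr]; ring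

open Classical in
theorem asSign_form_eq_one (hQ : Nondeg Q) (g : V ≃ V) (a : V)
    (hg : ∀ v, Q (g v) = Q v + polar Q a v ^ 2) : asSign (Q a) = 1 := by
  have : Finite V := Module.finite_of_finite F
  let _ : Fintype V := Fintype.ofFinite V
  set S : ℤ := ∑ v, asSign (Q v) with hS
  have hS' : S = asSign (Q a) * S := by
    calc S = ∑ v, asSign (Q (g v)) := (Equiv.sum_comp g fun v => asSign (Q v)).symm
      _ = ∑ v, asSign (Q a) * asSign (Q (v + a)) := by
          refine Finset.sum_congr rfl fun v _ => ?_
          rw [hg, asSign_add, asSign_sq, ← asSign_add, ← asSign_add, map_add_polar,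
            polar_comm Q v a]
          congr 1
          linear_combination -(CharTwo.two_eq_zero (R := F)) * Q a
      _ = asSign (Q a) * S := by
          rw [← Finset.mul_sum, hS, ← Equiv.sum_comp (Equiv.addRight a) fun v => asSign (Q v)]
          rfl
  have hne : S * S = Fintype.card V := by
    have hz : ∀ u : V, u ≠ 0 → ∑ v, asSign (polar Q u v) = 0 := by
      intro u hu
      obtain ⟨x, hx⟩ := exists_asSign_neg (F := F)
      obtain ⟨w, hw⟩ := hQ.exists_polar_eq hu x
      have h : ∑ v, asSign (polar Q u v) = -∑ v, asSign (polar Q u v) := by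
        conv_lhs => rw [← Equiv.sum_comp (Equiv.addRight w) fun v => asSign (polar Q u v)]
        rw [← Finset.sum_neg_distrib]
        refine Finset.sum_congr rfl fun v _ => ?_
        rw [Equiv.coe_addRight, polar_add_right, asSign_add, hw, hx, mul_neg, mul_one]
      omega
    calc S * S = ∑ v, ∑ u, asSign (Q v) * asSign (Q u) := Finset.sum_mul_sum _ _ _ _
      _ = ∑ v, ∑ u, asSign (Q u) * asSign (polar Q u v) := by
          refine Finset.sum_congr rfl fun v _ => ?_
          rw [← Equiv.sum_comp (Equiv.addRight v) fun u => asSign (Q v) * asSign (Q u)]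
          refine Finset.sum_congr rfl fun u _ => ?_
          rw [Equiv.coe_addRight, ← asSign_add, ← asSign_add, map_add_polar]
          congr 1
          linear_combination (CharTwo.two_eq_zero (R := F)) * Q v
      _ = ∑ u, asSign (Q u) * ∑ v, asSign (polar Q u v) := by
          rw [Finset.sum_comm]
          exact Finset.sum_congr rfl fun u _ => (Finset.mul_sum _ _ _).symm
      _ = Fintype.card V := by
          rw [Finset.sum_eq_single 0 (fun u _ hu => by rw [hz u hu, mul_zero]) (by simp)]
          simp [QuadraticMap.map_zero, asSign_zero]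
  refine (mul_eq_right₀ (b := S) (fun h => ?_)).1 hS'.symm
  rw [h, zero_mul] at hne
  exact Fintype.card_ne_zero (by exact_mod_cast hne.symm)

/-- Elements of `O Q` conjugate by an isometry of the polar form are conjugate in `O Q`. -/
theorem isConj_of_polar_conj (hQ : Nondeg Q) {t s : O Q} (g : V ≃ₗ[F] V)
    (hg : ∀ x y, polar Q (g x) (g y) = polar Q x y)
    (hts : ∀ x, g ((t : V ≃ₗ[F] V) x) = (s : V ≃ₗ[F] V) (g x)) : IsConj t s := by
  let Q' : QuadraticForm F V := Q.comp g.symm.toLinearMap
  have hQ' : ∀ x, Q' x = Q (g.symm x) := fun x => rfl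
  obtain ⟨a, ha⟩ := exists_polar_sq hQ Q' fun x y => by
    conv_rhs => rw [← g.apply_symm_apply x, ← g.apply_symm_apply y, hg]
    simp only [polar, hQ', map_add]
  simp only [hQ'] at ha
  have hs : ∀ v, Q (g.symm ((s : V ≃ₗ[F] V) v)) = Q (g.symm v) := fun v => by
    have h := hts (g.symm v)
    rw [g.apply_symm_apply] at h
    rw [← h, g.symm_apply_apply, O.map_app]
  have hsa : (s : V ≃ₗ[F] V) a = a := by
    refine hQ.eq_of_polar fun y => ?_
    obtain ⟨v, rfl⟩ := (s : V ≃ₗ[F] V).surjective y
    have h := hs v
    rw [ha, ha, O.map_app] at h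
    rw [O.polar_app, CharTwo.sq_injective (add_left_cancel h)]
  obtain ⟨c, hc⟩ : ∃ c : F, c + c ^ 2 * Q a = 1 := by
    by_cases hQa : Q a = 0
    · exact ⟨1, by rw [hQa]; ring⟩
    · obtain ⟨y, hy⟩ := asSign_eq_one (asSign_form_eq_one hQ g.symm.toEquiv a ha)
      exact ⟨y / Q a, by field_simp; linear_combination hy⟩
  let h : V →ₗ[F] V := LinearMap.id + c • (Q.polarBilin a).smulRight a
  have hh : ∀ x, h x = x + (c * polar Q a x) • a := fun x => by simp [h, smul_smul]
  have hhinv : Function.Involutive h := fun x => by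
    rw [hh, hh, polar_add_right, polar_smul_right', polar_self', CharTwo.two_eq_zero]
    simp [add_assoc, ← add_smul, CharTwo.add_self_eq_zero]
  let k : V ≃ₗ[F] V := g.trans (LinearEquiv.ofInvolutive h hhinv)
  have hk : ∀ x, k x = h (g x) := fun x => rfl
  have hkO : k ∈ O Q := fun x => by
    rw [hk, hh, map_add_polar, qmap_smul, polar_smul_right', polar_comm Q (g x) a]
    have h1 := ha (g x)
    rw [g.symm_apply_apply] at h1
    linear_combination polar Q a (g x) ^ 2 * hc - h1
  refine isConj_iff.2 ⟨⟨k, hkO⟩, ?_⟩
  rw [mul_inv_eq_iff_eq_mul]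
  refine O.ext_app fun x => ?_
  change k ((t : V ≃ₗ[F] V) x) = (s : V ≃ₗ[F] V) (k x)
  have hp := O.polar_app s a (g x)
  rw [hsa] at hp
  rw [hk, hk, hts, hh, hh, map_add, map_smul, hsa, hp]

variable {ι : Type} [Fintype ι] [DecidableEq ι]

theorem isConj_iff_preserving (Q : QuadraticForm F (ι → F)) (hQ : Nondeg Q)
    (t s : Cfsg.isometryGroup F (⇑Q)) :
    IsConj t s ↔ ∃ g ∈ Cfsg.preserving (Units.coeHom (Matrix ι ι F))
        (fun u v => Q (u + v) - Q u - Q v),
      g * (t : Matrix.GeneralLinearGroup ι F) * g⁻¹ = (s : Matrix.GeneralLinearGroup ι F) := by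
  constructor
  · intro h
    obtain ⟨k, hk⟩ := isConj_iff.1 h
    have h' := (mem_isometryGroup_iff _ _).1 k.2
    refine ⟨k, fun u v => ?_, by rw [← hk]; rfl⟩
    simp only [Units.coeHom_apply, ← Matrix.mulVec_add, h']
  · rintro ⟨g, hg, hgts⟩
    have h : IsConj (toO Q t) (toO Q s) := by
      refine isConj_of_polar_conj hQ (glEquiv g) (fun x y => hg x y) fun x => ?_
      rw [mul_inv_eq_iff_eq_mul] at hgts
      rw [glEquiv_apply, toO_apply, glEquiv_apply, toO_apply, Matrix.mulVec_mulVec,
        Matrix.mulVec_mulVec, ← Units.val_mul, ← Units.val_mul, hgts]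
    obtain ⟨k, hk⟩ := isConj_iff.1 h
    exact isConj_iff.2 ⟨(toO Q).symm k, (toO Q).injective (by
      rw [map_mul, map_mul, map_inv, MulEquiv.apply_symm_apply, hk])⟩

end CharTwoConj

end Cfsg.Agent.H51
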