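import Cfsg.Agent.H51.ChevGen
import Cfsg.Prelude.Def_ChevD4
import Cfsg.Prelude.Def_ChevE6

/-!
Table facts for the simply laced data D₄ and E₆.
-/

set_option autoImplicit false
set_option maxRecDepth 100000

namespace Cfsg.Agent.H51

open Cfsg.Lie Cfsg.Lie.ChevalleyDatum Cfsg.Agent.Chevalley

theorem bondsD4 : ∀ m < chevD4.rank, ∀ j < chevD4.rank, m ≠ j →
    chevD4.cartan m (chevD4.simple j) = -chevD4.bonds m j := by decide +kernel

theorem bondsE6 : ∀ m < chevE6.rank, ∀ j < chevE6.rank, m ≠ j →
    chevE6.cartan m (chevE6.simple j) = -chevE6.bonds m j := by decide +kernel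

theorem cartanSelf {D : ChevalleyDatum} (hD : D ∈ [chevD4, chevE6]) :
    ∀ i < D.rank, D.cartan i (D.simple i) = 2 := by
  simp only [List.mem_cons, List.not_mem_nil, or_false] at hD
  rcases hD with rfl | rfl <;> decide +kernel

theorem cartan_symm {D : ChevalleyDatum} (hD : D ∈ [chevD4, chevE6]) (π : Equiv.Perm (Fin D.rank))
    (hπ : D.IsDiagramSymmetry π) (m i : Fin D.rank) :
    D.cartan (π m) (D.simple (π i)) = D.cartan m (D.simple i) := by
  by_cases h : m = i
  · subst h
    rw [cartanSelf hD _ (π m).2, cartanSelf hD _ m.2]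
  have h1 : (m : ℕ) ≠ i := fun e => h (Fin.ext e)
  have h2 : (π m : ℕ) ≠ π i := fun e => h (π.injective (Fin.ext e))
  simp only [List.mem_cons, List.not_mem_nil, or_false] at hD
  rcases hD with rfl | rfl
  · rw [bondsD4 _ (π m).2 _ (π i).2 h2, bondsD4 _ m.2 _ i.2 h1, hπ m i h]
  · rw [bondsE6 _ (π m).2 _ (π i).2 h2, bondsE6 _ m.2 _ i.2 h1, hπ m i h]

theorem corNodupD4 : ((List.range chevD4.nroots).map fun r =>
    (List.range chevD4.rank).map (cor chevD4 r)).Nodup := by decide +kernel

theorem corNodupE6 : ((List.range chevE6.nroots).map fun r =>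
    (List.range chevE6.rank).map (cor chevE6 r)).Nodup := by decide +kernel

theorem cor_injective {D : ChevalleyDatum} (hD : D ∈ [chevD4, chevE6]) :
    ∀ s < D.nroots, ∀ s' < D.nroots, (∀ j < D.rank, cor D s j = cor D s' j) → s = s' := by
  intro s hs s' hs' h
  have key : ((List.range D.nroots).map fun r => (List.range D.rank).map (cor D r)).Nodup := by
    simp only [List.mem_cons, List.not_mem_nil, or_false] at hD
    rcases hD with rfl | rfl
    · exact corNodupD4
    · exact corNodupE6
  exact List.inj_on_of_nodup_map key (List.mem_range.2 hs) (List.mem_range.2 hs')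
    (List.map_congr_left fun j hj => h j (List.mem_range.1 hj))

end Cfsg.Agent.H51
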