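import Cfsg.Agent.H51.ClassSplit
import Cfsg.Agent.H51.DicksonRank

/-!
Splitting of involution classes from `O` to `Ω` in characteristic two, for isometry groups of
matrices.
-/

set_option autoImplicit false

namespace Cfsg.Agent.H51

open QuadraticMap Module Cfsg.Agent.Orthogonal

variable {F : Type*} [Field F] [Finite F] [CharP F 2] {ι : Type} [Fintype ι] [DecidableEq ι]
variable (Q : QuadraticForm F (ι → F))

omit [Finite F] [CharP F 2] in
theorem range_toLin'_sub_one (t : Cfsg.isometryGroup F (⇑Q)) :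
    LinearMap.range (Matrix.toLin' (((t : Matrix.GeneralLinearGroup ι F) : Matrix ι ι F) - 1)) =
      LinearMap.range (((toO Q t : (ι → F) ≃ₗ[F] (ι → F)) : (ι → F) →ₗ[F] (ι → F)) -
        LinearMap.id) := by
  congr 1
  refine LinearMap.ext fun v => ?_
  simp [toO_apply]

omit [Finite F] [CharP F 2] in
theorem finrank_range_add_fixSpace (g : O Q) :
    finrank F (LinearMap.range (((g : (ι → F) ≃ₗ[F] (ι → F)) : (ι → F) →ₗ[F] (ι → F)) -
      LinearMap.id)) + finrank F (fixSpace g) = finrank F (ι → F) :=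
  LinearMap.finrank_range_add_finrank_ker _

omit [Finite F] in
/-- The fixed space of an involution has at least half the dimension, with equality exactly when it
is the image of `t - 1`. -/
theorem range_eq_fixSpace {m : ℕ} (hn : finrank F (ι → F) = 2 * m) {t : O Q} (ht : t * t = 1)
    (hd : finrank F (fixSpace t) ≤ m) :
    LinearMap.range (((t : (ι → F) ≃ₗ[F] (ι → F)) : (ι → F) →ₗ[F] (ι → F)) - LinearMap.id) =
      fixSpace t ∧ finrank F (fixSpace t) = m := by
  have h1 := finrank_range_add_fixSpace Q t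
  have h2 := Submodule.finrank_mono (range_le_fixSpace ht)
  exact ⟨Submodule.eq_of_le_of_finrank_eq (range_le_fixSpace ht) (by omega), by omega⟩

omit [Finite F] in
theorem totSing_iff_hard (hQ : Nondeg Q) {m : ℕ} (hn : finrank F (ι → F) = 2 * m)
    (t : Cfsg.isometryGroup F (⇑Q)) (ht : t * t = 1) :
    TotSing Q (fixSpace (toO Q t)) ↔
      ((((t : Matrix.GeneralLinearGroup ι F) : Matrix ι ι F) - 1).rank = m ∧
        ∀ v : ι → F, Q (v + Matrix.mulVec ((t : Matrix.GeneralLinearGroup ι F) : Matrix ι ι F) v)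
          = 0) := by
  have ht' : toO Q t * toO Q t = 1 := by rw [← map_mul, ht, map_one]
  have hneg : ∀ z : ι → F, -z = z := fun z => by
    rw [neg_eq_iff_add_eq_zero, ← two_smul F z, CharTwo.two_eq_zero, zero_smul]
  have hrank : (((t : Matrix.GeneralLinearGroup ι F) : Matrix ι ι F) - 1).rank =
      finrank F (LinearMap.range (((toO Q t : (ι → F) ≃ₗ[F] (ι → F)) : (ι → F) →ₗ[F] (ι → F)) -
        LinearMap.id)) := by
    rw [← range_toLin'_sub_one]; rfl
  have h1 := finrank_range_add_fixSpace Q (toO Q t)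
  constructor
  · intro hT
    have h2 := hT.two_mul_finrank_le hQ
    obtain ⟨he, hd⟩ := range_eq_fixSpace Q hn ht' (by omega)
    refine ⟨by rw [hrank, he, hd], fun v => hT _ ?_⟩
    rw [← he]
    exact ⟨v, by simp [toO_apply, sub_eq_add_neg, hneg, add_comm]⟩
  · rintro ⟨hr, hv⟩
    obtain ⟨he, hd⟩ := range_eq_fixSpace Q hn ht' (by omega)
    rw [← he]
    rintro - ⟨v, rfl⟩
    simpa [toO_apply, sub_eq_add_neg, hneg, add_comm] using hv v

omit [CharP F 2] in
theorem exists_omega_conj_iff (hQ : Nondeg Q) (hgen : reflGroup Q = ⊤) (h2 : (2 : F) = 0)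
    (t s : Cfsg.isometryGroup F (⇑Q)) :
    (∃ g ∈ Cfsg.Omega F (⇑Q), g * t * g⁻¹ = s) ↔
      ∃ g ∈ (dickson hQ hgen).ker, g * toO Q t * g⁻¹ = toO Q s := by
  constructor
  · rintro ⟨g, hg, rfl⟩
    exact ⟨toO Q g, by rwa [← commutator_eq_ker_dickson hQ hgen h2, ← mem_omega_iff],
      by rw [map_mul, map_mul, map_inv]⟩
  · rintro ⟨g, hg, hgt⟩
    refine ⟨(toO Q).symm g, ?_, (toO Q).injective ?_⟩
    · rwa [mem_omega_iff, MulEquiv.apply_symm_apply, commutator_eq_ker_dickson hQ hgen h2]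
    · rw [map_mul, map_mul, map_inv, MulEquiv.apply_symm_apply, hgt]

omit [Finite F] [CharP F 2] in
theorem finrank_fixSpace_le_conj (k t : O Q) :
    finrank F (fixSpace t) ≤ finrank F (fixSpace (k * t * k⁻¹)) := by
  rw [← LinearEquiv.finrank_map_eq (k : (ι → F) ≃ₗ[F] (ι → F))]
  refine Submodule.finrank_mono ?_
  rintro - ⟨x, hx, rfl⟩
  rw [SetLike.mem_coe, mem_fixSpace] at hx
  rw [mem_fixSpace, LinearEquiv.coe_coe, ← mul_app, ← Subgroup.coe_mul, inv_mul_cancel_right,
    Subgroup.coe_mul, mul_app, hx]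

/-- No class splits when totally singular subspaces have dimension less than half. -/
theorem exists_omega_conj_of_index_lt (hQ : Nondeg Q) {m : ℕ} (hn : finrank F (ι → F) = 2 * m)
    (hgen : reflGroup Q = ⊤) (hw : ∀ W, TotSing Q W → finrank F W < m)
    (t s : Cfsg.isometryGroup F (⇑Q)) (ht : t * t = 1) (hconj : IsConj t s) :
    ∃ g ∈ Cfsg.Omega F (⇑Q), g * t * g⁻¹ = s := by
  refine (exists_omega_conj_iff Q hQ hgen CharTwo.two_eq_zero t s).2 ?_
  refine exists_ker_conj_of_not_totSing hQ hgen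
    ((toO Q).toMonoidHom.map_isConj hconj) fun hT => ?_
  have h1 := Submodule.finrank_mono (range_le_fixSpace (t := toO Q t) (by rw [← map_mul, ht, map_one]))
  have h2 := finrank_range_add_fixSpace Q (toO Q t)
  have h3 := hw _ hT
  omega

/-- The splitting of classes when totally singular subspaces reach half the dimension. -/
theorem omega_class_splitting (hQ : Nondeg Q) {m : ℕ} (hn : finrank F (ι → F) = 2 * m)
    (hm : 3 ≤ m) (t s : Cfsg.isometryGroup F (⇑Q)) (htt : t * t = 1) (hss : s * s = 1)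
    (htO : t ∈ Cfsg.Omega F (⇑Q)) (hconj : IsConj t s) :
    (¬ ((((t : Matrix.GeneralLinearGroup ι F) : Matrix ι ι F) - 1).rank = m ∧
        ∀ v : ι → F, Q (v + Matrix.mulVec ((t : Matrix.GeneralLinearGroup ι F) : Matrix ι ι F) v)
          = 0) → ∃ g ∈ Cfsg.Omega F (⇑Q), g * t * g⁻¹ = s) ∧
    (((((t : Matrix.GeneralLinearGroup ι F) : Matrix ι ι F) - 1).rank = m ∧
        ∀ v : ι → F, Q (v + Matrix.mulVec ((t : Matrix.GeneralLinearGroup ι F) : Matrix ι ι F) v)
          = 0) →
      ((∃ g ∈ Cfsg.Omega F (⇑Q), g * t * g⁻¹ = s) ↔ Even (finrank F ↥(LinearMap.range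
          (Matrix.toLin' (((t : Matrix.GeneralLinearGroup ι F) : Matrix ι ι F) - 1)) ⊓
        LinearMap.range
          (Matrix.toLin' (((s : Matrix.GeneralLinearGroup ι F) : Matrix ι ι F) - 1)))))) := by
  have hgen := reflGroup_eq_top hQ (Or.inr (by omega))
  have hc : IsConj (toO Q t) (toO Q s) := (toO Q).toMonoidHom.map_isConj hconj
  have hiff := totSing_iff_hard Q hQ hn t htt
  refine ⟨fun hneg => (exists_omega_conj_iff Q hQ hgen CharTwo.two_eq_zero t s).2
    (exists_ker_conj_of_not_totSing hQ hgen hc fun hT => hneg (hiff.1 hT)), fun hh => ?_⟩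
  have hT := hiff.2 hh
  have hd := hT.two_mul_finrank_le hQ
  obtain ⟨het, hdt⟩ := range_eq_fixSpace Q hn (t := toO Q t) (by rw [← map_mul, htt, map_one])
    (by omega)
  have heven : Even m := by
    have := (mem_omega_iff_rank_even Q hQ CharTwo.two_eq_zero (Or.inr (by omega)) t).1 htO
    rwa [hh.1] at this
  obtain ⟨k, hk⟩ := isConj_iff.1 hc
  have hds : finrank F (fixSpace (toO Q s)) ≤ m := by
    have h := finrank_fixSpace_le_conj Q k⁻¹ (toO Q s)
    rw [← hk] at h ⊢
    rw [show k⁻¹ * (k * toO Q t * k⁻¹) * k⁻¹⁻¹ = toO Q t by group] at h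
    omega
  obtain ⟨hes, -⟩ := range_eq_fixSpace Q hn (t := toO Q s) (by rw [← map_mul, hss, map_one]) hds
  refine (exists_omega_conj_iff Q hQ hgen CharTwo.two_eq_zero t s).trans
    ((exists_ker_conj_iff hQ hgen heven hn hc hT hdt).trans ?_)
  rw [← het, ← hes, ← range_toLin'_sub_one, ← range_toLin'_sub_one]

end Cfsg.Agent.H51
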