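import Cfsg.Agent.H51.CentWeyl
import Cfsg.Prelude.Def_ChevF4

/-!
F₄(q), q even: centralisers of the two products of orthogonal long and short root elements.
-/

set_option autoImplicit false
set_option maxRecDepth 100000

namespace Cfsg.Agent.H51.F4

open Cfsg.Lie Cfsg.Agent.H37 Cfsg.Agent.H37.RootSys

variable {F : Type*} [Field F] (Q : Chev.Data chevF4 F)

/-- The short roots. -/
def shortRoots : List ℕ :=
  [3, 7, 8, 9, 10, 11, 12, 13, 14, 18, 19, 20, 27, 28, 29, 33, 34, 35, 36, 37, 38, 39, 40, 44]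

/-- The positive roots. -/
def pos : List ℕ := (List.range 24).map (24 + ·)

theorem short_w : ∀ i < chevF4.rank, ∀ r < chevF4.nroots,
    (r ∈ shortRoots ↔ chevF4.reflectRoot i r ∈ shortRoots) := by decide +kernel

theorem img_short (w : Q.X.M.Group) {r : ℕ} (hr : r < chevF4.nroots) :
    img Q w r ∈ shortRoots ↔ r ∈ shortRoots := by
  suffices h : ∀ r : Fin chevF4.nroots, (Q.X.good.hom w r).val ∈ shortRoots ↔ r.val ∈ shortRoots by
    rw [img_of_lt Q w hr]; exact h _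
  refine Sys.gen_induction (p := fun w => ∀ r : Fin chevF4.nroots,
    ((Q.X.good.hom w r).val ∈ shortRoots ↔ r.val ∈ shortRoots)) (by simp) (fun i w ih r => ?_) w
  have hi : i.val < chevF4.rank := Q.rank_eq.symm ▸ i.isLt
  rw [map_mul, Equiv.Perm.mul_apply, hom_simple_val, ← Q.K.w_reflect _ hi _ (Fin.isLt _),
    ← short_w _ hi _ (Fin.isLt _), ih]

theorem pair_high : CW.pairB chevF4 44 47 1 1 [1, 2] [25, 27, 28, 30] = true := by decide +kernel
theorem pair_low : CW.pairB chevF4 39 45 2 3 [0, 3] [24, 33] = true := by decide +kernel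

theorem closed_high : CW.closedB chevF4 [44, 47] = true := by decide +kernel
theorem closed_low : CW.closedB chevF4 [39, 40, 44, 45, 46, 47] = true := by decide +kernel
theorem closed_low' : CW.closedB chevF4 [39, 40, 44, 46, 47] = true := by decide +kernel
theorem closed_err : CW.closedB chevF4 [40, 44, 46, 47] = true := by decide +kernel

theorem move_high : CW.moveB chevF4 pos [] [44, 47] = true := by decide +kernel
theorem move_low : CW.moveB chevF4 pos [40, 44, 46, 47] [39, 45] = true := by decide +kernel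

theorem ht_low : ∀ r ∈ [39, 40, 44], ∀ r' ∈ [45, 46, 47],
    2 * CW.ht chevF4 r + 3 * CW.ht chevF4 r' ≤ 2 * CW.ht chevF4 39 + 3 * CW.ht chevF4 45 →
      r = 39 ∧ r' = 45 := by decide +kernel

theorem mem_pos {r : ℕ} (h1 : 24 ≤ r) (h2 : r < 48) : r ∈ pos :=
  List.mem_map.2 ⟨r - 24, List.mem_range.2 (by omega), by omega⟩

theorem nroots_eq : chevF4.nroots = 48 := by decide +kernel

theorem mem_P {r : ℕ} (h1 : 24 ≤ r) (h2 : r < 48) : r ∈ Q.sys.P :=
  Q.sys.P_eq ▸ mem_posSet.2 ⟨by rw [nroots_eq]; exact h2, by rw [nroots_eq]; exact h1⟩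

theorem P_bounds {r : ℕ} (h : r ∈ Q.sys.P) : 24 ≤ r ∧ r < 48 := by
  rw [Q.sys.P_eq, mem_posSet, nroots_eq] at h
  exact ⟨h.2, h.1⟩

theorem U_le_pos : Q.sys.U ≤ XS Q.sys.x (↑pos.toFinset : Set ℕ) :=
  XS_mono fun r hr => by
    obtain ⟨h1, h2⟩ := P_bounds Q (Q.sys.P_eq ▸ Finset.mem_coe.1 hr)
    exact Finset.mem_coe.2 (List.mem_toFinset.2 (mem_pos h1 h2))

/-- A root of `T` mapping to the leading root of the image. -/
theorem img_lead {S : List ℕ} (hS : CW.closedB chevF4 S = true) (w : Q.X.M.Group)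
    {h g : ↥(chevF4.group F)} (hh : h ∈ Q.sys.H) (hg : g ∈ XS Q.sys.x (↑S.toFinset : Set ℕ))
    {k : ℕ} (h1 : 24 ≤ k) (h2 : k < 48) {p : ↥(chevF4.group F)}
    (hp : p ∈ XS Q.sys.x {r | r ∈ Q.sys.P ∧ k < r})
    (e : h * Q.sys.rep w * g * (h * Q.sys.rep w)⁻¹ = Q.sys.x k 1 * p) :
    ∃ r ∈ S, img Q w r = k := by
  obtain ⟨r, hr, -, hrk⟩ := exists_preimage Q (CW.closed_of_closedB Q hS) w hh hg
    (by rw [nroots_eq]; exact h2) (by rw [nroots_eq]; exact h1) (one_ne_zero (α := F))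
    (XS_mono (S' := {r | r ∈ posSet chevF4 ∧ k < r}) (fun q hq => ⟨Q.sys.P_eq ▸ hq.1, hq.2⟩) hp) e
  exact ⟨r, List.mem_toFinset.1 hr, hrk⟩

variable [CharP F 2]

theorem conj_high {u : ↥(chevF4.group F)} (hu : u ∈ Q.sys.U) :
    u⁻¹ * (Q.sys.x 44 1 * Q.sys.x 47 1) * u = Q.sys.x 44 1 * Q.sys.x 47 1 := by
  obtain ⟨m, hm, e⟩ := CW.move_pair Q move_high (k := 44) (l := 47) (by simp) (by simp)
    (mem_pos (by omega) (by omega)) 1 1 (U_le_pos Q hu)
  rw [List.toFinset_nil, Finset.coe_empty, XS_empty, Subgroup.mem_bot] at hm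
  rwa [hm, mul_one] at e

theorem conj_low {u : ↥(chevF4.group F)} (hu : u ∈ Q.sys.U) :
    ∃ m ∈ XS Q.sys.x (↑([40, 44, 46, 47] : List ℕ).toFinset : Set ℕ),
      u⁻¹ * (Q.sys.x 39 1 * Q.sys.x 45 1) * u = Q.sys.x 39 1 * Q.sys.x 45 1 * m :=
  CW.move_pair Q move_low (k := 39) (l := 45) (by simp) (by simp)
    (mem_pos (by omega) (by omega)) 1 1 (U_le_pos Q hu)

theorem fix_high {u h v : ↥(chevF4.group F)} (hu : u ∈ Q.sys.U) (hh : h ∈ Q.sys.H)
    (w : Q.X.M.Group) (hv : v ∈ Q.sys.U)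
    (hg : u * h * Q.sys.rep w * v ∈ Subgroup.centralizer {Q.sys.x 44 1 * Q.sys.x 47 1}) :
    img Q w 44 = 44 ∧ img Q w 47 = 47 := by
  have hg' := Subgroup.mem_centralizer_singleton_iff.1 hg
  have h1 := conj_high Q (inv_mem hv)
  rw [inv_inv] at h1
  have h2 := conj_high Q hu
  have h3 : h * Q.sys.rep w * (Q.sys.x 44 1 * Q.sys.x 47 1) * (h * Q.sys.rep w)⁻¹ =
      Q.sys.x 44 1 * Q.sys.x 47 1 := by
    generalize Q.sys.x 44 (1 : F) * Q.sys.x 47 1 = z at *
    calc h * Q.sys.rep w * z * (h * Q.sys.rep w)⁻¹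
        = h * Q.sys.rep w * (v * z * v⁻¹) * (h * Q.sys.rep w)⁻¹ := by rw [h1]
      _ = u⁻¹ * ((u * h * Q.sys.rep w * v) * z) * (u * h * Q.sys.rep w * v)⁻¹ * u := by group
      _ = u⁻¹ * z * u := by rw [hg']; group
      _ = z := h2
  have hS : ∀ r, r ∈ ([44, 47] : List ℕ) → Q.sys.x r (1 : F) ∈
      XS Q.sys.x (↑([44, 47] : List ℕ).toFinset : Set ℕ) := fun r hr =>
    x_mem_XS (Finset.mem_coe.2 (List.mem_toFinset.2 hr)) 1
  obtain ⟨r, hr, hrk⟩ := img_lead Q closed_high w hh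
    (mul_mem (hS 44 (by simp)) (hS 47 (by simp))) (k := 44) (by omega) (by omega)
    (x_mem_XS (S := {r | r ∈ Q.sys.P ∧ 44 < r}) ⟨mem_P Q (by omega) (by omega), by omega⟩ 1) h3
  have h44 : img Q w 44 = 44 := by
    have hs := (img_short Q w (show r < chevF4.nroots by
      rw [nroots_eq]; simp at hr; omega)).1 (by rw [hrk]; decide)
    simp at hr
    rcases hr with rfl | rfl
    · exact hrk
    · exact absurd hs (by decide)
  refine ⟨h44, ?_⟩
  have hlt : (47 : ℕ) < chevF4.nroots := by rw [nroots_eq]; omega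
  have hlt' : (44 : ℕ) < chevF4.nroots := by rw [nroots_eq]; omega
  obtain ⟨a, ea⟩ := Q.sys.rep_conj w 47 hlt 1
  obtain ⟨a', ea'⟩ := Q.sys.h_conj h hh _ (Fin.isLt _) a
  obtain ⟨b, eb⟩ := Q.sys.rep_conj w 44 hlt' 1
  obtain ⟨b', eb'⟩ := Q.sys.h_conj h hh _ (Fin.isLt _) b
  rw [← img_of_lt Q w hlt'] at eb eb'
  rw [← img_of_lt Q w hlt] at ea ea'
  rw [h44] at eb eb'
  set k := img Q w 47 with hk
  have hk48 : k < chevF4.nroots := img_lt Q w hlt
  have hsh : k ∉ shortRoots := fun hc => absurd ((img_short Q w hlt).1 hc) (by decide)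
  have h4 : Q.sys.x 44 b' * Q.sys.x k a' = Q.sys.x 44 1 * Q.sys.x 47 1 := by
    rw [← eb', ← ea', ← eb, ← ea, ← h3]; group
  have h5 : Q.sys.x k a' = Q.sys.x 44 (-b' + 1) * Q.sys.x 47 1 := by
    rw [Q.sys.x_add' _ hlt', mul_assoc, ← h4, ← mul_assoc, ← Q.sys.x_add' _ hlt', neg_add_cancel,
      Q.sys.x_zero' hlt', one_mul]
  by_cases hb : -b' + 1 = 0
  · rw [hb, Q.sys.x_zero' hlt', one_mul] at h5
    exact root_eq_of_x_eq Q hlt (by rw [nroots_eq]; omega) hk48 one_ne_zero h5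
  · exfalso
    have hmem : Q.sys.x k a' ∈ Q.sys.U := h5 ▸ mul_mem
      (Q.sys.x_mem_U hlt' (by rw [nroots_eq]; omega) _)
      (Q.sys.x_mem_U hlt (by rw [nroots_eq]; omega) _)
    have hk24 : 24 ≤ k := by
      by_contra hk24
      have h6 := Q.sys.x_neg_eq_one hk48 (by rw [nroots_eq]; omega) hmem
      rw [h6] at h5
      have := Q.sys.toUnip.head_unique Q.sys.toUnip.closed_P (mem_P Q (show 24 ≤ 44 by omega) (by omega))
        (t := -b' + 1) (u := 0) (p := Q.sys.x 47 1) (p' := 1)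
        (x_mem_XS (S := {r | r ∈ Q.sys.P ∧ 44 < r}) ⟨mem_P Q (by omega) (by omega), by omega⟩ 1)
        (one_mem _) (by rw [← h5, Q.sys.x_zero' hlt', mul_one])
      exact hb this.1
    have hk48' : k < 48 := nroots_eq ▸ hk48
    have hkne : k ≠ 44 := fun e => hsh (by rw [e]; decide)
    have hP44 := mem_P Q (show 24 ≤ 44 by omega) (show 44 < 48 by omega)
    rcases Nat.lt_or_ge 44 k with hgt | hle
    · have := Q.sys.toUnip.head_unique Q.sys.toUnip.closed_P hP44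
        (t := -b' + 1) (u := 0) (p := Q.sys.x 47 1) (p' := Q.sys.x k a')
        (x_mem_XS (S := {r | r ∈ Q.sys.P ∧ 44 < r}) ⟨mem_P Q (by omega) (by omega), by omega⟩ 1)
        (x_mem_XS (S := {r | r ∈ Q.sys.P ∧ 44 < r}) ⟨mem_P Q hk24 hk48', hgt⟩ a')
        (by rw [← h5, Q.sys.x_zero' hlt', one_mul])
      exact hb this.1
    · have hlt44 : k < 44 := lt_of_le_of_ne hle hkne
      have h0 := Q.sys.sep (mem_P Q hk24 hk48') a' (h5 ▸ mul_mem
        (x_mem_XS (S := {r | r ∈ Q.sys.P ∧ k < r}) ⟨hP44, hlt44⟩ _)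
        (x_mem_XS (S := {r | r ∈ Q.sys.P ∧ k < r})
          ⟨mem_P Q (show 24 ≤ 47 by omega) (by omega), by omega⟩ 1))
      rw [h0, Q.sys.x_zero' hk48] at h5
      have := Q.sys.toUnip.head_unique Q.sys.toUnip.closed_P hP44
        (t := -b' + 1) (u := 0) (p := Q.sys.x 47 1) (p' := 1)
        (x_mem_XS (S := {r | r ∈ Q.sys.P ∧ 44 < r}) ⟨mem_P Q (by omega) (by omega), by omega⟩ 1)
        (one_mem _) (by rw [← h5, Q.sys.x_zero' hlt', mul_one])
      exact hb this.1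

theorem fix_low {u h v : ↥(chevF4.group F)} (hu : u ∈ Q.sys.U) (hh : h ∈ Q.sys.H)
    (w : Q.X.M.Group) (hv : v ∈ Q.sys.U)
    (hg : u * h * Q.sys.rep w * v ∈ Subgroup.centralizer {Q.sys.x 39 1 * Q.sys.x 45 1}) :
    img Q w 39 = 39 ∧ img Q w 45 = 45 := by
  have hg' := Subgroup.mem_centralizer_singleton_iff.1 hg
  obtain ⟨m, hm, h2⟩ := conj_low Q hu
  obtain ⟨m', hm', h1⟩ := conj_low Q (inv_mem hv)
  rw [inv_inv] at h1
  have h3 : h * Q.sys.rep w * (Q.sys.x 39 1 * Q.sys.x 45 1 * m') * (h * Q.sys.rep w)⁻¹ =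
      Q.sys.x 39 1 * (Q.sys.x 45 1 * m) := by
    rw [← mul_assoc (Q.sys.x 39 1), ← h1, ← h2]
    generalize Q.sys.x 39 (1 : F) * Q.sys.x 45 1 = z at *
    calc h * Q.sys.rep w * (v * z * v⁻¹) * (h * Q.sys.rep w)⁻¹
        = u⁻¹ * ((u * h * Q.sys.rep w * v) * z) * (u * h * Q.sys.rep w * v)⁻¹ * u := by group
      _ = u⁻¹ * z * u := by rw [hg']; group
  set S : List ℕ := [39, 40, 44, 45, 46, 47] with hSdef
  have hsub : ∀ {r}, r ∈ ([40, 44, 46, 47] : List ℕ) → r ∈ S := fun h => by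
    simp [hSdef] at h ⊢; omega
  have hxS : ∀ r, r ∈ S → Q.sys.x r (1 : F) ∈ XS Q.sys.x (↑S.toFinset : Set ℕ) := fun r hr =>
    x_mem_XS (Finset.mem_coe.2 (List.mem_toFinset.2 hr)) 1
  have hmS : ∀ {g}, g ∈ XS Q.sys.x (↑([40, 44, 46, 47] : List ℕ).toFinset : Set ℕ) →
      g ∈ XS Q.sys.x (↑S.toFinset : Set ℕ) := fun hg => XS_mono (fun r hr =>
    Finset.mem_coe.2 (List.mem_toFinset.2 (hsub (List.mem_toFinset.1 (Finset.mem_coe.1 hr))))) hg
  have hg39 := mul_mem (mul_mem (hxS 39 (by simp [hSdef])) (hxS 45 (by simp [hSdef]))) (hmS hm')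
  have htail : Q.sys.x 45 1 * m ∈ XS Q.sys.x {r | r ∈ Q.sys.P ∧ 39 < r} := by
    refine mul_mem (x_mem_XS (S := {r | r ∈ Q.sys.P ∧ 39 < r})
      ⟨mem_P Q (by omega) (by omega), by omega⟩ 1) (XS_mono ?_ hm)
    intro r hr
    have := List.mem_toFinset.1 (Finset.mem_coe.1 hr)
    simp at this
    exact ⟨mem_P Q (by omega) (by omega), by omega⟩
  obtain ⟨r, hr, hrk⟩ := img_lead Q closed_low w hh hg39 (k := 39) (by omega) (by omega) htail h3
  have hr3 : r ∈ [39, 40, 44] := by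
    have hs := (img_short Q w (show r < chevF4.nroots by
      rw [nroots_eq]; simp [hSdef] at hr; omega)).1 (by rw [hrk]; decide)
    revert hs
    simp [hSdef] at hr
    rcases hr with rfl | rfl | rfl | rfl | rfl | rfl <;> decide
  obtain ⟨r', hr', hrk'⟩ : ∃ r' ∈ S, img Q w r' = 45 := by
    by_contra hcon
    push Not at hcon
    have hU : Q.sys.x 39 1 * (Q.sys.x 45 1 * m) ∈ Q.sys.U :=
      mul_mem (Q.sys.x_mem_U (by rw [nroots_eq]; omega) (by rw [nroots_eq]; omega) 1)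
        (XS_mono (fun q hq => Q.sys.P_eq ▸ Finset.mem_coe.2 hq.1) htail)
    obtain ⟨-, hmem⟩ := supp_of_conj Q (CW.closed_of_closedB Q closed_low) w hh hg39 (h3 ▸ hU)
    rw [h3] at hmem
    have hcl := CW.closed_of_closedB Q closed_low
    have hT := closed_image Q w (closed_inter Q hcl (closed_keep Q w)) Finset.inter_subset_right
    have hvS : Q.sys.x 39 1 * (Q.sys.x 45 1 * m) ∈ XS Q.sys.x (↑S.toFinset : Set ℕ) :=
      mul_mem (hxS 39 (by simp [hSdef])) (mul_mem (hxS 45 (by simp [hSdef])) (hmS hm))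
    have h7 := XS_inter Q.sys.toUnip hcl hT hvS hmem
    have h8 : Q.sys.x 39 1 * (Q.sys.x 45 1 * m) ∈
        XS Q.sys.x (↑([39, 40, 44, 46, 47] : List ℕ).toFinset : Set ℕ) := by
      refine XS_mono ?_ h7
      intro q hq
      obtain ⟨hq1, hq2⟩ := Finset.mem_inter.1 hq
      obtain ⟨q', hq', e⟩ := Finset.mem_image.1 hq2
      have : q ≠ 45 := fun h45 =>
        hcon q' (List.mem_toFinset.1 (Finset.mem_inter.1 hq').1) (e.trans h45)
      have := List.mem_toFinset.1 hq1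
      refine Finset.mem_coe.2 (List.mem_toFinset.2 ?_)
      simp [hSdef] at this ⊢
      omega
    have h9 : Q.sys.x 45 1 ∈
        XS Q.sys.x (↑([39, 40, 44, 46, 47] : List ℕ).toFinset : Set ℕ) := by
      have hm2 : m ∈ XS Q.sys.x (↑([39, 40, 44, 46, 47] : List ℕ).toFinset : Set ℕ) :=
        XS_mono (fun q hq => Finset.mem_coe.2 (List.mem_toFinset.2
          (List.mem_cons_of_mem _ (List.mem_toFinset.1 (Finset.mem_coe.1 hq))))) hm
      have := mul_mem (mul_mem (inv_mem (x_mem_XS (x := Q.sys.x) (Finset.mem_coe.2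
        (List.mem_toFinset.2 (List.mem_cons_self (a := 39) (l := [40, 44, 46, 47])))) (1 : F))) h8)
        (inv_mem hm2)
      rwa [inv_mul_cancel_left, mul_inv_cancel_right] at this
    exact one_ne_zero (CW.eq_zero_of_mem Q (CW.closed_of_closedB Q closed_low')
      (by rw [nroots_eq]; omega) (by rw [nroots_eq]; omega) (by simp) h9)
  have hr3' : r' ∈ [45, 46, 47] := by
    have hs : r' ∉ shortRoots := fun hc => absurd
      ((img_short Q w (show r' < chevF4.nroots by rw [nroots_eq]; simp [hSdef] at hr'; omega)).2 hc)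
      (by rw [hrk']; decide)
    revert hs
    simp [hSdef] at hr'
    rcases hr' with rfl | rfl | rfl | rfl | rfl | rfl <;> decide
  have hle := CW.ht_le Q pair_low w⁻¹
  have inv_img : ∀ {q k : ℕ}, q < chevF4.nroots → img Q w q = k → img Q w⁻¹ k = q := by
    intro q k hq e
    rw [← e, img_of_lt Q w hq, img_of_lt Q _ (Fin.isLt _)]
    simp
  have h48 : ∀ q, q ∈ S → q < chevF4.nroots := fun q hq => by
    rw [nroots_eq]; simp [hSdef] at hq; omega
  rw [inv_img (h48 r hr) hrk, inv_img (h48 r' hr') hrk'] at hle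
  obtain ⟨rfl, rfl⟩ := ht_low r hr3 r' hr3' hle
  exact ⟨hrk, hrk'⟩

theorem uh_high {u h : ↥(chevF4.group F)} (hu : u ∈ Q.sys.U) (hh : h ∈ Q.sys.H)
    (hg : u * h ∈ Subgroup.centralizer {Q.sys.x 44 1 * Q.sys.x 47 1}) :
    ∃ c : Fin chevF4.rank → Fˣ, Chevalley.torus chevF4 F c = (h : GL chevF4.Idx F) ∧
      ∀ i : Fin chevF4.rank, (i : ℕ) ∉ [1, 2] → c i = 1 := by
  obtain ⟨c, hc, hs⟩ := CW.torus_scale Q hh
  refine ⟨c, hc, ?_⟩
  have hg' := Subgroup.mem_centralizer_singleton_iff.1 hg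
  have h2 := conj_high Q hu
  have h3 : h * (Q.sys.x 44 1 * Q.sys.x 47 1) * h⁻¹ = Q.sys.x 44 1 * Q.sys.x 47 1 := by
    generalize Q.sys.x 44 (1 : F) * Q.sys.x 47 1 = z at *
    calc h * z * h⁻¹ = u⁻¹ * ((u * h) * z) * (u * h)⁻¹ * u := by group
      _ = u⁻¹ * z * u := by rw [hg']; group
      _ = z := h2
  rw [show h * (Q.sys.x 44 1 * Q.sys.x 47 1) * h⁻¹ =
    (h * Q.sys.x 44 1 * h⁻¹) * (h * Q.sys.x 47 1 * h⁻¹) by group,
    hs 44 (by rw [nroots_eq]; omega), hs 47 (by rw [nroots_eq]; omega)] at h3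
  obtain ⟨e1, e2⟩ := Q.sys.toUnip.head_unique Q.sys.toUnip.closed_P
    (mem_P Q (show 24 ≤ 44 by omega) (by omega))
    (x_mem_XS (S := {r | r ∈ Q.sys.P ∧ 44 < r}) ⟨mem_P Q (by omega) (by omega), by omega⟩ _)
    (x_mem_XS (S := {r | r ∈ Q.sys.P ∧ 44 < r}) ⟨mem_P Q (by omega) (by omega), by omega⟩ _) h3
  have e2' := CW.x_one_inj Q (by rw [nroots_eq]; omega) e2
  have hA : ∀ i : Fin 4, chevF4.cartan i 44 = (if i.val = 0 then 1 else 0) ∧
      chevF4.cartan i 47 = (if i.val = 3 then 1 else 0) := by decide +kernel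
  have hr4 : chevF4.rank = 4 := by decide +kernel
  intro i hi
  have hi' : i.val = 0 ∨ i.val = 3 := by
    have := i.isLt; simp at hi; omega
  rw [Units.val_eq_one] at e1 e2'
  rcases hi' with h0 | h0
  · rw [Finset.prod_eq_single i] at e1
    · rwa [(hA ⟨i, hr4 ▸ i.isLt⟩).1, if_pos h0, zpow_one] at e1
    · intro j _ hne
      rw [(hA ⟨j, hr4 ▸ j.isLt⟩).1, if_neg (fun h => hne (Fin.ext (h.trans h0.symm))), zpow_zero]
    · simp
  · rw [Finset.prod_eq_single i] at e2'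
    · rwa [(hA ⟨i, hr4 ▸ i.isLt⟩).2, if_pos h0, zpow_one] at e2'
    · intro j _ hne
      rw [(hA ⟨j, hr4 ▸ j.isLt⟩).2, if_neg (fun h => hne (Fin.ext (h.trans h0.symm))), zpow_zero]
    · simp

theorem uh_low {u h : ↥(chevF4.group F)} (hu : u ∈ Q.sys.U) (hh : h ∈ Q.sys.H)
    (hg : u * h ∈ Subgroup.centralizer {Q.sys.x 39 1 * Q.sys.x 45 1}) :
    ∃ c : Fin chevF4.rank → Fˣ, Chevalley.torus chevF4 F c = (h : GL chevF4.Idx F) ∧
      (∀ i : Fin chevF4.rank, (i : ℕ) ∉ [0, 3] → c i = 1) ∧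
      h ∈ Subgroup.centralizer {Q.sys.x 39 1 * Q.sys.x 45 1} := by
  obtain ⟨c, hc, hs⟩ := CW.torus_scale Q hh
  have hg' := Subgroup.mem_centralizer_singleton_iff.1 hg
  obtain ⟨m, hm, h2⟩ := conj_low Q hu
  have h3 : h * (Q.sys.x 39 1 * Q.sys.x 45 1) * h⁻¹ = Q.sys.x 39 1 * Q.sys.x 45 1 * m := by
    rw [← h2]
    generalize Q.sys.x 39 (1 : F) * Q.sys.x 45 1 = z at *
    calc h * z * h⁻¹ = u⁻¹ * ((u * h) * z) * (u * h)⁻¹ * u := by group
      _ = u⁻¹ * z * u := by rw [hg']; group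
  have h3' := h3
  rw [show h * (Q.sys.x 39 1 * Q.sys.x 45 1) * h⁻¹ =
    (h * Q.sys.x 39 1 * h⁻¹) * (h * Q.sys.x 45 1 * h⁻¹) by group,
    hs 39 (by rw [nroots_eq]; omega), hs 45 (by rw [nroots_eq]; omega), mul_assoc] at h3'
  obtain ⟨e1, e2⟩ := Q.sys.toUnip.head_unique Q.sys.toUnip.closed_P
    (mem_P Q (show 24 ≤ 39 by omega) (by omega))
    (x_mem_XS (S := {r | r ∈ Q.sys.P ∧ 39 < r}) ⟨mem_P Q (by omega) (by omega), by omega⟩ _)
    (mul_mem (x_mem_XS (S := {r | r ∈ Q.sys.P ∧ 39 < r})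
        ⟨mem_P Q (by omega) (by omega), by omega⟩ _)
      (XS_mono (fun r hr => by
        have := List.mem_toFinset.1 (Finset.mem_coe.1 hr)
        simp at this
        exact ⟨mem_P Q (by omega) (by omega), by omega⟩) hm)) h3'
  set s' : F := ((∏ i, c i ^ chevF4.cartan i 45 : Fˣ) : F) with hs'
  have h45 : (45 : ℕ) < chevF4.nroots := by rw [nroots_eq]; omega
  have e3 : Q.sys.x 45 (-1 + s') = m := by
    rw [Q.sys.x_add' _ h45, e2, ← mul_assoc, ← Q.sys.x_add' _ h45, neg_add_cancel,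
      Q.sys.x_zero' h45, one_mul]
  have e4 : -1 + s' = 0 := CW.eq_zero_of_mem Q (CW.closed_of_closedB Q closed_err) h45
    (by rw [nroots_eq]; omega) (by simp) (e3 ▸ hm)
  have hm1 : m = 1 := by rw [← e3, e4, Q.sys.x_zero' h45]
  refine ⟨c, hc, ?_, ?_⟩
  swap
  · rw [Subgroup.mem_centralizer_singleton_iff, ← mul_inv_eq_iff_eq_mul, h3, hm1, mul_one]
  have e5 : (∏ i, c i ^ chevF4.cartan i 45 : Fˣ) = 1 := by
    refine Units.ext ?_
    rw [Units.val_one]
    linear_combination e4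
  rw [Units.val_eq_one] at e1
  have hA : (List.range 4).map (fun i => (chevF4.cartan i 39, chevF4.cartan i 45)) =
      [(0, 0), (-1, 2), (1, -1), (0, 0)] := by decide +kernel
  simp [List.range_succ] at hA
  obtain ⟨⟨a0, b0⟩, ⟨a1, b1⟩, ⟨a2, b2⟩, a3, b3⟩ := hA
  have hr4 : chevF4.rank = 4 := by decide +kernel
  have hexp : ∀ r, (∏ i, c i ^ chevF4.cartan i r : Fˣ) =
      c ⟨0, by omega⟩ ^ chevF4.cartan 0 r * c ⟨1, by omega⟩ ^ chevF4.cartan 1 r *
        c ⟨2, by omega⟩ ^ chevF4.cartan 2 r * c ⟨3, by omega⟩ ^ chevF4.cartan 3 r := by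
    intro r
    rw [← (finCongr hr4).symm.prod_comp, Fin.prod_univ_four]
    rfl
  rw [hexp, a0, a1, a2, a3] at e1
  rw [hexp, b0, b1, b2, b3] at e5
  simp only [zpow_zero, one_mul, mul_one] at e1 e5
  have h21 : c ⟨2, by omega⟩ = c ⟨1, by omega⟩ := by
    rw [zpow_neg_one, zpow_one, inv_mul_eq_one] at e1
    exact e1.symm
  have h1 : c ⟨1, by omega⟩ = 1 := by
    rw [h21, zpow_two, zpow_neg_one, mul_assoc, mul_inv_cancel, mul_one] at e5
    exact e5
  intro i hi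
  have := i.isLt
  simp at hi
  rcases (show i.val = 1 ∨ i.val = 2 by omega) with h0 | h0
  · rw [show i = ⟨1, by omega⟩ from Fin.ext h0, h1]
  · rw [show i = ⟨2, by omega⟩ from Fin.ext h0, h21, h1]

/-- The positive roots whose elements fail to centralise the second element. -/
def bad : List ℕ := [25, 26, 27, 34]

theorem low_good : ∀ r ∈ pos, r ∉ bad →
    (∀ c ∈ chevF4.commTerms r 39, (2 : ℤ) ∣ c.2.1) ∧
      ∀ c ∈ chevF4.commTerms r 45, (2 : ℤ) ∣ c.2.1 := by decide +kernel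

theorem good_mem {r : ℕ} (h1 : 24 ≤ r) (h2 : r < 48) (hb : r ∉ bad) (t : F) :
    Q.sys.x r t ∈ Subgroup.centralizer {Q.sys.x 39 1 * Q.sys.x 45 1} := by
  obtain ⟨g1, g2⟩ := low_good r (mem_pos h1 h2) hb
  have hn : ∀ k, 24 ≤ k → k < 48 → k < chevF4.nroots ∧ chevF4.nroots / 2 ≤ k := fun k a b => by
    rw [nroots_eq]; omega
  have e1 := CW.commute_x Q (hn r h1 h2).1 (hn r h1 h2).2 (hn 39 (by omega) (by omega)).1
    (hn 39 (by omega) (by omega)).2 g1 t 1
  have e2 := CW.commute_x Q (hn r h1 h2).1 (hn r h1 h2).2 (hn 45 (by omega) (by omega)).1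
    (hn 45 (by omega) (by omega)).2 g2 t 1
  rw [Subgroup.mem_centralizer_singleton_iff, ← mul_assoc, ← e1, mul_assoc, ← e2, mul_assoc]

theorem bad_zero {r : ℕ} (hb : r ∈ bad) {t : F} {p : ↥(chevF4.group F)}
    (hp : p ∈ XS Q.sys.x {q | q ∈ Q.sys.P ∧ r < q})
    (hc : Q.sys.x r t * p ∈ Subgroup.centralizer {Q.sys.x 39 1 * Q.sys.x 45 1}) : t = 0 := by
  have key : ∀ (k : ℕ) (B : List ℕ), 24 ≤ k → k < 48 → k ∉ B →
      CW.closedB chevF4 B = true →
      CW.moveB chevF4 (pos.filter fun q => r < q) B [39, 45, k] = true → 45 ∈ pos.filter (fun q => r < q) →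
      (Q.sys.x r t)⁻¹ * (Q.sys.x 39 1 * Q.sys.x 45 1) * Q.sys.x r t =
        Q.sys.x 39 1 * Q.sys.x 45 1 * Q.sys.x k t → t = 0 := by
    intro k B hk1 hk2 hkB hB hmv h45 e
    have hp' : p ∈ XS Q.sys.x (↑(pos.filter fun q => r < q).toFinset : Set ℕ) := XS_mono (fun q hq =>
      Finset.mem_coe.2 (List.mem_toFinset.2 (List.mem_filter.2
        ⟨mem_pos (P_bounds Q hq.1).1 (P_bounds Q hq.1).2, decide_eq_true hq.2⟩))) hp
    obtain ⟨m1, hm1, e1⟩ := CW.move_pair Q hmv (k := 39) (l := 45) (by simp) (by simp) h45 1 1 hp'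
    obtain ⟨m2, hm2, e2⟩ := CW.move Q hmv (k := k) (by simp) t hp'
    have hc' := Subgroup.mem_centralizer_singleton_iff.1 hc
    have e3 : Q.sys.x 39 1 * Q.sys.x 45 1 * (m1 * (Q.sys.x k t * m2)) =
        Q.sys.x 39 1 * Q.sys.x 45 1 := by
      rw [← mul_assoc, ← e1, ← e2]
      generalize Q.sys.x 39 (1 : F) * Q.sys.x 45 1 = z at *
      calc p⁻¹ * z * p * (p⁻¹ * Q.sys.x k t * p) = p⁻¹ * (z * Q.sys.x k t) * p := by group
        _ = (Q.sys.x r t * p)⁻¹ * (z * (Q.sys.x r t * p)) := by rw [← e]; group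
        _ = z := by rw [← hc']; group
    rw [mul_eq_left] at e3
    refine CW.eq_zero_of_mem Q (CW.closed_of_closedB Q hB) (by rw [nroots_eq]; omega)
      (by rw [nroots_eq]; omega) (fun h => hkB (List.mem_toFinset.1 h)) (t := t) ?_
    rw [show Q.sys.x k t = m1⁻¹ * (m1 * (Q.sys.x k t * m2)) * m2⁻¹ by group, e3, mul_one]
    exact mul_mem (inv_mem hm1) (inv_mem hm2)
  have hn : ∀ k, 24 ≤ k → k < 48 → k < chevF4.nroots ∧ chevF4.nroots / 2 ≤ k := fun k a b => by
    rw [nroots_eq]; omega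
  have single : ∀ (k j : ℕ) (z : ℤ), 24 ≤ k → k < 48 → 24 ≤ r → r < 48 → k ≠ r → ¬ (2 : ℤ) ∣ z →
      chevF4.commTerms r k = [(j, z, 1, 1)] →
      (Q.sys.x r t)⁻¹ * Q.sys.x k 1 * Q.sys.x r t = Q.sys.x k 1 * Q.sys.x j t :=
    fun k j z a b c d ne hz hL =>
      CW.conj_single Q (hn r c d).1 (hn r c d).2 (hn k a b).1 (hn k a b).2 ne hz hL t
  have still : ∀ k, 24 ≤ k → k < 48 → 24 ≤ r → r < 48 →
      (∀ c ∈ chevF4.commTerms r k, (2 : ℤ) ∣ c.2.1) →
      (Q.sys.x r t)⁻¹ * Q.sys.x k 1 * Q.sys.x r t = Q.sys.x k 1 :=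
    fun k a b c d hL => by
      rw [mul_assoc, CW.commute_x Q (hn r c d).1 (hn r c d).2 (hn k a b).1 (hn k a b).2 hL t 1,
        inv_mul_cancel_left]
  have split : ∀ y z' : ↥(chevF4.group F), (Q.sys.x r t)⁻¹ * (y * z') * Q.sys.x r t =
      ((Q.sys.x r t)⁻¹ * y * Q.sys.x r t) * ((Q.sys.x r t)⁻¹ * z' * Q.sys.x r t) :=
    fun y z' => by group
  simp only [bad, List.mem_cons, List.not_mem_nil, or_false] at hb
  rcases hb with rfl | rfl | rfl | rfl
  · refine key 46 [40, 44, 47] (by omega) (by omega) (by simp) (by decide +kernel)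
      (by decide +kernel) (by decide +kernel) ?_
    rw [split, still 39 (by omega) (by omega) (by omega) (by omega) (by decide +kernel),
      single 45 46 1 (by omega) (by omega) (by omega) (by omega) (by omega) (by decide)
        (by decide +kernel), ← mul_assoc]
  · refine key 47 [40, 44] (by omega) (by omega) (by simp) (by decide +kernel)
      (by decide +kernel) (by decide +kernel) ?_
    rw [split, still 39 (by omega) (by omega) (by omega) (by omega) (by decide +kernel),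
      single 45 47 1 (by omega) (by omega) (by omega) (by omega) (by omega) (by decide)
        (by decide +kernel), ← mul_assoc]
  · refine key 40 [44] (by omega) (by omega) (by simp) (by decide +kernel)
      (by decide +kernel) (by decide +kernel) ?_
    rw [split, still 45 (by omega) (by omega) (by omega) (by omega) (by decide +kernel),
      single 39 40 1 (by omega) (by omega) (by omega) (by omega) (by omega) (by decide)
        (by decide +kernel), mul_assoc, CW.commute_x Q (hn 45 (by omega) (by omega)).1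
          (hn 45 (by omega) (by omega)).2 (hn 40 (by omega) (by omega)).1
          (hn 40 (by omega) (by omega)).2 (by decide +kernel) 1 t, ← mul_assoc]
  · refine key 44 [] (by omega) (by omega) (by simp) (by decide +kernel)
      (by decide +kernel) (by decide +kernel) ?_
    rw [split, still 45 (by omega) (by omega) (by omega) (by omega) (by decide +kernel),
      single 39 44 1 (by omega) (by omega) (by omega) (by omega) (by omega) (by decide)
        (by decide +kernel), mul_assoc, CW.commute_x Q (hn 45 (by omega) (by omega)).1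
          (hn 45 (by omega) (by omega)).2 (hn 44 (by omega) (by omega)).1
          (hn 44 (by omega) (by omega)).2 (by decide +kernel) 1 t, ← mul_assoc]

/-- The centraliser in `U` of the second element lies in any subgroup holding the good roots. -/
theorem u_low {K : Subgroup ↥(chevF4.group F)}
    (hK : ∀ r, 24 ≤ r → r < 48 → r ∉ bad → ∀ t, Q.sys.x r t ∈ K) {u : ↥(chevF4.group F)}
    (hu : u ∈ Q.sys.U)
    (hc : u ∈ Subgroup.centralizer {Q.sys.x 39 1 * Q.sys.x 45 1}) : u ∈ K := by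
  suffices H : ∀ n, ∀ k, 24 ≤ k → k + n = 48 → ∀ g ∈ XS Q.sys.x {r | r ∈ Q.sys.P ∧ k ≤ r},
      g ∈ Subgroup.centralizer {Q.sys.x 39 1 * Q.sys.x 45 1} → g ∈ K by
    refine H 24 24 le_rfl rfl u (XS_mono ?_ hu) hc
    exact fun r hr => ⟨Q.sys.P_eq ▸ Finset.mem_coe.1 hr, (P_bounds Q (Q.sys.P_eq ▸ Finset.mem_coe.1 hr)).1⟩
  intro n
  induction n with
  | zero =>
    intro k hk hkn g hg _
    have : {r | r ∈ Q.sys.P ∧ k ≤ r} = ∅ := Set.eq_empty_iff_forall_notMem.2 fun r hr => by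
      have := (P_bounds Q hr.1).2; have := hr.2; omega
    rw [this, XS_empty, Subgroup.mem_bot] at hg
    rw [hg]; exact one_mem _
  | succ n ih =>
    intro k hk hkn g hg hgc
    obtain ⟨t, p, hp, rfl⟩ := Q.sys.toUnip.exists_head Q.sys.toUnip.closed_P
      (mem_P Q hk (by omega)) hg
    by_cases hb : k ∈ bad
    · have ht := bad_zero Q hb hp hgc
      rw [ht, Q.sys.x_zero' (by rw [nroots_eq]; omega), one_mul] at hgc ⊢
      exact ih (k + 1) (by omega) (by omega) p hp hgc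
    · refine mul_mem (hK k hk (by omega) hb t) (ih (k + 1) (by omega) (by omega) p hp ?_)
      have := mul_mem (inv_mem (good_mem Q hk (by omega) hb t)) hgc
      rwa [inv_mul_cancel_left] at this

end Cfsg.Agent.H51.F4
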