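import Cfsg.Agent.H51.Transvec

/-!
A subgroup of SL_n(F) fixing a proper nonzero subspace, or containing all transvections with a
given centre, has index at least the number of points of the projective space.
-/
set_option autoImplicit false

namespace Cfsg.Agent.H51

open Matrix Finset
open scoped LinearAlgebra.Projectivization

variable {n : ℕ} {F : Type*} [Field F]

/-- `1 + q + ... + q^(n-1)` -/
def geomN (n q : ℕ) : ℕ := ∑ i ∈ range n, q ^ i

theorem geomN_succ (n q : ℕ) : geomN (n + 1) q = geomN n q + q ^ n := Finset.sum_range_succ _ _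

theorem geomN_succ' (n q : ℕ) : geomN (n + 1) q = q * geomN n q + 1 := by
  rw [geomN, geomN, Finset.sum_range_succ', Finset.mul_sum, pow_zero]
  simp [pow_succ']

theorem pred_mul_geomN (q : ℕ) (hq : 1 ≤ q) (n : ℕ) : (q - 1) * geomN n q + 1 = q ^ n := by
  induction n with
  | zero => simp [geomN]
  | succ n ih =>
    rw [geomN_succ, mul_add, pow_succ]
    obtain ⟨r, rfl⟩ := Nat.exists_eq_add_of_le hq
    simp only [Nat.add_sub_cancel_left] at ih ⊢
    linear_combination ih

theorem geomN_le_pow {q : ℕ} (hq : 2 ≤ q) (n : ℕ) : geomN n q ≤ q ^ n := by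
  have h := pred_mul_geomN q (by omega) n
  have h1 : geomN n q ≤ (q - 1) * geomN n q := Nat.le_mul_of_pos_left _ (by omega)
  omega

theorem card_proj [Finite F] (n : ℕ) : Nat.card (ℙ F (Fin n → F)) = geomN n (Nat.card F) := by
  rw [Projectivization.card_of_finrank F (Fin n → F) (Module.finrank_fin_fun F), geomN]

/-- the image of a subspace under an element of SL_n -/
noncomputable def act (g : SLn n F) (S : Submodule F (Fin n → F)) : Submodule F (Fin n → F) :=
  S.map g.1.mulVecLin

theorem mem_act {g : SLn n F} {S : Submodule F (Fin n → F)} {x : Fin n → F} :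
    x ∈ act g S ↔ ∃ s ∈ S, g.1 *ᵥ s = x := Iff.rfl

/-- the graph maps: g s = s + Σ_j (φ_j s) c_j -/
theorem exists_graph {ι : Type*} (s : Finset ι) (c φ : ι → Fin n → F)
    (h : ∀ i j, φ i ⬝ᵥ c j = 0) :
    ∃ g : SLn n F, ∀ v, g.1 *ᵥ v = v + ∑ j ∈ s, (φ j ⬝ᵥ v) • c j := by
  classical
  induction s using Finset.induction_on with
  | empty => exact ⟨1, fun v => by rw [one_val, one_mulVec, sum_empty, add_zero]⟩
  | insert a s ha ih =>
    obtain ⟨g, hg⟩ := ih
    refine ⟨tr (c a) (φ a) * g, fun v => ?_⟩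
    rw [mul_val, ← mulVec_mulVec, hg, tr_mulVec (h a a), dotProduct_add, sum_insert ha]
    have : φ a ⬝ᵥ (∑ j ∈ s, (φ j ⬝ᵥ v) • c j) = 0 := by
      rw [dotProduct_sum]
      exact sum_eq_zero fun j _ => by rw [dotProduct_smul, h a j, smul_zero]
    rw [this, add_zero]
    abel

/-- an injection from the parameters into the translates of S bounds the index -/
theorem card_le_index_of_act {H : Subgroup (SLn n F)} [Finite (SLn n F ⧸ H)]
    {S : Submodule F (Fin n → F)} (hS : ∀ h ∈ H, ∀ v ∈ S, h.1 *ᵥ v ∈ S) {α : Type*}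
    (g : α → SLn n F) (hg : ∀ a b, act (g a) S = act (g b) S → a = b) :
    Nat.card α ≤ H.index := by
  refine Nat.card_le_card_of_injective (fun a => (g a : SLn n F ⧸ H)) fun a b hab => hg a b ?_
  have key : ∀ a b, (g a)⁻¹ * g b ∈ H → act (g b) S ≤ act (g a) S := by
    intro a b h x hx
    obtain ⟨s, hs, rfl⟩ := mem_act.1 hx
    refine mem_act.2 ⟨((g a)⁻¹ * g b).1 *ᵥ s, hS _ h _ hs, ?_⟩
    rw [mulVec_mulVec, ← mul_val, mul_inv_cancel_left]
  have h1 : (g a)⁻¹ * g b ∈ H := QuotientGroup.eq.1 hab
  refine le_antisymm (key b a ?_) (key a b h1)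
  have := H.inv_mem h1
  rwa [_root_.mul_inv_rev, inv_inv] at this

theorem index_ge_of_invariant [Finite F] (hn : 3 ≤ n) {H : Subgroup (SLn n F)}
    {S : Submodule F (Fin n → F)} (hS0 : S ≠ ⊥) (hS1 : S ≠ ⊤)
    (hS : ∀ h ∈ H, ∀ v ∈ S, h.1 *ᵥ v ∈ S) : geomN n (Nat.card F) ≤ H.index := by
  classical
  haveI : Finite (SLn n F) := inferInstance
  haveI : Finite (SLn n F ⧸ H) := inferInstance
  have hfin : Module.finrank F (Fin n → F) = n := Module.finrank_fin_fun F
  set k := Module.finrank F S with hk
  have hk0 : 1 ≤ k := by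
    rcases Nat.eq_zero_or_pos k with h | h
    · exact absurd (Submodule.finrank_eq_zero.1 (hk ▸ h)) hS0
    · exact h
  have hk1 : k < n := by
    have h := Submodule.finrank_lt hS1
    rw [hfin] at h; exact h
  by_cases h1 : k = 1
  · obtain ⟨s, hs, hs0⟩ := Submodule.exists_mem_ne_zero_of_ne_bot hS0
    have hSs : S = Submodule.span F {s} := by
      refine (Submodule.eq_of_le_of_finrank_le ?_ ?_).symm
      · rw [Submodule.span_le, Set.singleton_subset_iff]; exact hs
      · rw [finrank_span_singleton hs0, ← hk, h1]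
    choose g hg using fun p : ℙ F (Fin n → F) => exists_map_eq (by omega : 2 ≤ n) hs0 p.rep_nonzero
    rw [← card_proj n]
    refine card_le_index_of_act hS g fun p p' h => ?_
    have he : ∀ p, act (g p) S = Submodule.span F {p.rep} := by
      intro p
      rw [act, hSs, Submodule.map_span, Set.image_singleton, Matrix.mulVecLin_apply, hg]
    rw [he, he] at h
    rw [← Projectivization.mk_rep p, ← Projectivization.mk_rep p',
      Projectivization.mk_eq_mk_iff']
    exact Submodule.mem_span_singleton.1 (h ▸ Submodule.subset_span rfl)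
  by_cases h2 : k = n - 1
  · obtain ⟨c, hc⟩ : ∃ c, c ∉ S := by
      by_contra h; push Not at h; exact hS1 (eq_top_iff.2 fun v _ => h v)
    obtain ⟨φ, hφS, hφc⟩ := exists_sep hc
    have hφ0 : φ ≠ 0 := fun e => by rw [e, zero_dotProduct] at hφc; exact zero_ne_one hφc
    have hker : ∀ v, φ ⬝ᵥ v = 0 → v ∈ S := by
      intro v hv
      by_contra hvS
      have hsup : S ⊔ Submodule.span F {v} = ⊤ := by
        refine Submodule.eq_top_of_finrank_eq (le_antisymm (Submodule.finrank_le _) ?_)
        have hlt : S < S ⊔ Submodule.span F {v} := by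
          refine lt_of_le_of_ne le_sup_left fun e => hvS ?_
          rw [e]; exact Submodule.mem_sup_right (Submodule.subset_span rfl)
        have := Submodule.finrank_lt_finrank_of_lt hlt
        omega
      obtain ⟨a, ha, b, hb, hab⟩ := Submodule.mem_sup.1 (hsup ▸ Submodule.mem_top : c ∈ S ⊔ Submodule.span F {v})
      obtain ⟨t, rfl⟩ := Submodule.mem_span_singleton.1 hb
      rw [← hab, dotProduct_add, hφS a ha, dotProduct_smul, hv, smul_zero, add_zero] at hφc
      exact zero_ne_one hφc
    choose g hg using fun p : ℙ F (Fin n → F) => exists_map_eq (by omega : 2 ≤ n) p.rep_nonzero hφ0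
    rw [← card_proj n]
    have hmem : ∀ p x, x ∈ act (Matrix.SpecialLinearGroup.transpose (g p)) S → p.rep ⬝ᵥ x = 0 := by
      intro p x hx
      obtain ⟨s, hs, rfl⟩ := mem_act.1 hx
      rw [dotProduct_mulVec]
      have h' : p.rep ᵥ* ((g p).1)ᵀ = φ := by rw [Matrix.vecMul_transpose, hg p]
      rw [show (Matrix.SpecialLinearGroup.transpose (g p)).1 = ((g p).1)ᵀ from rfl, h', hφS s hs]
    refine card_le_index_of_act hS (fun p => Matrix.SpecialLinearGroup.transpose (g p)) fun p p' h => ?_
    rw [← Projectivization.mk_rep p, ← Projectivization.mk_rep p',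
      Projectivization.mk_eq_mk_iff']
    by_contra hne
    obtain ⟨x, hx', hx⟩ : ∃ x : Fin n → F, p'.rep ⬝ᵥ x = 0 ∧ p.rep ⬝ᵥ x = 1 := by
      obtain ⟨x, hx, hx'⟩ := exists_sep (W := Submodule.span F {p'.rep}) (v := p.rep)
        (fun hm => hne (Submodule.mem_span_singleton.1 hm))
      exact ⟨x, by rw [dotProduct_comm]; exact hx _ (Submodule.subset_span rfl),
        by rw [dotProduct_comm]; exact hx'⟩
    have hxin : x ∈ act (Matrix.SpecialLinearGroup.transpose (g p')) S := by
      refine mem_act.2 ⟨(Matrix.SpecialLinearGroup.transpose (g p'))⁻¹.1 *ᵥ x, hker _ ?_, mulVec_inv_mulVec _ _⟩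
      rw [← hg p']
      have e : (g p').1 *ᵥ p'.rep = p'.rep ᵥ* (Matrix.SpecialLinearGroup.transpose (g p')).1 :=
        (Matrix.vecMul_transpose _ _).symm
      rw [e, ← dotProduct_mulVec, mulVec_inv_mulVec, hx']
    have := hmem p x (h ▸ hxin)
    rw [hx] at this
    exact one_ne_zero this
  · obtain ⟨C, hC⟩ := Submodule.exists_isCompl S
    have hCdim : Module.finrank F C = n - k := by
      have := Submodule.finrank_add_eq_of_isCompl hC
      rw [hfin, ← hk] at this
      omega
    let bs := Module.finBasisOfFinrankEq F S hk.symm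
    let bc := Module.finBasisOfFinrankEq F C hCdim
    -- coordinate functionals along S
    have hcoord : ∀ i, ∃ χ : Fin n → F, (∀ j, χ ⬝ᵥ (bs j : Fin n → F) = if i = j then 1 else 0) ∧
        ∀ j, χ ⬝ᵥ (bc j : Fin n → F) = 0 := by
      intro i
      obtain ⟨W, hW⟩ : ∃ W : Submodule F (Fin n → F),
          W = Submodule.span F ((fun j => (bs j : Fin n → F)) '' {j | j ≠ i}) ⊔ C := ⟨_, rfl⟩
      have hi : (bs i : Fin n → F) ∉ W := by
        intro h
        rw [hW] at h
        obtain ⟨a, ha, b, hb, hab⟩ := Submodule.mem_sup.1 h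
        have haS : a ∈ S := by
          refine (Submodule.span_le.2 ?_) ha
          rintro _ ⟨j, -, rfl⟩; exact (bs j).2
        have hb0 : b = 0 := by
          refine Submodule.disjoint_def.1 hC.disjoint b ?_ hb
          rw [show b = (bs i : Fin n → F) - a by rw [← hab]; abel]
          exact sub_mem (bs i).2 haS
        rw [hb0, add_zero] at hab
        rw [hab] at ha
        have hli : LinearIndependent F (fun j => (bs j : Fin n → F)) :=
          bs.linearIndependent.map' S.subtype S.ker_subtype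
        exact hli.notMem_span_image (s := {j | j ≠ i}) (by simp) ha
      obtain ⟨χ, hχ, hχi⟩ := exists_sep hi
      refine ⟨χ, fun j => ?_, fun j => ?_⟩
      · by_cases hij : i = j
        · subst hij; rw [if_pos rfl, hχi]
        · rw [if_neg hij]
          exact hχ _ (hW ▸ Submodule.mem_sup_left (Submodule.subset_span ⟨j, Ne.symm hij, rfl⟩))
      · exact hχ _ (hW ▸ Submodule.mem_sup_right (bc j).2)
    choose χ hχs hχc using hcoord
    have hgr : ∀ f : Fin (n - k) → Fin k → F, ∃ g : SLn n F,
        ∀ i, g.1 *ᵥ (bs i : Fin n → F) = (bs i : Fin n → F) + ∑ j, f j i • (bc j : Fin n → F) := by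
      intro f
      obtain ⟨g, hg⟩ := exists_graph univ (fun j => (bc j : Fin n → F)) (fun j => ∑ i, f j i • χ i)
        (fun i j => by rw [sum_dotProduct]; exact sum_eq_zero fun l _ => by rw [smul_dotProduct, hχc, smul_zero])
      refine ⟨g, fun i => ?_⟩
      rw [hg]
      congr 1
      refine sum_congr rfl fun j _ => ?_
      rw [sum_dotProduct, sum_eq_single i]
      · rw [smul_dotProduct, hχs, if_pos rfl, smul_eq_mul, mul_one]
      · intro l _ hl; rw [smul_dotProduct, hχs, if_neg hl, smul_zero]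
      · simp
    choose g hg using hgr
    have hbound : geomN n (Nat.card F) ≤ Nat.card (Fin (n - k) → Fin k → F) := by
      haveI := Fintype.ofFinite F
      rw [Nat.card_pi]
      simp only [Nat.card_pi, prod_const, card_univ, Fintype.card_fin, ← pow_mul]
      refine (geomN_le_pow Finite.one_lt_card n).trans (Nat.pow_le_pow_right Nat.card_pos ?_)
      obtain ⟨a, ha'⟩ : ∃ a, n = k + a := ⟨n - k, by omega⟩
      have ha : 2 ≤ a := by omega
      rw [show n - k = a by omega]
      nlinarith [show 2 ≤ k by omega]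
    refine hbound.trans (card_le_index_of_act hS g fun f f' h => ?_)
    funext j i
    have hx : (g f).1 *ᵥ (bs i : Fin n → F) ∈ act (g f') S :=
      h ▸ mem_act.2 ⟨_, (bs i).2, rfl⟩
    obtain ⟨s, hs, hse⟩ := mem_act.1 hx
    obtain ⟨s', rfl⟩ : ∃ s' : S, (s' : Fin n → F) = s := ⟨⟨s, hs⟩, rfl⟩
    let gc : Fin k → C := fun l => ∑ j, f' j l • bc j
    let fc : C := ∑ j, f j i • bc j
    have e : (s' : Fin n → F) + (↑(∑ l, bs.repr s' l • gc l) : Fin n → F) = (bs i : Fin n → F) + (fc : Fin n → F) := by
      rw [show (fc : Fin n → F) = ∑ j, f j i • (bc j : Fin n → F) by simp [fc], ← hg f i, ← hse]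
      have hs' : (s' : Fin n → F) = ∑ l, bs.repr s' l • (bs l : Fin n → F) := by
        refine (congrArg Subtype.val (bs.sum_repr s')).symm.trans ?_
        rw [Submodule.coe_sum]
        rfl
      conv_rhs => rw [hs', mulVec_sum]
      simp only [mulVec_smul, hg f', smul_add, sum_add_distrib]
      rw [← hs']
      simp [gc]
    have hd : ((s' - bs i : S) : Fin n → F) = ((fc - ∑ l, bs.repr s' l • gc l : C) : Fin n → F) := by
      push_cast
      rw [sub_eq_sub_iff_add_eq_add]
      rw [Submodule.coe_sum] at e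
      simp only [Submodule.coe_smul] at e ⊢
      rw [e, add_comm]
    have hzero : ((s' - bs i : S) : Fin n → F) = 0 :=
      Submodule.disjoint_def.1 hC.disjoint _ (s' - bs i).2 (hd ▸ (fc - _).2)
    have hs'i : s' = bs i := sub_eq_zero.1 (Subtype.ext hzero)
    have hfc : fc = gc i := by
      rw [hzero] at hd
      have h' := sub_eq_zero.1 (Subtype.ext (hd.symm : _ = ((0 : C) : Fin n → F)) : fc - ∑ l, bs.repr s' l • gc l = 0)
      rw [h', hs'i, bs.repr_self]
      simp [Finsupp.single_apply]
    have := congrArg (fun x => bc.repr x j) hfc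
    simpa [fc, gc, Finsupp.single_apply] using this

theorem index_ge_of_full [Finite F] (hn : 3 ≤ n) {H : Subgroup (SLn n F)} (hH : H ≠ ⊤)
    {u : Fin n → F} (hu : u ≠ 0) (hfull : ∀ φ : Fin n → F, φ ⬝ᵥ u = 0 → tr u φ ∈ H) :
    geomN n (Nat.card F) ≤ H.index := by
  classical
  let P : (Fin n → F) → Prop := fun v => ∀ φ : Fin n → F, φ ⬝ᵥ v = 0 → tr v φ ∈ H
  have hPsmul : ∀ (c : F) v, P v → P (c • v) := by
    intro c v hv φ hφ
    by_cases hc : c = 0
    · subst hc
      rw [zero_smul]
      have : tr (0 : Fin n → F) φ = 1 := Subtype.ext (by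
        rw [tr_coe (dotProduct_zero φ), zero_vecMulVec, add_zero, one_val])
      rw [this]; exact H.one_mem
    · have h' : φ ⬝ᵥ v = 0 := by
        rw [dotProduct_smul, smul_eq_mul, mul_eq_zero] at hφ; exact hφ.resolve_left hc
      rw [tr_smul c h']
      exact hv _ (by rw [smul_dotProduct, h', smul_zero])
  have hPinv : ∀ h ∈ H, ∀ v, P v → P (h.1 *ᵥ v) := by
    intro h hh v hv φ hφ
    have h' : (φ ᵥ* h.1) ⬝ᵥ v = 0 := by rw [← dotProduct_mulVec, hφ]
    have e : φ = (φ ᵥ* h.1) ᵥ* (h⁻¹).1 := by rw [vecMul_vecMul, mul_inv_coe, vecMul_one]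
    rw [e, ← tr_conj h h']
    exact H.mul_mem (H.mul_mem hh (hv _ h')) (H.inv_mem hh)
  have hPadd : ∀ v w, P v → P w → P (v + w) := by
    intro v w hv hw
    by_cases hvw : v ∈ Submodule.span F {w}
    · obtain ⟨c, rfl⟩ := Submodule.mem_span_singleton.1 hvw
      rw [show c • w + w = (c + 1) • w by rw [add_smul, one_smul]]
      exact hPsmul _ _ hw
    by_cases hw0 : w = 0
    · rw [hw0, add_zero]; exact hv
    -- χ kills w, is one on v: conjugation by tr w χ maps v to v + w
    obtain ⟨χ, hχ, hχv⟩ := exists_sep hvw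
    have hχw : χ ⬝ᵥ w = 0 := hχ w (Submodule.subset_span rfl)
    have := hPinv _ (hw χ hχw) v hv
    rw [tr_mulVec hχw, hχv, one_smul] at this
    exact this
  let S : Submodule F (Fin n → F) :=
    { carrier := {v | P v}
      zero_mem' := by simpa using hPsmul 0 u hfull
      add_mem' := fun {a b} ha hb => hPadd a b ha hb
      smul_mem' := fun c v hv => hPsmul c v hv }
  refine index_ge_of_invariant hn (S := S) ?_ ?_ (fun h hh v hv => hPinv h hh v hv)
  · intro h0
    have : u ∈ S := hfull
    rw [h0, Submodule.mem_bot] at this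
    exact hu this
  · intro h1
    refine hH (eq_top_of_tr_mem fun v φ hφ => ?_)
    have : v ∈ S := h1 ▸ Submodule.mem_top
    exact this φ hφ

end Cfsg.Agent.H51
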