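import Cfsg.Agent.H51.G2Inv

/-!
G₂(q), q even: the two involution classes are distinct, and the centraliser of the short one.
-/

set_option autoImplicit false
set_option maxRecDepth 100000

namespace Cfsg.Agent.H51.G2

open Cfsg.Lie Cfsg.Agent.H37 Cfsg.Agent.H37.RootSys

variable {F : Type*} [Field F] (Q : Chev.Data chevG2 F)

theorem dominant_short : Dominant Q.K 9 [1] where
  lt := by decide +kernel
  pos := by decide +kernel
  J_lt := by decide +kernel
  fix := fun i hi => by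
    rw [List.mem_singleton] at hi
    subst hi
    rw [← Q.K.w_reflect 1 (by decide +kernel) 9 (by decide +kernel)]
    decide +kernel
  nonneg := by decide +kernel
  orth := by decide +kernel
  out := ⟨0, by decide +kernel, by decide +kernel, by decide +kernel⟩
  cartan_J := by decide +kernel

theorem mem_P {r : ℕ} (h1 : 6 ≤ r) (h2 : r < 12) : r ∈ Q.sys.P :=
  Q.sys.P_eq ▸ mem_posSet.2 ⟨h2, h1⟩

/-- The roots 9, 10, 11. -/
theorem closed_top : Q.sys.toUnip.Closed (Q.sys.P.filter fun r => 9 ≤ r) :=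
  ⟨Finset.filter_subset _ _, fun _ hr _ hs _ _ hj => Finset.mem_filter.2
    ⟨(Q.sys.T_pos (Finset.mem_filter.1 hr).1 (Finset.mem_filter.1 hs).1 hj).1,
      le_trans (Finset.mem_filter.1 hr).2
        (Q.sys.T_pos (Finset.mem_filter.1 hr).1 (Finset.mem_filter.1 hs).1 hj).2.1.le⟩⟩

theorem closed_highest : Q.sys.toUnip.Closed ({11} : Finset ℕ) :=
  ⟨Finset.singleton_subset_iff.2 (mem_P Q (by omega) (by omega)), fun r hr s hs hne =>
    absurd ((Finset.mem_singleton.1 hr).trans (Finset.mem_singleton.1 hs).symm) hne⟩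

theorem N_top_mem (d e f : F) :
    N Q 0 0 0 d e f ∈ XS Q.sys.x (↑(Q.sys.P.filter fun r => 9 ≤ r) : Set ℕ) := by
  have k : ∀ r, 9 ≤ r → r < 12 → ∀ t, Q.sys.x r t ∈
      XS Q.sys.x (↑(Q.sys.P.filter fun r => 9 ≤ r) : Set ℕ) := fun r h1 h2 t =>
    x_mem_XS (Finset.mem_coe.2 (Finset.mem_filter.2 ⟨mem_P Q (by omega) h2, h1⟩)) t
  simp only [N, x_zero Q (show 6 < 12 by omega), x_zero Q (show 7 < 12 by omega),
    x_zero Q (show 8 < 12 by omega), one_mul]
  exact mul_mem (mul_mem (k 9 le_rfl (by omega) d) (k 10 (by omega) (by omega) e))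
    (k 11 (by omega) (by omega) f)

variable [CharP F 2]

theorem conj_short {u : ↥(chevG2.group F)} (hu : u ∈ Q.sys.U) :
    ∃ α β, u⁻¹ * Q.sys.x 9 1 * u = N Q 0 0 0 1 α β := by
  obtain ⟨a, b, c, d, e, f, rfl⟩ := exists_N Q hu
  refine ⟨b, c, ?_⟩
  rw [mul_assoc, inv_mul_eq_iff_eq_mul, x9_eq, mul_N, mul_N]
  congr 1 <;> ring

theorem conj_long {u : ↥(chevG2.group F)} (hu : u ∈ Q.sys.U) :
    u * Q.sys.x 11 1 * u⁻¹ = Q.sys.x 11 1 := by
  rw [central_of_domB Q (J := [0]) (i₀ := 1) (by decide +kernel) u hu, mul_inv_cancel_right]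

/-- The two representatives are not conjugate. -/
theorem not_conj (c : ↥(chevG2.group F)) : c * Q.sys.x 11 1 * c⁻¹ ≠ Q.sys.x 9 1 := by
  intro hc
  obtain ⟨u, hu, h, hh, w, v, hv, e⟩ := Q.sys.normalForm.exists_eq c
  change c = u * h * Q.sys.rep w * v at e
  have h1 := conj_long Q (Q.sys.Uw_le w hv)
  obtain ⟨α, β, h2⟩ := conj_short Q hu
  rw [e, show u * h * Q.sys.rep w * v * Q.sys.x 11 1 * (u * h * Q.sys.rep w * v)⁻¹ =
    u * (h * Q.sys.rep w * (v * Q.sys.x 11 1 * v⁻¹) * (h * Q.sys.rep w)⁻¹) * u⁻¹ by group, h1,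
    mul_inv_eq_iff_eq_mul] at hc
  have h3 : h * Q.sys.rep w * Q.sys.x 11 1 * (h * Q.sys.rep w)⁻¹ =
      Q.sys.x 9 1 * N Q 0 0 0 0 α β := by
    rw [x9_eq, mul_N, show N Q (0 + 0) (0 + 0) (0 + 0 * 0 + 0) (1 + 0 * 0 ^ 2 + 0)
      (0 + 0 * 0 ^ 3 + 0 * (1 + 0 * 0 ^ 2) + 0 ^ 2 * (0 + 0 * 0) + α)
      (0 + 0 * 0 + 0 * (0 * 0 ^ 2) + 0 * (0 + 0 * 0) ^ 2 + 0 * (1 + 0 * 0 ^ 2) + β) =
      N Q 0 0 0 1 α β by congr 1 <;> ring, ← h2]
    rw [mul_assoc u⁻¹, eq_inv_mul_iff_mul_eq]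
    exact hc
  obtain ⟨r, hr, -, hrk⟩ := exists_preimage Q (closed_highest Q) w hh
    (x_mem_XS (Finset.mem_coe.2 (Finset.mem_singleton_self 11)) 1) (k := 9) (by decide +kernel)
    (by decide +kernel) one_ne_zero
    (XS_mono (S' := {r | r ∈ posSet chevG2 ∧ 9 < r}) (fun q hq => ⟨Q.sys.P_eq ▸ hq.1, hq.2⟩) (N_tail Q 9 0 0 0 0 α β (fun _ => rfl)
      (fun _ => rfl) (fun _ => rfl) (fun _ => rfl) (by omega) (by omega))) h3
  rw [Finset.mem_singleton] at hr
  subst hr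
  rw [img_of_lt Q w (show 11 < chevG2.nroots by decide +kernel)] at hrk
  have := (short_hom Q w ⟨11, by decide +kernel⟩).1 (by rw [hrk]; decide)
  revert this
  decide

/-- The centraliser of the short representative, inside the group. -/
theorem centralizer_short {K : Subgroup ↥(chevG2.group F)}
    (hK : ∀ r, r ∈ [5, 6, 9, 10, 11] → ∀ t, Q.sys.x r t ∈ K) :
    Subgroup.centralizer {Q.sys.x 9 1} ≤ K := by
  set Z : Subgroup ↥(chevG2.group F) := Subgroup.centralizer {Q.sys.x 9 1} with hZ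
  have hZr : ∀ r, r ∈ [5, 6] → ∀ t, Q.sys.x r t ∈ Z := by
    intro r hr t
    rw [hZ, Subgroup.mem_centralizer_singleton_iff]
    simp only [List.mem_cons, List.not_mem_nil, or_false] at hr
    rcases hr with rfl | rfl
    · exact (comm_none Q (r := 5) (s := 9) (by omega) (by omega) (by omega) (by decide +kernel)
        (by decide +kernel) t 1).symm
    · exact (c6_9 Q t 1).symm
  have hrt : chevG2.simple 1 = 6 ∧ chevG2.neg 6 = 5 := by decide +kernel
  have hword : ∀ (t : F) (hg : Q.K.nU F (chevG2.simple 1) t ∈ chevG2.group F),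
      (⟨Q.K.nU F (chevG2.simple 1) t, hg⟩ : ↥(chevG2.group F)) ∈ K ⊓ Z := fun t hg => by
    have : (⟨Q.K.nU F (chevG2.simple 1) t, hg⟩ : ↥(chevG2.group F)) =
        Q.sys.x 6 t * Q.sys.x 5 (-t⁻¹) * Q.sys.x 6 t :=
      Subtype.ext ((Q.K.nU_eq F _ _).trans (by rw [hrt.1, hrt.2]; rfl))
    rw [this]
    exact mul_mem (mul_mem ⟨hK 6 (by decide) _, hZr 6 (by decide) _⟩
      ⟨hK 5 (by decide) _, hZr 5 (by decide) _⟩) ⟨hK 6 (by decide) _, hZr 6 (by decide) _⟩
  have hns : Q.sys.ns 1 ∈ K ⊓ Z := hword 1 (nG Q.K F 1).2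
  intro g hg
  obtain ⟨u, hu, h, hh, w, v, hv, e⟩ := Q.sys.normalForm.exists_eq g
  change g = u * h * Q.sys.rep w * v at e
  have hvU : v ∈ Q.sys.U := Q.sys.Uw_le w hv
  obtain ⟨α, β, h2⟩ := conj_short Q hu
  obtain ⟨γ, δ, h1⟩ := conj_short Q (inv_mem hvU)
  rw [inv_inv] at h1
  have hgc := Subgroup.mem_centralizer_singleton_iff.1 hg
  have h3 : h * Q.sys.rep w * N Q 0 0 0 1 γ δ * (h * Q.sys.rep w)⁻¹ =
      Q.sys.x 9 1 * N Q 0 0 0 0 α β := by
    rw [x9_eq, mul_N, show N Q (0 + 0) (0 + 0) (0 + 0 * 0 + 0) (1 + 0 * 0 ^ 2 + 0)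
      (0 + 0 * 0 ^ 3 + 0 * (1 + 0 * 0 ^ 2) + 0 ^ 2 * (0 + 0 * 0) + α)
      (0 + 0 * 0 + 0 * (0 * 0 ^ 2) + 0 * (0 + 0 * 0) ^ 2 + 0 * (1 + 0 * 0 ^ 2) + β) =
      N Q 0 0 0 1 α β by congr 1 <;> ring, ← h2, ← h1]
    calc h * Q.sys.rep w * (v * Q.sys.x 9 1 * v⁻¹) * (h * Q.sys.rep w)⁻¹
        = u⁻¹ * (g * Q.sys.x 9 1) * g⁻¹ * u := by rw [e]; group
      _ = _ := by rw [hgc]; group
  obtain ⟨r, hr, -, hrk⟩ := exists_preimage Q (closed_top Q) w hh (N_top_mem Q 1 γ δ) (k := 9)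
    (by decide +kernel) (by decide +kernel) one_ne_zero
    (XS_mono (S' := {r | r ∈ posSet chevG2 ∧ 9 < r}) (fun q hq => ⟨Q.sys.P_eq ▸ hq.1, hq.2⟩) (N_tail Q 9 0 0 0 0 α β (fun _ => rfl)
      (fun _ => rfl) (fun _ => rfl) (fun _ => rfl) (by omega) (by omega))) h3
  obtain ⟨hrP, hr9⟩ := Finset.mem_filter.1 hr
  have hr12 : r < 12 := (mem_posSet.1 (Q.sys.P_eq ▸ hrP)).1
  rw [img_of_lt Q w (show r < chevG2.nroots from hr12)] at hrk
  have hs := (short_hom Q w ⟨r, hr12⟩).1 (by rw [hrk]; decide)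
  obtain rfl : r = 9 := by
    simp only [shortRoots, List.mem_cons, List.not_mem_nil, or_false] at hs
    omega
  -- the representative
  have hw : w = 1 ∨ ∃ i : Fin Q.X.n, (i : ℕ) = 1 ∧ w = Q.X.M.simple i := by
    have hmem := stab_le_closure Q (dominant_short Q) w hrk
    clear hv e h3 hrk
    induction hmem using Subgroup.closure_induction_left with
    | one => exact Or.inl rfl
    | mul_left x hx y _ hy =>
      obtain ⟨i, hi, rfl⟩ := hx
      rw [List.mem_singleton] at hi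
      rcases hy with rfl | ⟨j, hj, rfl⟩
      · exact Or.inr ⟨i, hi, mul_one _⟩
      · obtain rfl : i = j := Fin.ext (hi.trans hj.symm)
        exact Or.inl (Q.X.M.toCoxeterSystem.simple_mul_simple_self i)
    | inv_mul_cancel x hx y _ hy =>
      obtain ⟨i, hi, rfl⟩ := hx
      rw [List.mem_singleton] at hi
      rw [show (Q.X.M.simple i)⁻¹ = Q.X.M.simple i from
        inv_eq_of_mul_eq_one_right (Q.X.M.toCoxeterSystem.simple_mul_simple_self i)]
      rcases hy with rfl | ⟨j, hj, rfl⟩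
      · exact Or.inr ⟨i, hi, mul_one _⟩
      · obtain rfl : i = j := Fin.ext (hi.trans hj.symm)
        exact Or.inl (Q.X.M.toCoxeterSystem.simple_mul_simple_self i)
  -- write `g` as `u h k`
  have hsplit : ∃ u' ∈ Q.sys.U, ∃ h' ∈ Q.sys.H, ∃ k ∈ K ⊓ Z, g = u' * h' * k := by
    rcases hw with rfl | ⟨i, hi, rfl⟩
    · refine ⟨u * (h * v * h⁻¹), mul_mem hu (Q.sys.H_conj_U hh hvU), h, hh, 1, one_mem _, ?_⟩
      rw [e, Q.sys.rep_one]; group
    · obtain ⟨b0, hb0, e2⟩ := Q.sys.rep_simple i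
      rw [hi] at e2
      obtain ⟨a, b, c, d, ee, f, rfl⟩ := exists_N Q hvU
      obtain ⟨b', c', d', e', f', hrot⟩ : ∃ b' c' d' e' f',
          N Q a b c d ee f = N Q 0 b' c' d' e' f' * Q.sys.x 6 a := by
        refine ⟨b, c + a * b, d + a * b ^ 2, ee + a * b ^ 3,
          f + a * (ee + a * b ^ 3) + (c + a * b) * (a * b ^ 2), ?_⟩
        rw [x6_eq, mul_N]
        have two := CharTwo.two_eq_zero (R := F)
        congr 1 <;>
          first
            | ring1
            | linear_combination -(a * b) * two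
            | linear_combination -(a * b ^ 2) * two
            | linear_combination -(a * b ^ 3) * two
            | linear_combination (-(a * ee) - a ^ 2 * b ^ 3 - c * a * b ^ 2 - a ^ 2 * b ^ 3) * two
            | skip
      have hconj : Q.sys.ns 1 * N Q 0 b' c' d' e' f' * (Q.sys.ns 1)⁻¹ ∈ Q.sys.U := by
        have hk : ∀ r r', 6 ≤ r' → r < 12 → r' < 12 → chevG2.reflectRoot 1 r = r' → ∀ t,
            Q.sys.ns 1 * Q.sys.x r t * (Q.sys.ns 1)⁻¹ ∈ Q.sys.U := fun r r' h6 hr hr' he t => by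
          rw [ns_x Q (by omega) hr he]
          exact Q.sys.x_mem_U hr' h6 t
        simp only [N, x_zero Q (show 6 < 12 by omega), one_mul]
        simp only [show ∀ x y : ↥(chevG2.group F), Q.sys.ns 1 * (x * y) * (Q.sys.ns 1)⁻¹ =
          (Q.sys.ns 1 * x * (Q.sys.ns 1)⁻¹) * (Q.sys.ns 1 * y * (Q.sys.ns 1)⁻¹) from
            fun x y => by group]
        exact mul_mem (mul_mem (mul_mem (mul_mem
          (hk 7 8 (by omega) (by omega) (by omega) (by decide +kernel) b')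
          (hk 8 7 (by omega) (by omega) (by omega) (by decide +kernel) c'))
          (hk 9 9 (by omega) (by omega) (by omega) (by decide +kernel) d'))
          (hk 10 11 (by omega) (by omega) (by omega) (by decide +kernel) e'))
          (hk 11 10 (by omega) (by omega) (by omega) (by decide +kernel) f')
      refine ⟨_, mul_mem hu (Q.sys.H_conj_U (mul_mem hh hb0) hconj), h * b0, mul_mem hh hb0,
        Q.sys.ns 1 * Q.sys.x 6 a, mul_mem hns ⟨hK 6 (by decide) _, hZr 6 (by decide) _⟩, ?_⟩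
      rw [e, e2, hrot]; group
  obtain ⟨u', hu', h', hh', k, hk, e'⟩ := hsplit
  have huh : u' * h' ∈ Z := by
    rw [show u' * h' = g * k⁻¹ by rw [e', mul_inv_cancel_right]]
    exact mul_mem hg (inv_mem hk.2)
  obtain ⟨s, es⟩ := Q.sys.h_conj h' hh' 9 (by decide +kernel) 1
  have huh' := Subgroup.mem_centralizer_singleton_iff.1 huh
  have h4 : u' * Q.sys.x 9 s = Q.sys.x 9 1 * u' := by
    calc u' * Q.sys.x 9 s = (u' * h' * Q.sys.x 9 1) * h'⁻¹ := by rw [← es]; group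
      _ = _ := by rw [huh']; group
  obtain ⟨a, b, c, d, ee, f, rfl⟩ := exists_N Q hu'
  rw [x9_eq, x9_eq, mul_N, mul_N] at h4
  obtain ⟨-, -, -, hd, he', hf'⟩ := N_inj Q h4
  obtain rfl : s = 1 := by linear_combination hd
  obtain rfl : b = 0 := by linear_combination -he'
  obtain rfl : c = 0 := by linear_combination -hf'
  have huK : N Q a 0 0 d ee f ∈ K := by
    simp only [N, x_zero Q (show 7 < 12 by omega), x_zero Q (show 8 < 12 by omega), mul_one]
    exact mul_mem (mul_mem (mul_mem (hK 6 (by decide) a) (hK 9 (by decide) d))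
      (hK 10 (by decide) ee)) (hK 11 (by decide) f)
  suffices hhK : h' ∈ K by
    rw [e']
    exact mul_mem (mul_mem huK hhK) hk.1
  -- the diagonal part
  have hd' : (h' : GL chevG2.Idx F) ∈ chevG2.diagonalSubgroup F := hh'
  rw [Q.K.diagonalSubgroup_eq] at hd'
  obtain ⟨cc, hcc⟩ := hd'
  have h9 : (9 : ℕ) < chevG2.nroots := by decide +kernel
  set φ : Fin chevG2.rank → Fˣ := fun i => cc i ^ chevG2.cartan i 9 with hφ
  have hscal : Chevalley.Scales (fun x : chevG2.Idx => ∏ i : Fin chevG2.rank,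
      cc i ^ Chevalley.pe (chevG2.simple i) x) 9 (∏ i, φ i) := by
    intro kk row col hne
    simp only [hφ, ← Finset.prod_pow, ← Finset.prod_mul_distrib]
    refine Finset.prod_congr rfl fun i _ => ?_
    have := Q.K.scales_hDiag F (r := chevG2.simple i) h9 (cc i) kk row col hne
    rw [Q.K.pairing_simple i.isLt] at this
    exact this
  have hA : chevG2.cartan 0 9 = 1 ∧ chevG2.cartan 1 9 = 0 ∧ chevG2.rank = 2 := by decide +kernel
  have hcases : ∀ i : Fin chevG2.rank, i.val = 0 ∨ i.val = 1 := fun i => by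
    have h1 := i.isLt
    have h2 := hA.2.2
    omega
  have h0 : 0 < chevG2.rank := by rw [hA.2.2]; omega
  have hone : (∏ i, φ i : Fˣ) = cc ⟨0, h0⟩ := by
    rw [Finset.prod_eq_single (⟨0, h0⟩ : Fin chevG2.rank)]
    · simp [hφ, hA.1]
    · intro i _ hne
      have : i.val = 1 := (hcases i).resolve_left fun h => hne (Fin.ext h)
      simp [hφ, this, hA.2.1]
    · simp
  have hc1 : cc ⟨0, h0⟩ = 1 := by
    refine Units.ext ?_
    have hx : Q.K.xU F 9 ((cc ⟨0, h0⟩ : F) * 1) = Q.K.xU F 9 1 := by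
      rw [← hone, ← Q.K.dU_conj_xU F h9 hscal 1]
      change Chevalley.torus chevG2 F cc * _ * (Chevalley.torus chevG2 F cc)⁻¹ = _
      rw [hcc]
      exact congrArg Subtype.val es
    have h2 : Q.K.xU F 9 ((cc ⟨0, h0⟩ : F) * 1 + -1) = 1 := by
      rw [← Q.K.xU_add, hx, Q.K.xU_add, add_neg_cancel, Q.K.xU_zero]
    have h3 := (Q.K.xU_eq_one_iff F h9 _).1 h2
    rw [Units.val_one]
    linear_combination h3
  have hmem : (h' : GL chevG2.Idx F) ∈ K.map (chevG2.group F).subtype := by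
    rw [← hcc, Q.K.torus_eq_prod]
    refine Subgroup.list_prod_mem _ fun x hx => ?_
    simp only [List.mem_map] at hx
    obtain ⟨i, -, rfl⟩ := hx
    rcases hcases i with hi | hi
    · obtain rfl : i = ⟨0, h0⟩ := Fin.ext hi
      rw [hc1, Units.val_one, Q.K.hU_one]
      exact one_mem _
    · rw [Q.K.hU_eq, hi]
      have hw' : ∀ t, Q.K.nU F (chevG2.simple 1) t ∈ K.map (chevG2.group F).subtype := fun t =>
        ⟨⟨_, Q.K.wU_mem F fun p _ => Q.K.xU_mem_group F p.1 p.2⟩, (hword t _).1, rfl⟩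
      exact mul_mem (hw' _) (hw' _)
  obtain ⟨x, hx, ex⟩ := hmem
  rwa [← Subtype.ext (a1 := x) (a2 := h') ex]

end Cfsg.Agent.H51.G2
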