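import Cfsg.Agent.H37.Chev.Struct
import Cfsg.Prelude.Def_ChevG2

/-!
Coordinates and multiplication in the positive unipotent group of type G₂ in characteristic two.
Roots: 6 = b (long), 7 = a (short), 8 = a+b, 9 = 2a+b, 10 = 3a+b, 11 = 3a+2b.
-/

set_option autoImplicit false
set_option maxRecDepth 100000

namespace Cfsg.Agent.H51.G2

open Cfsg.Lie Cfsg.Agent.H37 Cfsg.Agent.H37.RootSys

variable {F : Type*} [Field F] (Q : Chev.Data chevG2 F)

/-- The element with coordinates `a b c d e f` at the roots 6, …, 11. -/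
def N (a b c d e f : F) : ↥(chevG2.group F) :=
  Q.sys.x 6 a * Q.sys.x 7 b * Q.sys.x 8 c * Q.sys.x 9 d * Q.sys.x 10 e * Q.sys.x 11 f

theorem nroots_eq : chevG2.nroots = 12 := rfl

theorem x_add {r : ℕ} (hr : r < 12) (s t : F) : Q.sys.x r s * Q.sys.x r t = Q.sys.x r (s + t) :=
  (Q.sys.x_add' r hr s t).symm

theorem x_zero {r : ℕ} (hr : r < 12) : Q.sys.x r (0 : F) = 1 := Q.sys.x_zero' hr

/-- The commutator relation with its terms read off the table. -/
theorem comm_terms {r s : ℕ} (hr : r < 12) (hs : s < 12) (h1 : s ≠ r) (h2 : s ≠ chevG2.neg r)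
    {L : List (ℕ × ℤ × ℕ × ℕ)} (hL : chevG2.commTerms r s = L) (t u : F) :
    Q.sys.x s u * Q.sys.x r t = Q.sys.x r t * Q.sys.x s u *
      (L.map fun c => Q.sys.x c.1 ((c.2.1 : F) * (-t) ^ c.2.2.1 * u ^ c.2.2.2)).prod := by
  refine Subtype.ext ?_
  simp only [Subgroup.coe_mul, SubmonoidClass.coe_list_prod, List.map_map]
  change Q.K.xU F s u * Q.K.xU F r t = _
  rw [Q.K.xU_comm F hr hs h1 h2, ← hL, ChevalleyDatum.commWord, Chevalley.Cert.wU, List.map_map]
  rfl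

theorem comm_none {r s : ℕ} (hr : r < 12) (hs : s < 12) (h1 : s ≠ r) (h2 : s ≠ chevG2.neg r)
    (hL : chevG2.commTerms r s = []) (t u : F) :
    Q.sys.x s u * Q.sys.x r t = Q.sys.x r t * Q.sys.x s u := by
  rw [comm_terms Q hr hs h1 h2 hL, List.map_nil, List.prod_nil, mul_one]

theorem c6_11 (t u : F) : Q.sys.x 11 u * Q.sys.x 6 t = Q.sys.x 6 t * Q.sys.x 11 u :=
  comm_none Q (by omega) (by omega) (by omega) (by decide +kernel) (by decide +kernel) t u
theorem c6_9 (t u : F) : Q.sys.x 9 u * Q.sys.x 6 t = Q.sys.x 6 t * Q.sys.x 9 u :=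
  comm_none Q (by omega) (by omega) (by omega) (by decide +kernel) (by decide +kernel) t u
theorem c6_8 (t u : F) : Q.sys.x 8 u * Q.sys.x 6 t = Q.sys.x 6 t * Q.sys.x 8 u :=
  comm_none Q (by omega) (by omega) (by omega) (by decide +kernel) (by decide +kernel) t u
theorem c7_11 (t u : F) : Q.sys.x 11 u * Q.sys.x 7 t = Q.sys.x 7 t * Q.sys.x 11 u :=
  comm_none Q (by omega) (by omega) (by omega) (by decide +kernel) (by decide +kernel) t u
theorem c7_10 (t u : F) : Q.sys.x 10 u * Q.sys.x 7 t = Q.sys.x 7 t * Q.sys.x 10 u :=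
  comm_none Q (by omega) (by omega) (by omega) (by decide +kernel) (by decide +kernel) t u
theorem c8_11 (t u : F) : Q.sys.x 11 u * Q.sys.x 8 t = Q.sys.x 8 t * Q.sys.x 11 u :=
  comm_none Q (by omega) (by omega) (by omega) (by decide +kernel) (by decide +kernel) t u
theorem c8_10 (t u : F) : Q.sys.x 10 u * Q.sys.x 8 t = Q.sys.x 8 t * Q.sys.x 10 u :=
  comm_none Q (by omega) (by omega) (by omega) (by decide +kernel) (by decide +kernel) t u
theorem c9_11 (t u : F) : Q.sys.x 11 u * Q.sys.x 9 t = Q.sys.x 9 t * Q.sys.x 11 u :=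
  comm_none Q (by omega) (by omega) (by omega) (by decide +kernel) (by decide +kernel) t u
theorem c9_10 (t u : F) : Q.sys.x 10 u * Q.sys.x 9 t = Q.sys.x 9 t * Q.sys.x 10 u :=
  comm_none Q (by omega) (by omega) (by omega) (by decide +kernel) (by decide +kernel) t u
theorem c10_11 (t u : F) : Q.sys.x 11 u * Q.sys.x 10 t = Q.sys.x 10 t * Q.sys.x 11 u :=
  comm_none Q (by omega) (by omega) (by omega) (by decide +kernel) (by decide +kernel) t u

variable [CharP F 2]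

theorem neg_self (t : F) : -t = t := CharTwo.neg_eq t

theorem three_eq : ((3 : ℤ) : F) = 1 := by
  push_cast
  linear_combination CharTwo.two_eq_zero (R := F)

theorem r67 (t u : F) : Q.sys.x 7 u * Q.sys.x 6 t = Q.sys.x 6 t * Q.sys.x 7 u *
    (Q.sys.x 8 (t * u) * Q.sys.x 9 (t * u ^ 2) * Q.sys.x 10 (t * u ^ 3)) := by
  rw [comm_terms Q (L := [(8, 1, 1, 1), (9, 1, 1, 2), (10, -1, 1, 3), (11, -2, 2, 3)])
    (by omega) (by omega) (by omega) (by decide +kernel) (by decide +kernel) t u]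
  simp [mul_assoc, x_zero, CharTwo.two_eq_zero, neg_self]

theorem r6_10 (t u : F) : Q.sys.x 10 u * Q.sys.x 6 t = Q.sys.x 6 t * Q.sys.x 10 u *
    Q.sys.x 11 (t * u) := by
  rw [comm_terms Q (L := [(11, 1, 1, 1)])
    (by omega) (by omega) (by omega) (by decide +kernel) (by decide +kernel) t u]
  simp [neg_self]

theorem r78 (t u : F) : Q.sys.x 8 u * Q.sys.x 7 t = Q.sys.x 7 t * Q.sys.x 8 u *
    (Q.sys.x 10 (t ^ 2 * u) * Q.sys.x 11 (t * u ^ 2)) := by
  rw [comm_terms Q (L := [(9, -2, 1, 1), (10, -3, 2, 1), (11, 3, 1, 2)])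
    (by omega) (by omega) (by omega) (by decide +kernel) (by decide +kernel) t u]
  simp [x_zero, CharTwo.two_eq_zero, neg_self, show (3 : F) = 1 from by simpa using three_eq]

theorem r79 (t u : F) : Q.sys.x 9 u * Q.sys.x 7 t = Q.sys.x 7 t * Q.sys.x 9 u *
    Q.sys.x 10 (t * u) := by
  rw [comm_terms Q (L := [(10, 3, 1, 1)])
    (by omega) (by omega) (by omega) (by decide +kernel) (by decide +kernel) t u]
  simp [neg_self, show (3 : F) = 1 from by simpa using three_eq]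

theorem r89 (t u : F) : Q.sys.x 9 u * Q.sys.x 8 t = Q.sys.x 8 t * Q.sys.x 9 u *
    Q.sys.x 11 (t * u) := by
  rw [comm_terms Q (L := [(11, 3, 1, 1)])
    (by omega) (by omega) (by omega) (by decide +kernel) (by decide +kernel) t u]
  simp [neg_self, show (3 : F) = 1 from by simpa using three_eq]

/-! Right multiplication by the root elements. -/

theorem mul11 (a b c d e f s : F) : N Q a b c d e f * Q.sys.x 11 s = N Q a b c d e (f + s) := by
  rw [N, N, mul_assoc _ (Q.sys.x 11 f), x_add Q (by omega)]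

theorem mul10 (a b c d e f s : F) : N Q a b c d e f * Q.sys.x 10 s = N Q a b c d (e + s) f := by
  rw [N, N, mul_assoc _ (Q.sys.x 11 f), c10_11, ← mul_assoc, mul_assoc _ (Q.sys.x 10 e),
    x_add Q (by omega)]

theorem mul9 (a b c d e f s : F) : N Q a b c d e f * Q.sys.x 9 s = N Q a b c (d + s) e f := by
  rw [N, N, mul_assoc _ (Q.sys.x 11 f), c9_11, ← mul_assoc, mul_assoc _ (Q.sys.x 10 e), c9_10,
    ← mul_assoc, mul_assoc _ (Q.sys.x 9 d), x_add Q (by omega)]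

theorem mul8 (a b c d e f s : F) :
    N Q a b c d e f * Q.sys.x 8 s = N Q a b (c + s) d e (f + s * d) := by
  calc N Q a b c d e f * Q.sys.x 8 s
      = Q.sys.x 6 a * Q.sys.x 7 b * Q.sys.x 8 c * (Q.sys.x 9 d * Q.sys.x 8 s) *
          Q.sys.x 10 e * Q.sys.x 11 f := by
        simp only [N, mul_assoc, c8_11]
        rw [← mul_assoc (Q.sys.x 10 e) (Q.sys.x 8 s), c8_10]
        simp only [mul_assoc]
    _ = Q.sys.x 6 a * Q.sys.x 7 b * (Q.sys.x 8 c * Q.sys.x 8 s) * Q.sys.x 9 d *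
          (Q.sys.x 11 (s * d) * Q.sys.x 10 e) * Q.sys.x 11 f := by
        rw [r89]; simp only [mul_assoc]
    _ = _ := by
        rw [x_add Q (by omega), c10_11]
        simp only [N, mul_assoc, x_add Q (show 11 < 12 by omega)]
        rw [add_comm (s * d) f]

theorem mul7 (a b c d e f s : F) : N Q a b c d e f * Q.sys.x 7 s =
    N Q a (b + s) c d (e + s * d + s ^ 2 * c) (f + s * c ^ 2) := by
  calc N Q a b c d e f * Q.sys.x 7 s
      = Q.sys.x 6 a * Q.sys.x 7 b * Q.sys.x 8 c * (Q.sys.x 9 d * Q.sys.x 7 s) *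
          Q.sys.x 10 e * Q.sys.x 11 f := by
        simp only [N, mul_assoc, c7_11]
        rw [← mul_assoc (Q.sys.x 10 e) (Q.sys.x 7 s), c7_10]
        simp only [mul_assoc]
    _ = Q.sys.x 6 a * Q.sys.x 7 b * (Q.sys.x 8 c * Q.sys.x 7 s) * Q.sys.x 9 d *
          (Q.sys.x 10 (s * d) * Q.sys.x 10 e) * Q.sys.x 11 f := by
        rw [r79]; simp only [mul_assoc]
    _ = N Q a (b + s) c 0 (s ^ 2 * c) (s * c ^ 2) *
          Q.sys.x 9 d * Q.sys.x 10 (s * d + e) * Q.sys.x 11 f := by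
        rw [r78, x_add Q (by omega)]
        simp only [N, mul_assoc, x_zero Q (show 9 < 12 by omega), one_mul]
        rw [← mul_assoc (Q.sys.x 7 b), x_add Q (by omega)]
    _ = _ := by
        rw [mul9, mul10, mul11, zero_add]
        congr 1 <;> ring

theorem mul6 (a b c d e f s : F) : N Q a b c d e f * Q.sys.x 6 s =
    N Q (a + s) b (c + s * b) (d + s * b ^ 2) (e + s * b ^ 3)
      (f + s * e + c * (s * b ^ 2)) := by
  calc N Q a b c d e f * Q.sys.x 6 s
      = Q.sys.x 6 a * Q.sys.x 7 b * Q.sys.x 8 c * Q.sys.x 9 d *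
          (Q.sys.x 10 e * Q.sys.x 6 s) * Q.sys.x 11 f := by
        simp only [N, mul_assoc, c6_11]
    _ = Q.sys.x 6 a * (Q.sys.x 7 b * Q.sys.x 6 s) * Q.sys.x 8 c * Q.sys.x 9 d *
          Q.sys.x 10 e * Q.sys.x 11 (s * e) * Q.sys.x 11 f := by
        rw [r6_10]
        simp only [mul_assoc]
        rw [← mul_assoc (Q.sys.x 9 d) (Q.sys.x 6 s), c6_9, mul_assoc,
          ← mul_assoc (Q.sys.x 8 c) (Q.sys.x 6 s), c6_8]
        simp only [mul_assoc]
    _ = N Q (a + s) b (s * b) (s * b ^ 2) (s * b ^ 3) 0 * Q.sys.x 8 c * Q.sys.x 9 d *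
          Q.sys.x 10 e * Q.sys.x 11 (s * e) * Q.sys.x 11 f := by
        rw [r67]
        simp only [N, mul_assoc, x_zero Q (show 11 < 12 by omega), one_mul]
        rw [← mul_assoc (Q.sys.x 6 a), x_add Q (by omega)]
    _ = _ := by
        rw [mul8, mul9, mul10, mul11, mul11]
        congr 1 <;> ring

/-- The product in coordinates. -/
theorem mul_N (a b c d e f a' b' c' d' e' f' : F) :
    N Q a b c d e f * N Q a' b' c' d' e' f' =
      N Q (a + a') (b + b') (c + a' * b + c') (d + a' * b ^ 2 + d')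
        (e + a' * b ^ 3 + b' * (d + a' * b ^ 2) + b' ^ 2 * (c + a' * b) + e')
        (f + a' * e + c * (a' * b ^ 2) + b' * (c + a' * b) ^ 2 + c' * (d + a' * b ^ 2) + f') := by
  conv_lhs => enter [2]; unfold N
  simp only [← mul_assoc, mul6, mul7, mul8, mul9, mul10, mul11]

theorem x6_eq (t : F) : Q.sys.x 6 t = N Q t 0 0 0 0 0 := by simp [N, x_zero]
theorem x7_eq (t : F) : Q.sys.x 7 t = N Q 0 t 0 0 0 0 := by simp [N, x_zero]
theorem x8_eq (t : F) : Q.sys.x 8 t = N Q 0 0 t 0 0 0 := by simp [N, x_zero]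
theorem x9_eq (t : F) : Q.sys.x 9 t = N Q 0 0 0 t 0 0 := by simp [N, x_zero]
theorem x10_eq (t : F) : Q.sys.x 10 t = N Q 0 0 0 0 t 0 := by simp [N, x_zero]
theorem x11_eq (t : F) : Q.sys.x 11 t = N Q 0 0 0 0 0 t := by simp [N, x_zero]

theorem N_zero : N Q 0 0 0 0 0 0 = 1 := by simp [N, x_zero]

omit [CharP F 2] in
theorem N_tail (k : ℕ) (a b c d e f : F) (h6 : k ≥ 6 → a = 0) (h7 : k ≥ 7 → b = 0)
    (h8 : k ≥ 8 → c = 0) (h9 : k ≥ 9 → d = 0) (h10 : k ≥ 10 → e = 0) (h11 : k ≥ 11 → f = 0) :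
    N Q a b c d e f ∈ XS Q.sys.x {r | r ∈ Q.sys.P ∧ k < r} := by
  have key : ∀ r, 6 ≤ r → r < 12 → ∀ t : F, (k ≥ r → t = 0) →
      Q.sys.x r t ∈ XS Q.sys.x {r | r ∈ Q.sys.P ∧ k < r} := fun r h1 h2 t ht => by
    by_cases h : k < r
    · exact x_mem_XS (S := {r | r ∈ Q.sys.P ∧ k < r})
        ⟨Q.sys.P_eq ▸ mem_posSet.2 ⟨h2, h1⟩, h⟩ t
    · rw [ht (by omega), x_zero Q h2]; exact one_mem _
  exact mul_mem (mul_mem (mul_mem (mul_mem (mul_mem (key 6 le_rfl (by omega) a h6)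
    (key 7 (by omega) (by omega) b h7)) (key 8 (by omega) (by omega) c h8))
    (key 9 (by omega) (by omega) d h9)) (key 10 (by omega) (by omega) e h10))
    (key 11 (by omega) (by omega) f h11)

omit [CharP F 2] in
/-- Coordinates are unique. -/
theorem N_inj {a b c d e f a' b' c' d' e' f' : F} (h : N Q a b c d e f = N Q a' b' c' d' e' f') :
    a = a' ∧ b = b' ∧ c = c' ∧ d = d' ∧ e = e' ∧ f = f' := by
  have hP : ∀ {r}, 6 ≤ r → r < 12 → r ∈ Q.sys.P := fun h1 h2 =>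
    Q.sys.P_eq ▸ mem_posSet.2 ⟨h2, h1⟩
  have z : ∀ {r}, r < 12 → Q.sys.x r (0 : F) = 1 := fun hr => x_zero Q hr
  have hu := fun {k : ℕ} (hk : k ∈ Q.sys.P) {t u : F} {p p' : ↥(chevG2.group F)} hp hp' e =>
    Q.sys.toUnip.head_unique Q.sys.toUnip.closed_P hk (t := t) (u := u) (p := p) (p' := p') hp hp' e
  obtain ⟨rfl, h⟩ := hu (hP le_rfl (by omega)) (p := N Q 0 b c d e f) (p' := N Q 0 b' c' d' e' f')
    (N_tail Q 6 _ _ _ _ _ _ (fun _ => rfl) (by omega) (by omega) (by omega) (by omega) (by omega))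
    (N_tail Q 6 _ _ _ _ _ _ (fun _ => rfl) (by omega) (by omega) (by omega) (by omega) (by omega))
    (t := a) (u := a') (by simpa [N, z, mul_assoc] using h)
  obtain ⟨rfl, h⟩ := hu (hP (show 6 ≤ 7 by omega) (by omega)) (p := N Q 0 0 c d e f)
    (p' := N Q 0 0 c' d' e' f')
    (N_tail Q 7 _ _ _ _ _ _ (fun _ => rfl) (fun _ => rfl) (by omega) (by omega) (by omega) (by omega))
    (N_tail Q 7 _ _ _ _ _ _ (fun _ => rfl) (fun _ => rfl) (by omega) (by omega) (by omega) (by omega))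
    (t := b) (u := b') (by simpa [N, z, mul_assoc] using h)
  obtain ⟨rfl, h⟩ := hu (hP (show 6 ≤ 8 by omega) (by omega)) (p := N Q 0 0 0 d e f)
    (p' := N Q 0 0 0 d' e' f')
    (N_tail Q 8 _ _ _ _ _ _ (fun _ => rfl) (fun _ => rfl) (fun _ => rfl) (by omega) (by omega)
      (by omega))
    (N_tail Q 8 _ _ _ _ _ _ (fun _ => rfl) (fun _ => rfl) (fun _ => rfl) (by omega) (by omega)
      (by omega))
    (t := c) (u := c') (by simpa [N, z, mul_assoc] using h)
  obtain ⟨rfl, h⟩ := hu (hP (show 6 ≤ 9 by omega) (by omega)) (p := N Q 0 0 0 0 e f)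
    (p' := N Q 0 0 0 0 e' f')
    (N_tail Q 9 _ _ _ _ _ _ (fun _ => rfl) (fun _ => rfl) (fun _ => rfl) (fun _ => rfl) (by omega)
      (by omega))
    (N_tail Q 9 _ _ _ _ _ _ (fun _ => rfl) (fun _ => rfl) (fun _ => rfl) (fun _ => rfl) (by omega)
      (by omega))
    (t := d) (u := d') (by simpa [N, z, mul_assoc] using h)
  obtain ⟨rfl, h⟩ := hu (hP (show 6 ≤ 10 by omega) (by omega)) (p := N Q 0 0 0 0 0 f)
    (p' := N Q 0 0 0 0 0 f')
    (N_tail Q 10 _ _ _ _ _ _ (fun _ => rfl) (fun _ => rfl) (fun _ => rfl) (fun _ => rfl)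
      (fun _ => rfl) (by omega))
    (N_tail Q 10 _ _ _ _ _ _ (fun _ => rfl) (fun _ => rfl) (fun _ => rfl) (fun _ => rfl)
      (fun _ => rfl) (by omega))
    (t := e) (u := e') (by simpa [N, z, mul_assoc] using h)
  obtain ⟨rfl, -⟩ := hu (hP (show 6 ≤ 11 by omega) (by omega)) (p := 1) (p' := 1)
    (one_mem _) (one_mem _) (t := f) (u := f') (by simpa [N, z, mul_assoc] using h)
  exact ⟨rfl, rfl, rfl, rfl, rfl, rfl⟩

omit [CharP F 2] in
/-- Every element of `U` has coordinates. -/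
theorem exists_N {g : ↥(chevG2.group F)} (hg : g ∈ Q.sys.U) :
    ∃ a b c d e f, g = N Q a b c d e f := by
  have hP : ∀ {r}, 6 ≤ r → r < 12 → r ∈ Q.sys.P := fun h1 h2 =>
    Q.sys.P_eq ▸ mem_posSet.2 ⟨h2, h1⟩
  have step : ∀ k, 6 ≤ k → k < 12 → ∀ g ∈ XS Q.sys.x {r | r ∈ Q.sys.P ∧ k ≤ r},
      ∃ t, ∃ p ∈ XS Q.sys.x {r | r ∈ Q.sys.P ∧ k + 1 ≤ r}, g = Q.sys.x k t * p :=
    fun k h1 h2 g hg => Q.sys.toUnip.exists_head Q.sys.toUnip.closed_P (hP h1 h2) hg
  obtain ⟨a, p1, hp1, rfl⟩ := step 6 le_rfl (by omega) g (XS_mono (S' := {r | r ∈ Q.sys.P ∧ 6 ≤ r})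
    (fun r hr => ⟨Q.sys.P_eq ▸ Finset.mem_coe.1 hr, (mem_posSet.1 (Finset.mem_coe.1 hr)).2⟩) hg)
  obtain ⟨b, p2, hp2, rfl⟩ := step 7 (by omega) (by omega) p1 hp1
  obtain ⟨c, p3, hp3, rfl⟩ := step 8 (by omega) (by omega) p2 hp2
  obtain ⟨d, p4, hp4, rfl⟩ := step 9 (by omega) (by omega) p3 hp3
  obtain ⟨e, p5, hp5, rfl⟩ := step 10 (by omega) (by omega) p4 hp4
  obtain ⟨f, p6, hp6, rfl⟩ := step 11 (by omega) (by omega) p5 hp5
  have hempty : {r | r ∈ Q.sys.P ∧ 11 + 1 ≤ r} = ∅ := Set.eq_empty_iff_forall_notMem.2 fun r hr => by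
    have h1 : r ∈ posSet chevG2 := Q.sys.P_eq ▸ hr.1
    have h2 : r < 12 := (mem_posSet.1 h1).1
    have := hr.2
    omega
  rw [hempty, XS_empty, Subgroup.mem_bot] at hp6
  exact ⟨a, b, c, d, e, f, by simp [N, hp6, mul_assoc]⟩

end Cfsg.Agent.H51.G2
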