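import Cfsg.Agent.H51.RootCentral

/-!
The table facts for the long and short dominant roots of F₄, E₆, E₇, E₈.
-/

set_option autoImplicit false
set_option maxRecDepth 100000

namespace Cfsg.Agent.H51

open Cfsg.Lie Cfsg.Agent.H37 Cfsg.Agent.H37.RootSys

/-- Decidable form of `Dominant`, and the parity of the commutator terms with positive roots. -/
def domB (D : ChevalleyDatum) (m : ℕ) (J : List ℕ) (i₀ : ℕ) : Bool :=
  decide (m < D.nroots) && decide (D.nroots / 2 ≤ m) && decide (i₀ < D.rank) &&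
  decide (D.cartan i₀ m = 1) &&
  (J.all fun i => decide (i < D.rank) && decide (D.reflectRoot i m = m) && decide (D.cartan i m = 0)) &&
  ((List.range D.rank).all fun i =>
    decide (0 ≤ ((List.range D.rank).map fun j =>
      Chevalley.cor D m j * D.cartan j (D.simple i)).sum) &&
    (J.contains i || (i == i₀ && decide (((List.range D.rank).map fun j =>
      Chevalley.cor D m j * D.cartan j (D.simple i)).sum ≠ 0)))) &&
  ((List.range D.nroots).all fun s => decide (s < D.nroots / 2) || (s == m) ||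
    (D.commTerms m s).all fun c => decide ((2 : ℤ) ∣ c.2.1))

variable {D : ChevalleyDatum}

theorem dominant_of_domB {K : Chevalley.Cert D} {m : ℕ} {J : List ℕ} {i₀ : ℕ}
    (h : domB D m J i₀ = true) : Dominant K m J := by
  simp only [domB, Bool.and_eq_true, decide_eq_true_eq, List.all_eq_true, List.mem_range,
    Bool.or_eq_true, List.contains_iff_mem, beq_iff_eq] at h
  obtain ⟨⟨⟨⟨⟨⟨h1, h2⟩, h3⟩, h4⟩, hJ⟩, hr⟩, -⟩ := h
  have hsum : ∀ i, Chevalley.pairingSum D m (D.simple i) =
      ((List.range D.rank).map fun j => Chevalley.cor D m j * D.cartan j (D.simple i)).sum :=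
    fun i => rfl
  refine
    { lt := h1, pos := h2, J_lt := fun i hi => (hJ i hi).1.1
      fix := fun i hi => ?_, nonneg := fun i hi => ?_, orth := fun i hi h0 => ?_
      out := ⟨i₀, h3, h4, fun i hi hiJ => ?_⟩, cartan_J := fun i hi => (hJ i hi).2 }
  · rw [← K.w_reflect i (hJ i hi).1.1 m h1]; exact (hJ i hi).1.2
  · rw [hsum]; exact (hr i hi).1
  · rw [hsum] at h0
    exact (hr i hi).2.resolve_right fun h' => h'.2 h0
  · exact ((hr i hi).2.resolve_left hiJ).1

variable {F : Type*} [Field F] [CharP F 2] (Q : Chev.Data D F)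

theorem central_of_domB {m : ℕ} {J : List ℕ} {i₀ : ℕ} (h : domB D m J i₀ = true) :
    ∀ g ∈ Q.sys.U, g * Q.sys.x m 1 = Q.sys.x m 1 * g := by
  simp only [domB, Bool.and_eq_true, decide_eq_true_eq, List.all_eq_true, List.mem_range,
    Bool.or_eq_true, beq_iff_eq] at h
  obtain ⟨⟨⟨⟨⟨⟨hm, hp⟩, -⟩, -⟩, -⟩, -⟩, hc⟩ := h
  intro g hg
  have hle : Q.sys.U ≤ Subgroup.centralizer {Q.sys.x m 1} := XS_le fun s hs u => by
    rw [Subgroup.mem_centralizer_singleton_iff]
    obtain ⟨hs1, hs2⟩ := mem_posSet.1 hs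
    by_cases hsm : s = m
    · subst hsm
      rw [← Q.sys.x_add' _ hs1, ← Q.sys.x_add' _ hs1, add_comm]
    · refine Subtype.ext ?_
      change Q.K.xU F s u * Q.K.xU F m 1 = Q.K.xU F m 1 * Q.K.xU F s u
      have hneg : s ≠ D.neg m := by
        rw [Q.K.neg_eq m hm]; have := Q.K.two_half; omega
      rw [Q.K.xU_comm F hm hs1 hsm hneg]
      have hw : Q.K.wU F (D.commWord F m s 1 u) = 1 := by
        refine Subgroup.mem_bot.1 (Q.K.wU_mem F fun q hq => ?_)
        simp only [ChevalleyDatum.commWord, List.mem_map] at hq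
        obtain ⟨c, hcmem, rfl⟩ := hq
        have h2 : (2 : ℤ) ∣ c.2.1 :=
          ((hc s hs1).resolve_left (fun h' => h'.elim (by omega) (fun e => hsm e))) c hcmem
        obtain ⟨k, hk⟩ := h2
        rw [hk, Subgroup.mem_bot]
        simp [CharTwo.two_eq_zero, Q.K.xU_zero]
      rw [hw, mul_one]
  exact Subgroup.mem_centralizer_singleton_iff.1 (hle hg)

theorem domB_E6 : domB chevE6 71 [0, 2, 3, 4, 5] 1 = true := by decide +kernel
theorem domB_E7 : domB chevE7 125 [1, 2, 3, 4, 5, 6] 0 = true := by decide +kernel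
theorem domB_E8 : domB chevE8 239 [0, 1, 2, 3, 4, 5, 6] 7 = true := by decide +kernel
theorem domB_F4_long : domB chevF4 47 [0, 1, 2] 3 = true := by decide +kernel
theorem domB_F4_short : domB chevF4 44 [1, 2, 3] 0 = true := by decide +kernel

end Cfsg.Agent.H51
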