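import Cfsg.Agent.H51.G2Coord
import Cfsg.Agent.H51.Supports
import Cfsg.Agent.H51.SylowU
import Cfsg.Agent.H51.RootCases
import Cfsg.Agent.Orthogonal.Frame

/-!
Involutions of G₂(q), q even: two classes, and the centraliser of the short root involution.
-/

set_option autoImplicit false
set_option maxRecDepth 100000

namespace Cfsg.Agent.H51.G2

open Cfsg.Lie Cfsg.Agent.H37 Cfsg.Agent.H37.RootSys

variable {F : Type*} [Field F] (Q : Chev.Data chevG2 F)

/-- The short roots. -/
def shortRoots : List ℕ := [2, 3, 4, 7, 8, 9]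

theorem short_w : ∀ i < chevG2.rank, ∀ r < chevG2.nroots,
    (r ∈ shortRoots ↔ chevG2.reflectRoot i r ∈ shortRoots) := by decide +kernel

theorem short_hom (w : Q.X.M.Group) : ∀ r : Fin chevG2.nroots,
    ((Q.X.good.hom w r).val ∈ shortRoots ↔ r.val ∈ shortRoots) := by
  refine Sys.gen_induction (p := fun w => ∀ r : Fin chevG2.nroots,
    ((Q.X.good.hom w r).val ∈ shortRoots ↔ r.val ∈ shortRoots)) (by simp) (fun i w ih r => ?_) w
  have hi : i.val < chevG2.rank := Q.rank_eq.symm ▸ i.isLt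
  rw [map_mul, Equiv.Perm.mul_apply, hom_simple_val, ← Q.K.w_reflect _ hi _ (Fin.isLt _),
    ← short_w _ hi _ (Fin.isLt _), ih]

/-- Conjugacy inside the group. -/
def Cj (u v : ↥(chevG2.group F)) : Prop := ∃ c, c * u * c⁻¹ = v

omit Q in
theorem Cj.trans {u v w : ↥(chevG2.group F)} (h : Cj u v) (h' : Cj v w) : Cj u w := by
  obtain ⟨a, rfl⟩ := h
  obtain ⟨b, rfl⟩ := h'
  exact ⟨b * a, by group⟩

omit Q in
theorem Cj.of_mul {u v g : ↥(chevG2.group F)} (h : u * g = g * v) : Cj u v :=
  ⟨g⁻¹, by rw [inv_inv, mul_assoc, h, inv_mul_cancel_left]⟩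

theorem cj_scale {i m : ℕ} (hi : i < 2) (hm : m < 12) (hA : chevG2.cartan i m = 1) {t : F}
    (ht : t ≠ 0) : Cj (Q.sys.x m t) (Q.sys.x m 1) := by
  refine ⟨⟨Q.K.hU F (chevG2.simple i) t⁻¹, Q.K.wU_mem F fun p _ => Q.K.xU_mem_group F p.1 p.2⟩, ?_⟩
  refine Subtype.ext ?_
  have := Q.K.hU_conj_xU F (Q.K.simple_lt i hi).1 hm (Units.mk0 t⁻¹ (inv_ne_zero ht)) t
  rw [Q.K.pairing_simple hi, hA, zpow_one, Units.val_mk0, inv_mul_cancel₀ ht] at this
  exact this

variable [CharP F 2]

theorem ns_x {i : ℕ} (hi : i < 2) {r : ℕ} (hr : r < 12) {k : ℕ}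
    (hk : chevG2.reflectRoot i r = k) (t : F) :
    Q.sys.ns i * Q.sys.x r t * (Q.sys.ns i)⁻¹ = Q.sys.x k t := by
  refine Subtype.ext ?_
  have := Q.K.nS_conj_xU F hi hr t
  rw [sg_cast Q, one_mul, ← Q.K.w_reflect i hi r hr, hk] at this
  exact this

theorem cj_ns {i : ℕ} (hi : i < 2) (a b : F) {r s r' s' : ℕ} (hr : r < 12) (hs : s < 12)
    (hr' : chevG2.reflectRoot i r = r') (hs' : chevG2.reflectRoot i s = s') :
    Cj (Q.sys.x r a * Q.sys.x s b) (Q.sys.x r' a * Q.sys.x s' b) :=
  ⟨Q.sys.ns i, by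
    rw [show Q.sys.ns i * (Q.sys.x r a * Q.sys.x s b) * (Q.sys.ns i)⁻¹ =
      (Q.sys.ns i * Q.sys.x r a * (Q.sys.ns i)⁻¹) * (Q.sys.ns i * Q.sys.x s b * (Q.sys.ns i)⁻¹) by
        group, ns_x Q hi hr hr', ns_x Q hi hs hs']⟩

theorem cj_ns_single {i : ℕ} (hi : i < 2) (a : F) {r r' : ℕ} (hr : r < 12)
    (hr' : chevG2.reflectRoot i r = r') : Cj (Q.sys.x r a) (Q.sys.x r' a) :=
  ⟨Q.sys.ns i, ns_x Q hi hr hr' a⟩

theorem cj_ns3 {i : ℕ} (hi : i < 2) (a b c : F) {r s u r' s' u' : ℕ} (hr : r < 12) (hs : s < 12)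
    (hu : u < 12) (hr' : chevG2.reflectRoot i r = r') (hs' : chevG2.reflectRoot i s = s')
    (hu' : chevG2.reflectRoot i u = u') :
    Cj (Q.sys.x r a * Q.sys.x s b * Q.sys.x u c) (Q.sys.x r' a * Q.sys.x s' b * Q.sys.x u' c) :=
  ⟨Q.sys.ns i, by
    rw [show Q.sys.ns i * (Q.sys.x r a * Q.sys.x s b * Q.sys.x u c) * (Q.sys.ns i)⁻¹ =
      (Q.sys.ns i * Q.sys.x r a * (Q.sys.ns i)⁻¹) * (Q.sys.ns i * Q.sys.x s b * (Q.sys.ns i)⁻¹) *
        (Q.sys.ns i * Q.sys.x u c * (Q.sys.ns i)⁻¹) by group, ns_x Q hi hr hr', ns_x Q hi hs hs',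
      ns_x Q hi hu hu']⟩

/-- The two representatives. -/
def Rep (u : ↥(chevG2.group F)) : Prop := Cj u (Q.sys.x 11 1) ∨ Cj u (Q.sys.x 9 1)

theorem Rep.of_cj {u v : ↥(chevG2.group F)} (h : Cj u v) (h' : Rep Q v) : Rep Q u :=
  h'.imp h.trans h.trans

theorem rep_x11 {t : F} (ht : t ≠ 0) : Rep Q (Q.sys.x 11 t) :=
  Or.inl (cj_scale Q (i := 1) (by omega) (by omega) (by decide +kernel) ht)

theorem rep_x7 {t : F} (ht : t ≠ 0) : Rep Q (Q.sys.x 7 t) :=
  Or.inr (((cj_ns_single Q (i := 1) (by omega) t (by omega) (r' := 8) (by decide +kernel)).trans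
    (cj_ns_single Q (i := 0) (by omega) t (by omega) (r' := 9) (by decide +kernel))).trans
      (cj_scale Q (i := 0) (by omega) (by omega) (by decide +kernel) ht))

variable [Finite F]

theorem rep_caseB {b c e f : F} (hb : b ≠ 0) : Rep Q (N Q 0 b c (b * c) e f) := by
  have h1 : Cj (N Q 0 b c (b * c) e f)
      (N Q 0 b 0 0 (e + c / b * b ^ 3) (f + c / b * e + c * (c / b * b ^ 2))) := by
    refine Cj.of_mul (g := N Q (c / b) 0 0 0 0 0) ?_
    rw [mul_N, mul_N]
    congr 1 <;>
      (try field_simp) <;>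
      first
        | ring1
        | linear_combination c * CharTwo.two_eq_zero (R := F)
        | linear_combination b * c * CharTwo.two_eq_zero (R := F)
  refine Rep.of_cj Q h1 ?_
  set E := e + c / b * b ^ 3
  set F' := f + c / b * e + c * (c / b * b ^ 2)
  obtain ⟨r, hr⟩ := Orthogonal.isSquare_of_two_eq_zero (CharTwo.two_eq_zero (R := F)) (F' / b)
  have hF : b * r ^ 2 = F' := by rw [pow_two, ← hr]; field_simp
  have h2 : Cj (N Q 0 b 0 0 E F') (N Q 0 b 0 0 0 0) := by
    refine Cj.of_mul (g := N Q 0 0 r ((E + b ^ 2 * r) / b) 0 0) ?_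
    rw [mul_N, mul_N]
    congr 1 <;>
      (try field_simp) <;>
      first
        | ring1
        | linear_combination -b ^ 2 * r * CharTwo.two_eq_zero (R := F)
        | linear_combination hF
        | linear_combination b * hF
        | linear_combination -b * hF
        | linear_combination -hF
        | linear_combination b ^ 2 * r * CharTwo.two_eq_zero (R := F)
  refine Rep.of_cj Q h2 ?_
  rw [← x7_eq]
  exact rep_x7 Q hb

theorem rep_caseA {a c d e f : F} (ha : a ≠ 0) (hcond : a * e + c * d = 0) :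
    Rep Q (N Q a 0 c d e f) := by
  have hcond' : a * e = c * d := by linear_combination hcond - c * d * CharTwo.two_eq_zero (R := F)
  set s := c / a with hs
  have h1 : Cj (N Q a 0 c d e f) (N Q a 0 0 (d + a * s ^ 2) 0 (f + s * c ^ 2)) := by
    refine Cj.of_mul (g := N Q 0 s 0 0 0 0) ?_
    rw [mul_N, mul_N, hs]
    congr 1 <;>
      (try field_simp) <;>
      first
        | ring1
        | linear_combination hcond'
        | linear_combination -c ^ 2 * CharTwo.two_eq_zero (R := F)
        | linear_combination a ^ 2 * hcond' - c * d * a * CharTwo.two_eq_zero (R := F)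
        | linear_combination a * hcond' + a * c * d * CharTwo.two_eq_zero (R := F)
        | linear_combination a ^ 2 * hcond'
        | linear_combination a * hcond'
        | linear_combination -c ^ 2 * CharTwo.two_eq_zero (R := F)
        | linear_combination c ^ 2 * CharTwo.two_eq_zero (R := F)
        | linear_combination -a * c ^ 2 * CharTwo.two_eq_zero (R := F)
        | linear_combination a * c ^ 2 * CharTwo.two_eq_zero (R := F)
  refine Rep.of_cj Q h1 ?_
  set B := d + a * s ^ 2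
  set E := f + s * c ^ 2
  have h2 : Cj (N Q a 0 0 B 0 E) (N Q a 0 0 B 0 0) := by
    refine Cj.of_mul (g := N Q 0 0 0 0 (E / a) 0) ?_
    rw [mul_N, mul_N]
    congr 1 <;> (try field_simp) <;> ring1
  refine Rep.of_cj Q h2 ?_
  have e1 : N Q a 0 0 B 0 0 = Q.sys.x 6 a * Q.sys.x 9 B := by simp [N, x_zero]
  rw [e1]
  refine Rep.of_cj Q ((cj_ns Q (i := 0) (by omega) a B (by omega) (by omega) (r' := 10) (s' := 8)
    (by decide +kernel) (by decide +kernel)).trans (cj_ns Q (i := 1) (by omega) a B (by omega)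
      (by omega) (r' := 11) (s' := 7) (by decide +kernel) (by decide +kernel))) ?_
  by_cases hB : B = 0
  · rw [hB, x_zero Q (by omega), mul_one]; exact rep_x11 Q ha
  · have e2 : Q.sys.x 11 a * Q.sys.x 7 B = N Q 0 B 0 (B * 0) 0 a := by
      rw [c7_11, mul_zero]; simp [N, x_zero]
    rw [e2]
    exact rep_caseB Q hB

theorem rep_caseC1 {c e f : F} (hc : c ≠ 0) : Rep Q (N Q 0 0 c 0 e f) := by
  have e1 : N Q 0 0 c 0 e f = Q.sys.x 8 c * Q.sys.x 10 e * Q.sys.x 11 f := by simp [N, x_zero]
  rw [e1]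
  refine Rep.of_cj Q (cj_ns3 Q (i := 1) (by omega) c e f (by omega) (by omega) (by omega)
    (r' := 7) (s' := 11) (u' := 10) (by decide +kernel) (by decide +kernel) (by decide +kernel)) ?_
  have e2 : Q.sys.x 7 c * Q.sys.x 11 e * Q.sys.x 10 f = N Q 0 c 0 (c * 0) f e := by
    rw [mul_assoc, c10_11, mul_zero]; simp [N, x_zero, mul_assoc]
  rw [e2]
  exact rep_caseB Q hc

theorem rep_caseC {c d e f : F} (hcd : c * d = 0) (hne : N Q 0 0 c d e f ≠ 1) :
    Rep Q (N Q 0 0 c d e f) := by
  have two := CharTwo.two_eq_zero (R := F)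
  by_cases hc : c = 0
  · subst hc
    by_cases hd : d = 0
    · subst hd
      by_cases he : e = 0
      · subst he
        have hf : f ≠ 0 := fun h => hne (by rw [h, N_zero])
        rw [← x11_eq]
        exact rep_x11 Q hf
      · have h2 : Cj (N Q 0 0 0 0 e f) (N Q 0 0 0 0 e 0) := by
          refine Cj.of_mul (g := N Q (f / e) 0 0 0 0 0) ?_
          rw [mul_N, mul_N]
          congr 1 <;> (try field_simp) <;>
            first
              | ring1
              | linear_combination f * two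
              | linear_combination f * e ^ 2 * two
        refine Rep.of_cj Q h2 ?_
        rw [← x10_eq]
        exact Rep.of_cj Q (cj_ns_single Q (i := 1) (by omega) e (by omega) (r' := 11)
          (by decide +kernel)) (rep_x11 Q he)
    · have e1 : N Q 0 0 0 d e f = Q.sys.x 9 d * Q.sys.x 10 e * Q.sys.x 11 f := by
        simp [N, x_zero]
      rw [e1]
      refine Rep.of_cj Q (cj_ns3 Q (i := 0) (by omega) d e f (by omega) (by omega) (by omega)
        (r' := 8) (s' := 6) (u' := 11) (by decide +kernel) (by decide +kernel)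
        (by decide +kernel)) ?_
      have e2 : Q.sys.x 8 d * Q.sys.x 6 e * Q.sys.x 11 f = N Q e 0 d 0 0 f := by
        rw [c6_8]; simp [N, x_zero]
      rw [e2]
      by_cases he : e = 0
      · subst he; exact rep_caseC1 Q hd
      · exact rep_caseA Q he (by ring)
  · have hd : d = 0 := (mul_eq_zero.1 hcd).resolve_left hc
    subst hd
    exact rep_caseC1 Q hc

/-- Every involution of `U` is conjugate to one of the two representatives. -/
theorem rep_of_sq {u : ↥(chevG2.group F)} (hu : u ∈ Q.sys.U) (h1 : u * u = 1) (hne : u ≠ 1) :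
    Rep Q u := by
  obtain ⟨a, b, c, d, e, f, rfl⟩ := exists_N Q hu
  rw [mul_N, ← N_zero Q] at h1
  obtain ⟨-, -, hc, hd, he, hf⟩ := N_inj Q h1
  have two := CharTwo.two_eq_zero (R := F)
  by_cases ha : a = 0
  · subst ha
    by_cases hb : b = 0
    · subst hb
      exact rep_caseC Q (by linear_combination hf - f * two) hne
    · have h3 : b * (d + b * c) = 0 := by linear_combination he - e * two
      have hd' : d = b * c := by
        have := (mul_eq_zero.1 h3).resolve_left hb
        linear_combination this - b * c * two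
      rw [hd']
      exact rep_caseB Q hb
  · have hab : a * b = 0 := by linear_combination hc - c * two
    obtain rfl : b = 0 := (mul_eq_zero.1 hab).resolve_left ha
    exact rep_caseA Q ha (by linear_combination hf - f * two)

end Cfsg.Agent.H51.G2
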