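import Cfsg.Agent.H51.Orbits

/-!
No proper subgroup meets every transvection group in a hyperplane.
-/
set_option autoImplicit false

namespace Cfsg.Agent.H51

open Matrix

variable {n : ℕ} {F : Type*} [Field F]

theorem mem_of_forall_dot {W : Submodule F (Fin n → F)} {w : Fin n → F}
    (h : ∀ φ : Fin n → F, (∀ x ∈ W, φ ⬝ᵥ x = 0) → φ ⬝ᵥ w = 0) : w ∈ W := by
  by_contra hw
  obtain ⟨φ, hφ, hφw⟩ := exists_sep hw
  rw [h φ hφ] at hφw
  exact zero_ne_one hφw

theorem no_hyperplane_case (hn : 3 ≤ n) (H : Subgroup (SLn n F))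
    (hB : ∀ p : Fin n → F, p ≠ 0 → ∃ v, v ∉ Submodule.span F {p} ∧
      ∀ φ : Fin n → F, φ ⬝ᵥ p = 0 → (tr p φ ∈ H ↔ φ ⬝ᵥ v = 0)) : False := by
  classical
  choose! v hv hvH using hB
  let ℓ : (Fin n → F) → Submodule F (Fin n → F) := fun p => Submodule.span F {p, v p}
  have hpl : ∀ p, p ∈ ℓ p := fun p => Submodule.subset_span (by simp)
  have hvl : ∀ p, v p ∈ ℓ p := fun p => Submodule.subset_span (by simp)
  have hdim : ∀ p, p ≠ 0 → Module.finrank F (ℓ p) = 2 := by
    intro p hp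
    have hli : LinearIndependent F ![p, v p] := by
      rw [LinearIndependent.pair_iff]
      intro a b hab
      by_cases hb : b = 0
      · subst hb
        simp only [zero_smul, add_zero, smul_eq_zero, hp, or_false] at hab
        exact ⟨hab, rfl⟩
      · refine absurd ?_ (hv p hp)
        rw [← Submodule.smul_mem_iff _ hb, eq_neg_of_add_eq_zero_right hab]
        exact neg_mem (Submodule.smul_mem _ _ (Submodule.subset_span rfl))
    show Module.finrank F (Submodule.span F {p, v p}) = 2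
    rw [← mem_span_pair_range, finrank_span_eq_card hli, Fintype.card_fin]
  have key : ∀ p q φ, p ≠ 0 → q ≠ 0 → (∀ x ∈ ℓ p, φ ⬝ᵥ x = 0) → φ ⬝ᵥ q = 0 → p ∉ ℓ q →
      ∀ x ∈ ℓ q, φ ⬝ᵥ x = 0 := by
    intro p q φ hp hq hφ hφq hpq
    have hφp := hφ p (hpl p)
    have ht : tr p φ ∈ H := (hvH p hp φ hφp).2 (hφ _ (hvl p))
    obtain ⟨ψ, hψ, hψp⟩ := exists_sep hpq
    have hψq := hψ q (hpl q)
    have hs : tr q ψ ∈ H := (hvH q hq ψ hψq).2 (hψ _ (hvl q))
    have hc := tr_conj (tr p φ) hψq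
    rw [tr_inv hφp, tr_mulVec hφp, hφq, zero_smul, add_zero] at hc
    have hnφ : (-φ) ⬝ᵥ p = 0 := by rw [neg_dotProduct, hφp, neg_zero]
    have hperp : (ψ ᵥ* (tr p (-φ)).1) ⬝ᵥ q = 0 := by
      rw [← dotProduct_mulVec, tr_mulVec hnφ, neg_dotProduct, hφq, neg_zero, zero_smul, add_zero, hψq]
    have hin : tr q (ψ ᵥ* (tr p (-φ)).1) ∈ H := by
      rw [← hc, ← tr_inv hφp]
      exact H.mul_mem (H.mul_mem ht hs) (H.inv_mem ht)
    have h0 := (hvH q hq _ hperp).1 hin
    rw [← dotProduct_mulVec, tr_mulVec hnφ, dotProduct_add, hψ _ (hvl q), zero_add, dotProduct_smul,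
      hψp, smul_eq_mul, mul_one, neg_dotProduct, neg_eq_zero] at h0
    intro x hx
    obtain ⟨a, b, rfl⟩ := Submodule.mem_span_pair.1 hx
    rw [dotProduct_add, dotProduct_smul, dotProduct_smul, hφq, h0, smul_zero, smul_zero, add_zero]
  have hmem : ∀ p q, p ≠ 0 → q ≠ 0 → q ∈ ℓ p → p ∈ ℓ q := by
    intro p q hp hq hqp
    by_contra hpq
    have hle : ℓ q ≤ ℓ p := fun x hx => mem_of_forall_dot fun φ hφ =>
      key p q φ hp hq hφ (hφ q hqp) hpq x hx
    have := Submodule.eq_of_le_of_finrank_le hle (by rw [hdim p hp, hdim q hq])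
    exact hpq (this ▸ hpl p)
  have heq : ∀ p q, p ≠ 0 → q ≠ 0 → q ∈ ℓ p → q ∉ Submodule.span F {p} → ℓ q = ℓ p := by
    intro p q hp hq hqp hne
    have h1 : Submodule.span F {p, q} = ℓ p := by
      refine Submodule.eq_of_le_of_finrank_le (Submodule.span_le.2 ?_) ?_
      · rintro x (rfl | rfl)
        exacts [hpl x, hqp]
      · have hli : LinearIndependent F ![p, q] := by
          rw [LinearIndependent.pair_iff]
          intro a b hab
          by_cases hb : b = 0
          · subst hb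
            simp only [zero_smul, add_zero, smul_eq_zero, hp, or_false] at hab
            exact ⟨hab, rfl⟩
          · refine absurd ?_ hne
            rw [← Submodule.smul_mem_iff _ hb, eq_neg_of_add_eq_zero_right hab]
            exact neg_mem (Submodule.smul_mem _ _ (Submodule.subset_span rfl))
        rw [hdim p hp, ← mem_span_pair_range, finrank_span_eq_card hli, Fintype.card_fin]
    have h2 : Submodule.span F {p, q} ≤ ℓ q := by
      refine Submodule.span_le.2 ?_
      rintro x (rfl | rfl)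
      exacts [hmem x q hp hq hqp, hpl x]
    rw [h1] at h2
    exact (Submodule.eq_of_le_of_finrank_le h2 (by rw [hdim p hp, hdim q hq])).symm
  obtain ⟨p, hp⟩ : ∃ p : Fin n → F, p ≠ 0 :=
    ⟨Pi.single ⟨0, by omega⟩ 1, Pi.single_ne_zero_iff.2 one_ne_zero⟩
  obtain ⟨x, hx⟩ := exists_notMem_span (F := F) ![p, v p] (by omega : 2 < n)
  rw [mem_span_pair_range] at hx
  have hxl : x ∉ ℓ p := hx
  have hx0 : x ≠ 0 := fun e => hxl (e ▸ Submodule.zero_mem _)
  have hpx : p ∉ ℓ x := fun h => hxl (hmem x p hx0 hp h)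
  have hle : ℓ x ≤ ℓ p ⊔ Submodule.span F {x} := fun w hw => mem_of_forall_dot fun φ hφ =>
    key p x φ hp hx0 (fun y hy => hφ y (Submodule.mem_sup_left hy))
      (hφ x (Submodule.mem_sup_right (Submodule.subset_span rfl))) hpx w hw
  obtain ⟨z, hz, hz0⟩ : ∃ z ∈ ℓ x ⊓ ℓ p, z ≠ 0 := by
    apply Submodule.exists_mem_ne_zero_of_ne_bot
    intro hbot
    have h := Submodule.finrank_sup_add_finrank_inf_eq (ℓ x) (ℓ p)
    rw [hbot, finrank_bot, hdim x hx0, hdim p hp] at h
    have h1 := Submodule.finrank_mono (sup_le hle le_sup_left : ℓ x ⊔ ℓ p ≤ _)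
    have h2 := Submodule.finrank_add_le_finrank_add_finrank (ℓ p) (Submodule.span F {x})
    rw [hdim p hp, finrank_span_singleton hx0] at h2
    omega
  have hzx : z ∉ Submodule.span F {x} := by
    intro h
    obtain ⟨c, rfl⟩ := Submodule.mem_span_singleton.1 h
    have hc : c ≠ 0 := fun e => hz0 (by rw [e, zero_smul])
    exact hxl ((Submodule.smul_mem_iff _ hc).1 hz.2)
  have hzp : z ∉ Submodule.span F {p} := by
    intro h
    obtain ⟨c, rfl⟩ := Submodule.mem_span_singleton.1 h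
    have hc : c ≠ 0 := fun e => hz0 (by rw [e, zero_smul])
    exact hpx ((Submodule.smul_mem_iff _ hc).1 hz.1)
  have h1 := heq x z hx0 hz0 hz.1 hzx
  have h2 := heq p z hp hz0 hz.2 hzp
  exact hxl (h2 ▸ h1 ▸ hpl x)

end Cfsg.Agent.H51
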