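import Cfsg.Agent.H51.MinIndexA
import Cfsg.Agent.H51.MinIndexB
import Cfsg.Agent.Linear.Simple

/-!
The least index of a proper subgroup of SL_n(q), PSL_n(q), n ≥ 3, (n,q) ≠ (4,2), is (q^n-1)/(q-1).
-/
set_option autoImplicit false

namespace Cfsg.Agent.H51

open Matrix
open scoped LinearAlgebra.Projectivization

variable {n : ℕ} {F : Type*} [Field F] [Finite F]

theorem SL_index_ge (hn : 3 ≤ n) (hexc : ¬ (n = 4 ∧ Nat.card F = 2)) (H : Subgroup (SLn n F))
    (hH : H ≠ ⊤) : geomN n (Nat.card F) ≤ H.index := by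
  by_contra hlt
  push Not at hlt
  have hfix : ∀ u : Fin n → F, u ≠ 0 → ∀ g : SLn n F, ∃ φ, φ ⬝ᵥ u = 0 ∧ g⁻¹ * tr u φ * g ∉ H := by
    intro u hu g
    by_contra hcon
    push Not at hcon
    refine absurd (index_ge_of_full hn hH (mulVec_ne_zero g⁻¹ hu) fun χ hχ => ?_) (not_le.2 hlt)
    have hφ : (χ ᵥ* (g⁻¹).1) ⬝ᵥ u = 0 := by rw [← dotProduct_mulVec]; exact hχ
    have h1 := hcon _ hφ
    have hc := tr_conj g⁻¹ hφ
    rw [inv_inv, vecMul_vecMul, inv_mul_coe, vecMul_one] at hc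
    rwa [hc] at h1
  set q := Nat.card F
  have hq : 2 ≤ q := Finite.one_lt_card
  have hne : q ^ (n - 1) ≠ q * geomN (n - 1) q := by
    intro he
    have h1 : geomN (n - 1) q = geomN (n - 2) q + q ^ (n - 2) := by
      rw [show n - 1 = n - 2 + 1 by omega, geomN_succ]
    have h2 : 1 ≤ geomN (n - 2) q := by
      rw [show n - 2 = n - 3 + 1 by omega, geomN_succ']; omega
    rw [show n - 1 = n - 2 + 1 by omega, pow_succ', show n - 2 + 1 = n - 1 by omega] at he
    have := Nat.eq_of_mul_eq_mul_left (by omega) he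
    omega
  by_cases hd : H.index = q ^ (n - 1)
  · refine no_regular_case hn hexc H hd fun u φ hu hφ hmem => ?_
    rcases orbit_dichotomy hn hu hlt (hfix u hu) with ⟨-, h⟩ | ⟨h, -⟩
    · exact h 1 φ hφ (by simpa using hmem)
    · exact absurd (hd.symm.trans h) hne
  · refine no_hyperplane_case hn H fun u hu => ?_
    rcases orbit_dichotomy hn hu hlt (hfix u hu) with ⟨h, -⟩ | ⟨-, h⟩
    · exact absurd h hd
    · obtain ⟨v, hv, hvH⟩ := h 1
      exact ⟨v, hv, fun φ hφ => by simpa using hvH φ hφ⟩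

theorem PSL_index_ge (hn : 3 ≤ n) (hexc : ¬ (n = 4 ∧ Nat.card F = 2))
    (H : Subgroup (Matrix.ProjectiveSpecialLinearGroup (Fin n) F)) (hH : H ≠ ⊤) :
    geomN n (Nat.card F) ≤ H.index := by
  have hs := QuotientGroup.mk'_surjective (Subgroup.center (SLn n F))
  rw [← H.index_comap_of_surjective hs]
  refine SL_index_ge hn hexc _ fun h => hH ?_
  rw [← Subgroup.map_comap_eq_self_of_surjective hs H, h, Subgroup.map_top_of_surjective _ hs]

theorem exists_PSL_index (hn : 3 ≤ n) :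
    ∃ H : Subgroup (Matrix.ProjectiveSpecialLinearGroup (Fin n) F), H.index = geomN n (Nat.card F) := by
  have : Nontrivial (Fin n) := Fin.nontrivial_iff_two_le.mpr (by omega)
  have hne : (Pi.single (⟨0, by omega⟩ : Fin n) (1 : F) : Fin n → F) ≠ 0 :=
    Pi.single_ne_zero_iff.2 one_ne_zero
  refine ⟨MulAction.stabilizer _ (Projectivization.mk F _ hne), ?_⟩
  rw [MulAction.index_stabilizer_of_transitive, card_proj]

end Cfsg.Agent.H51
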