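import Cfsg.Agent.H51.Orbits

/-!
No proper subgroup of index `q^(n-1)` meets every transvection group trivially, unless (n,q) = (4,2).
-/
set_option autoImplicit false

namespace Cfsg.Agent.H51

open Matrix

variable {n : ℕ} {F : Type*} [Field F]

theorem exists_four (hn : 5 ≤ n) (a b c d : Fin n) : ∃ l, l ≠ a ∧ l ≠ b ∧ l ≠ c ∧ l ≠ d := by
  obtain ⟨l, hl⟩ := Finset.exists_mem_notMem_of_card_lt_card
    (s := ({a, b, c, d} : Finset (Fin n))) (t := Finset.univ) (by
      rw [Finset.card_univ, Fintype.card_fin]
      exact lt_of_le_of_lt Finset.card_le_four (by omega))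
  exact ⟨l, by simp at hl; tauto⟩

theorem exists_three (hn : 4 ≤ n) (a b c : Fin n) : ∃ l, l ≠ a ∧ l ≠ b ∧ l ≠ c := by
  obtain ⟨l, hl⟩ := Finset.exists_mem_notMem_of_card_lt_card
    (s := ({a, b, c} : Finset (Fin n))) (t := Finset.univ) (by
      rw [Finset.card_univ, Fintype.card_fin]
      exact lt_of_le_of_lt Finset.card_le_three (by omega))
  exact ⟨l, by simp at hl; tauto⟩

theorem eq_four (h4 : n = 4) {a b c d l : Fin n} (h1 : a ≠ b) (h2 : a ≠ c) (h3 : a ≠ d) (h4' : b ≠ c)
    (h5 : b ≠ d) (h6 : c ≠ d) : l = a ∨ l = b ∨ l = c ∨ l = d := by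
  subst h4
  revert a b c d l
  decide

set_option maxHeartbeats 1000000 in
theorem no_regular_case [Finite F] (hn : 3 ≤ n) (hexc : ¬ (n = 4 ∧ Nat.card F = 2))
    (H : Subgroup (SLn n F)) (hidx : H.index = Nat.card F ^ (n - 1))
    (hA : ∀ u φ : Fin n → F, u ≠ 0 → φ ⬝ᵥ u = 0 → tr u φ ∈ H → φ = 0) : False := by
  classical
  let o : Fin n := ⟨0, by omega⟩
  let e : Fin n → F := Pi.single o 1
  have he : e ≠ 0 := Pi.single_ne_zero_iff.2 one_ne_zero
  have hdot_e : ∀ a : Fin n → F, a ⬝ᵥ e = a o := fun a => by simp [e]
  have heo : ∀ r, r ≠ o → e r = 0 := fun r hr => by simp [e, hr]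
  have heoo : e o = 1 := by simp [e]
  haveI : Finite (SLn n F) := inferInstance
  haveI : Finite (SLn n F ⧸ H) := inferInstance
  -- every element lifts into H
  have hlift : ∀ g : SLn n F, ∃ φ, φ ⬝ᵥ e = 0 ∧ tr e φ * g ∈ H := by
    let f : Wsp e → SLn n F ⧸ H := fun φ => ((tr e φ.1 : SLn n F) : SLn n F ⧸ H)
    have hinj : Function.Injective f := by
      intro a b hab
      have h : (tr e a.1)⁻¹ * tr e b.1 ∈ H := QuotientGroup.eq.1 hab
      rw [tr_inv a.2, tr_mul (φ := -a.1) (-a).2 b.2] at h
      exact Subtype.ext (neg_add_eq_zero.1 (hA e _ he (-a + b).2 h))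
    have hW : Nat.card (Wsp e) = Nat.card F ^ (n - 1) := by
      have h' := card_Wsp (n := n) he
      rw [show Nat.card F ^ n = Nat.card F ^ (n - 1) * Nat.card F by rw [← pow_succ]; congr 1; omega] at h'
      exact Nat.eq_of_mul_eq_mul_right Nat.card_pos h'
    have hbij : Function.Bijective f :=
      (Nat.bijective_iff_injective_and_card f).2 ⟨hinj, hW.trans hidx.symm⟩
    intro g
    obtain ⟨φ, hφ⟩ := hbij.2 (g : SLn n F ⧸ H)
    have h : (tr e φ.1)⁻¹ * g ∈ H := QuotientGroup.eq.1 hφ
    rw [tr_inv φ.2] at h
    exact ⟨-φ.1, (-φ).2, h⟩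
  -- uniqueness
  have huniq : ∀ A B : SLn n F, A ∈ H → B ∈ H → ∀ δ : F, A.1 *ᵥ e = δ • e → B.1 *ᵥ e = δ • e →
      (∀ v, ∀ r, r ≠ o → (A.1 *ᵥ v) r = (B.1 *ᵥ v) r) → A = B := by
    intro A B hAH hBH δ hAe hBe hrows
    let r : Fin n → F := A.1 o - B.1 o
    have hr : ∀ v, r ⬝ᵥ v = (A.1 *ᵥ v) o - (B.1 *ᵥ v) o := fun v => sub_dotProduct _ _ _
    have hsub : ∀ v, A.1 *ᵥ v = B.1 *ᵥ v + (r ⬝ᵥ v) • e := by
      intro v
      funext i
      by_cases hi : i = o
      · subst hi; simp [hr, heoo]
      · simp [hrows v i hi, heo i hi]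
    have hre : r ⬝ᵥ e = 0 := by rw [hr, hAe, hBe, sub_self]
    have hδ : δ ≠ 0 := by
      intro h
      exact mulVec_ne_zero B he (by rw [hBe, h, zero_smul])
    have hBinv : (B⁻¹).1 *ᵥ e = δ⁻¹ • e := by
      have h := congrArg (fun w => (B⁻¹).1 *ᵥ w) hBe
      simp only [inv_mulVec_mulVec, mulVec_smul] at h
      conv_rhs => rw [h]
      rw [smul_smul, inv_mul_cancel₀ hδ, one_smul]
    let φ : Fin n → F := r ᵥ* (B⁻¹).1
    have hφ : φ ⬝ᵥ e = 0 := by
      show (r ᵥ* (B⁻¹).1) ⬝ᵥ e = 0
      rw [← dotProduct_mulVec, hBinv, dotProduct_smul, hre, smul_zero]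
    have hC : A * B⁻¹ = tr e φ := by
      refine Subtype.ext (Matrix.ext_iff_mulVec.2 fun v => ?_)
      rw [tr_mulVec hφ, mul_val, ← mulVec_mulVec, hsub, mulVec_inv_mulVec, dotProduct_mulVec]
    have hφ0 := hA e φ he hφ (hC ▸ H.mul_mem hAH (H.inv_mem hBH))
    rw [hφ0, tr_zero, mul_inv_eq_one] at hC
    exact hC
  -- the lifts of the elementary transvections
  have hex : ∀ i j : Fin n, i ≠ o → j ≠ o → i ≠ j → ∀ s : F, ∃ h ∈ H, ∃ a : Fin n → F,
      a o = 0 ∧ ∀ v, h.1 *ᵥ v = v + (s * v j) • (Pi.single i (1 : F) : Fin n → F) + (a ⬝ᵥ v) • e := by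
    intro i j hi hj hij s
    obtain ⟨φ, hφ, hh⟩ := hlift (tr (Pi.single i 1) (Pi.single j s))
    have hd : (Pi.single j s : Fin n → F) ⬝ᵥ Pi.single i 1 = 0 := by simp [Ne.symm hij]
    refine ⟨_, hh, φ + Pi.single j (s * φ i), ?_, fun v => ?_⟩
    · rw [Pi.add_apply, ← hdot_e φ, hφ]
      simp [Ne.symm hj]
    · rw [mul_val, ← mulVec_mulVec, tr_mulVec hd, tr_mulVec hφ, single_dotProduct, dotProduct_add,
        dotProduct_smul, dotProduct_single, mul_one, add_dotProduct, single_dotProduct, smul_eq_mul]
      congr 1
      congr 1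
      ring
  choose h hh a ha hmv using hex
  have hfix : ∀ i j hi hj hij s, (h i j hi hj hij s).1 *ᵥ e = (1 : F) • e := by
    intro i j hi hj hij s
    rw [hmv, hdot_e, ha, heo j hj, mul_zero, zero_smul, zero_smul, add_zero, add_zero, one_smul]
  -- commuting lifts
  have hcomm : ∀ i j hi hj hij s k l hk hl hkl s', j ≠ k → l ≠ i → ∀ v : Fin n → F,
      s' * v l * a i j hi hj hij s k = s * v j * a k l hk hl hkl s' i := by
    intro i j hi hj hij s k l hk hl hkl s' hjk hli v
    have hA' := hfix i j hi hj hij s
    have hB' := hfix k l hk hl hkl s'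
    have heq := huniq (h i j hi hj hij s * h k l hk hl hkl s') (h k l hk hl hkl s' * h i j hi hj hij s)
      (H.mul_mem (hh ..) (hh ..)) (H.mul_mem (hh ..) (hh ..)) 1
      (by rw [mul_val, ← mulVec_mulVec, hB', one_smul, hA', one_smul])
      (by rw [mul_val, ← mulVec_mulVec, hA', one_smul, hB', one_smul]) (fun w r hr => by
        simp only [mul_val, ← mulVec_mulVec, hmv, Pi.add_apply, Pi.smul_apply, smul_eq_mul, heo r hr,
          mul_zero, add_zero, Pi.single_eq_of_ne hjk, Pi.single_eq_of_ne hli,
          heo j hj, heo l hl]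
        ring)
    have h2 := congrFun (congrArg (fun X : SLn n F => X.1 *ᵥ v) heq) o
    simp only [mul_val, ← mulVec_mulVec, hmv, Pi.add_apply, Pi.smul_apply, smul_eq_mul, heoo,
      dotProduct_add, dotProduct_smul, hdot_e, ha, dotProduct_single, Pi.single_eq_of_ne hjk,
      Pi.single_eq_of_ne hli, Pi.single_eq_of_ne (Ne.symm hi), Pi.single_eq_of_ne (Ne.symm hk),
      heo j hj, heo l hl, mul_zero, mul_one, add_zero] at h2
    linear_combination h2
  -- a lift of the shape of a transvection is impossible
  have hfinal : ∀ i j hi hj hij (s : F), s ≠ 0 → (∀ k, k ≠ j → a i j hi hj hij s k = 0) → False := by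
    intro i j hi hj hij s hs hak
    let u : Fin n → F := s • Pi.single i 1 + a i j hi hj hij s j • e
    let φ : Fin n → F := Pi.single j 1
    have hφu : φ ⬝ᵥ u = 0 := by simp [φ, u, Ne.symm hij, heo j hj]
    have hu : u ≠ 0 := by
      intro h0
      have := congrFun h0 i
      simp [u, heo i hi] at this
      exact hs this
    have hae : a i j hi hj hij s = Pi.single j (a i j hi hj hij s j) := by
      funext k
      by_cases hk : k = j
      · subst hk; simp
      · simp [hak k hk, hk]
    have htr : h i j hi hj hij s = tr u φ := by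
      refine Subtype.ext (Matrix.ext_iff_mulVec.2 fun v => ?_)
      rw [hmv, tr_mulVec hφu, single_dotProduct, one_mul, smul_add, smul_smul, smul_smul, add_assoc]
      conv_lhs => rw [hae, single_dotProduct]
      rw [mul_comm s, mul_comm (a i j hi hj hij s j)]
    have := hA u φ hu hφu (htr ▸ hh ..)
    exact one_ne_zero (Pi.single_eq_zero_iff.1 this)
  -- distinct indices
  obtain ⟨i, hi, -⟩ : ∃ i : Fin n, i ≠ o ∧ i ≠ o := ⟨⟨1, by omega⟩, by simp [o, Fin.ext_iff], by simp [o, Fin.ext_iff]⟩
  obtain ⟨j, hj, hij⟩ : ∃ j : Fin n, j ≠ o ∧ i ≠ j := by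
    by_cases hi2 : i = ⟨2, by omega⟩
    · exact ⟨⟨1, by omega⟩, by simp [o, Fin.ext_iff], by rw [hi2]; simp [Fin.ext_iff]⟩
    · exact ⟨⟨2, by omega⟩, by simp [o, Fin.ext_iff], hi2⟩
  by_cases hn4 : 4 ≤ n
  · have hai : ∀ i j hi hj hij s, a i j hi hj hij s i = 0 := by
      intro i j hi hj hij s
      obtain ⟨l, hlo, hli, hlj⟩ := exists_three hn4 o i j
      have := hcomm i j hi hj hij s i l hi hlo hli.symm 1 hij.symm hli (Pi.single l 1)
      simpa [Ne.symm hlj] using this
    by_cases hn5 : 5 ≤ n
    · refine hfinal i j hi hj hij 1 one_ne_zero fun k hkj => ?_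
      by_cases hko : k = o
      · rw [hko, ha]
      by_cases hki : k = i
      · rw [hki, hai]
      obtain ⟨l, hlo, hli, hlj, hlk⟩ := exists_four hn5 o i j k
      have := hcomm i j hi hj hij 1 k l hko hlo hlk.symm 1 hkj.symm hli (Pi.single l 1)
      simpa [Ne.symm hlj] using this
    · have h4 : n = 4 := by omega
      have hq : Nat.card F ≠ 2 := fun e' => hexc ⟨h4, e'⟩
      -- the coefficient at the third index
      have hlin : ∀ i j k hi hj hk hij (hkj : k ≠ j), k ≠ i → ∀ s : F,
          a i j hi hj hij s k = s * a k j hk hj hkj 1 i := by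
        intro i j k hi hj hk hij hkj hki s
        have := hcomm i j hi hj hij s k j hk hj hkj 1 hkj.symm hij.symm (Pi.single j 1)
        simpa using this
      obtain ⟨k, hk, hki, hkj⟩ := exists_three hn4 o i j
      have hsym : ∀ s, a i j hi hj hij s k = s * a i j hi hj hij 1 k := fun s => by
        rw [hlin i j k hi hj hk hij hkj hki s, hlin k j i hk hj hi hkj hij hki.symm 1, one_mul]
      have hzero : a i j hi hj hij 1 k = 0 := by
        by_cases h2 : (2 : F) = 0
        · -- torus
          obtain ⟨c, hc0, hc1⟩ : ∃ c : F, c ≠ 0 ∧ c ^ 2 ≠ 1 := by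
            by_contra hcon
            push Not at hcon
            apply hq
            haveI := Fintype.ofFinite F
            haveI : CharP F 2 := CharTwo.of_one_ne_zero_of_two_eq_zero one_ne_zero h2
            rw [Nat.card_eq_fintype_card]
            have hall : ∀ x : F, x = 0 ∨ x = 1 := fun x => by
              by_cases hx : x = 0
              · exact Or.inl hx
              · exact Or.inr (CharTwo.sq_injective (show x ^ 2 = (1 : F) ^ 2 by rw [one_pow, hcon x hx]))
            refine le_antisymm ?_ Fintype.one_lt_card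
            calc Fintype.card F = (Finset.univ : Finset F).card := rfl
              _ ≤ ({0, 1} : Finset F).card := Finset.card_le_card fun x _ => by
                rcases hall x with rfl | rfl <;> simp
              _ ≤ 2 := Finset.card_le_two
          let t : Fin n → F := fun r => if r = i then c else if r = o then c⁻¹ else 1
          obtain ⟨φ, hφ, hd⟩ := hlift (Matrix.SpecialLinearGroup.diag2n hi c hc0)
          set D := tr e φ * Matrix.SpecialLinearGroup.diag2n hi c hc0
          have hDv : ∀ v, D.1 *ᵥ v = (fun r => t r * v r) + (φ ⬝ᵥ fun r => t r * v r) • e := by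
            intro v
            show (tr e φ * _ : SLn n F).1 *ᵥ v = _
            rw [mul_val, ← mulVec_mulVec, Matrix.SpecialLinearGroup.diag2n_coe]
            have : (diagonal t) *ᵥ v = fun r => t r * v r := funext fun r => mulVec_diagonal _ _ _
            rw [this, tr_mulVec hφ]
          have hDe : D.1 *ᵥ e = c⁻¹ • e := by
            rw [hDv]
            have : (fun r => t r * e r) = c⁻¹ • e := by
              funext r
              by_cases hr : r = o
              · subst hr; simp [t, heoo, Ne.symm hi]
              · simp [heo r hr]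
            rw [this, dotProduct_smul, hφ, smul_zero, zero_smul, add_zero]
          have heq := huniq (D * h i j hi hj hij 1) (h i j hi hj hij c * D)
            (H.mul_mem hd (hh ..)) (H.mul_mem (hh ..) hd) c⁻¹
            (by rw [mul_val, ← mulVec_mulVec, hfix, one_smul, hDe])
            (by rw [mul_val, ← mulVec_mulVec, hDe, mulVec_smul, hfix, one_smul]) (fun w r hr => by
              simp only [mul_val, ← mulVec_mulVec, hmv, hDv, Pi.add_apply, Pi.smul_apply, smul_eq_mul,
                heo r hr, heo j hj, mul_zero, add_zero]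
              by_cases hri : r = i
              · subst hri; simp [t, hij.symm, hj]; ring
              · simp [hri])
          have h2' := congrFun (congrArg (fun X : SLn n F => X.1 *ᵥ (Pi.single k 1 : Fin n → F)) heq) o
          have e1 : (Pi.single k (1 : F) : Fin n → F) j = 0 := Pi.single_eq_of_ne hkj.symm 1
          have e2 : (fun r => t r * (Pi.single k (1 : F) : Fin n → F) r) = Pi.single k 1 := by
            funext r
            by_cases hr : r = k
            · subst hr; simp [t, hki, hk]
            · simp [hr]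
          simp only [mul_val, ← mulVec_mulVec, hmv, e1, mul_zero, zero_smul, add_zero, mulVec_add,
            mulVec_smul, hDe, hDv (Pi.single k 1), e2, dotProduct_add, dotProduct_smul, hdot_e, ha,
            Pi.add_apply, Pi.smul_apply, smul_eq_mul, heoo, heo j hj, mul_one,
            Pi.single_eq_of_ne (Ne.symm hk), dotProduct_single] at h2'
          rw [hsym c] at h2'
          have h3 : (c ^ 2 - 1) * a i j hi hj hij 1 k = 0 := by
            have h4' : a i j hi hj hij 1 k * c⁻¹ = c * a i j hi hj hij 1 k := by linear_combination h2'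
            field_simp at h4'
            linear_combination -h4'
          exact (mul_eq_zero.1 h3).resolve_left (sub_ne_zero.2 hc1)
        · -- composition x_ik x_kj = x_ij
          have hA' := hfix i k hi hk hki.symm 1
          have hB' := hfix k j hk hj hkj 1
          have hC' := hfix i j hi hj hij 1
          have heq := huniq (h i k hi hk hki.symm 1 * h k j hk hj hkj 1)
            (h i j hi hj hij 1 * (h k j hk hj hkj 1 * h i k hi hk hki.symm 1))
            (H.mul_mem (hh ..) (hh ..)) (H.mul_mem (hh ..) (H.mul_mem (hh ..) (hh ..))) 1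
            (by rw [mul_val, ← mulVec_mulVec, hB', one_smul, hA', one_smul])
            (by rw [mul_val, ← mulVec_mulVec, mul_val, ← mulVec_mulVec, hA', one_smul, hB', one_smul, hC', one_smul])
            (fun w r hr => by
              simp only [mul_val, ← mulVec_mulVec, hmv, Pi.add_apply, Pi.smul_apply, smul_eq_mul,
                heo r hr, heo j hj, heo k hk, mul_zero, mul_one, one_mul, add_zero, Pi.single_eq_same,
                Pi.single_eq_of_ne (show j ≠ k from hkj.symm), Pi.single_eq_of_ne (show j ≠ i from hij.symm)]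
              ring)
          have h2' := congrFun (congrArg (fun X : SLn n F => X.1 *ᵥ (Pi.single k 1 : Fin n → F)) heq) o
          simp only [mul_val, ← mulVec_mulVec, hmv, Pi.add_apply, Pi.smul_apply, smul_eq_mul, heoo,
            dotProduct_add, dotProduct_smul, hdot_e, ha, dotProduct_single, mul_zero, mul_one, one_mul,
            add_zero, zero_mul, heo j hj, heo k hk, Pi.single_eq_same,
            Pi.single_eq_of_ne (show j ≠ k from hkj.symm), Pi.single_eq_of_ne (show j ≠ i from hij.symm),
            Pi.single_eq_of_ne (Ne.symm hi), Pi.single_eq_of_ne (Ne.symm hk), hai] at h2'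
          have h5 : a k j hk hj hkj 1 i = a i j hi hj hij 1 k := by
            rw [hlin k j i hk hj hi hkj hij hki.symm 1, one_mul]
          have h6 : (2 : F) * a i j hi hj hij 1 k = 0 := by linear_combination -h2' - h5
          exact (mul_eq_zero.1 h6).resolve_left h2
      refine hfinal i j hi hj hij 1 one_ne_zero fun r hrj => ?_
      rcases eq_four h4 (l := r) (Ne.symm hi) (Ne.symm hj) (Ne.symm hk) hij hki.symm hkj.symm with h' | h' | h' | h'
      · rw [h', ha]
      · rw [h', hai]
      · exact absurd h' hrj
      · rw [h', hzero]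
  · have h3 : n = 3 := by omega
    have hlin : ∀ s, a i j hi hj hij s i = s * a i j hi hj hij 1 i := fun s => by
      have := hcomm i j hi hj hij s i j hi hj hij 1 hij.symm hij.symm (Pi.single j 1)
      simpa using this
    have hzero : a i j hi hj hij 1 i = 0 := by
      by_cases h2 : (2 : F) = 0
      · -- the lift squares to one
        have heq := huniq (h i j hi hj hij 1 * h i j hi hj hij 1) 1 (H.mul_mem (hh ..) (hh ..)) H.one_mem 1
          (by rw [mul_val, ← mulVec_mulVec, hfix, one_smul, hfix, one_smul])
          (by rw [one_val, one_mulVec, one_smul]) (fun w r hr => by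
            simp only [mul_val, ← mulVec_mulVec, hmv, one_val, one_mulVec, Pi.add_apply, Pi.smul_apply,
              smul_eq_mul, heo r hr, heo j hj, mul_zero, add_zero, Pi.single_eq_of_ne hij.symm]
            linear_combination (w j * (Pi.single i (1 : F) : Fin n → F) r) * h2)
        have h2' := congrFun (congrArg (fun X : SLn n F => X.1 *ᵥ (Pi.single j 1 : Fin n → F)) heq) o
        simp only [mul_val, ← mulVec_mulVec, hmv, one_val, one_mulVec, Pi.add_apply, Pi.smul_apply,
          smul_eq_mul, heoo, dotProduct_add, dotProduct_smul, hdot_e, ha, dotProduct_single, mul_zero,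
          mul_one, one_mul, add_zero, heo j hj, Pi.single_eq_same, Pi.single_eq_of_ne hij.symm,
          Pi.single_eq_of_ne (Ne.symm hi), Pi.single_eq_of_ne (Ne.symm hj)] at h2'
        linear_combination h2' - a i j hi hj hij 1 j * h2
      · -- torus diag(-1,-1) on i, j
        have hm : (-1 : F) ≠ 0 := neg_ne_zero.2 one_ne_zero
        let t : Fin n → F := fun r => if r = i then -1 else if r = j then (-1)⁻¹ else 1
        obtain ⟨φ, hφ, hd⟩ := hlift (Matrix.SpecialLinearGroup.diag2n hij (-1 : F) hm)
        set D := tr e φ * Matrix.SpecialLinearGroup.diag2n hij (-1 : F) hm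
        have hDv : ∀ v, D.1 *ᵥ v = (fun r => t r * v r) + (φ ⬝ᵥ fun r => t r * v r) • e := by
          intro v
          show (tr e φ * _ : SLn n F).1 *ᵥ v = _
          rw [mul_val, ← mulVec_mulVec, Matrix.SpecialLinearGroup.diag2n_coe]
          have : (diagonal t) *ᵥ v = fun r => t r * v r := funext fun r => mulVec_diagonal _ _ _
          rw [this, tr_mulVec hφ]
        have hDe : D.1 *ᵥ e = (1 : F) • e := by
          rw [hDv]
          have : (fun r => t r * e r) = e := by
            funext r
            by_cases hr : r = o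
            · subst hr; simp [t, heoo, Ne.symm hi, Ne.symm hj]
            · simp [heo r hr]
          rw [this, hφ, zero_smul, add_zero, one_smul]
        have heq := huniq (D * h i j hi hj hij 1) (h i j hi hj hij 1 * D)
          (H.mul_mem hd (hh ..)) (H.mul_mem (hh ..) hd) 1
          (by simp only [mul_val, ← mulVec_mulVec, hfix, hDe, one_smul])
          (by simp only [mul_val, ← mulVec_mulVec, hfix, hDe, one_smul]) (fun w r hr => by
            simp only [mul_val, ← mulVec_mulVec, hmv, hDv, Pi.add_apply, Pi.smul_apply, smul_eq_mul,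
              heo r hr, heo j hj, mul_zero, add_zero]
            by_cases hri : r = i
            · subst hri; simp [t, hij.symm]; ring
            · simp [hri])
        have h2' := congrFun (congrArg (fun X : SLn n F => X.1 *ᵥ (Pi.single i 1 : Fin n → F)) heq) o
        have e1 : (Pi.single i (1 : F) : Fin n → F) j = 0 := Pi.single_eq_of_ne hij.symm 1
        have e2 : (fun r => t r * (Pi.single i (1 : F) : Fin n → F) r) = -Pi.single i 1 := by
          funext r
          by_cases hr : r = i
          · subst hr; simp [t]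
          · simp [hr]
        simp only [mul_val, ← mulVec_mulVec, hmv, e1, mul_zero, zero_smul, add_zero, mulVec_add,
          mulVec_smul, hDe, hDv (Pi.single i 1), e2, dotProduct_add, dotProduct_smul, hdot_e, ha,
          Pi.add_apply, Pi.smul_apply, Pi.neg_apply, smul_eq_mul, heoo, heo j hj, mul_one, one_smul,
          Pi.single_eq_of_ne (Ne.symm hi), dotProduct_neg, dotProduct_single, neg_zero] at h2'
        have h6 : (2 : F) * a i j hi hj hij 1 i = 0 := by linear_combination h2'
        exact (mul_eq_zero.1 h6).resolve_left h2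
    refine hfinal i j hi hj hij 1 one_ne_zero fun r hrj => ?_
    have : r = o ∨ r = i ∨ r = j := by
      have hr := r.isLt; have := i.isLt; have := j.isLt
      simp only [o, ne_eq, Fin.ext_iff] at hi hj hij ⊢
      omega
    rcases this with h' | h' | h'
    · rw [h', ha]
    · rw [h', hzero]
    · exact absurd h' hrj

end Cfsg.Agent.H51
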