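import Cfsg.Agent.H51.Transvec

/-!
Stabilisers of cosets in a transvection group, and their annihilators.
-/
set_option autoImplicit false

namespace Cfsg.Agent.H51

open Matrix

section Dual

variable {G : Type*} [AddCommGroup G]

/-- the annihilator of an additive subgroup in the character group -/
noncomputable def annih (K : AddSubgroup G) : AddSubgroup (AddChar G ℂ) where
  carrier := {χ | ∀ k ∈ K, χ k = 1}
  zero_mem' k _ := by simp
  add_mem' {a b} ha hb k hk := by rw [AddChar.add_apply, ha k hk, hb k hk, mul_one]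
  neg_mem' {a} ha k hk := by rw [AddChar.neg_apply, ha _ (K.neg_mem hk)]

theorem card_annih [Finite G] (K : AddSubgroup G) : Nat.card (annih K) = K.index := by
  classical
  rw [AddSubgroup.index]
  haveI := Fintype.ofFinite (G ⧸ K)
  have h : Nat.card (AddChar (G ⧸ K) ℂ) = Nat.card (G ⧸ K) := by
    rw [Nat.card_eq_fintype_card, Nat.card_eq_fintype_card, AddChar.card_eq]
  rw [← h]
  refine (Nat.card_congr (Equiv.ofBijective
    (fun χ : AddChar (G ⧸ K) ℂ => (⟨χ.compAddMonoidHom (QuotientAddGroup.mk' K), fun k hk => by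
      rw [AddChar.compAddMonoidHom_apply, QuotientAddGroup.mk'_apply,
        (QuotientAddGroup.eq_zero_iff k).2 hk, AddChar.map_zero_eq_one]⟩ : annih K)) ⟨?_, ?_⟩)).symm
  · intro χ χ' h'
    refine AddChar.ext _ _ fun x => ?_
    obtain ⟨g, rfl⟩ := QuotientAddGroup.mk'_surjective K x
    exact DFunLike.congr_fun (congrArg Subtype.val h') g
  · rintro ⟨χ, hχ⟩
    refine ⟨AddChar.toAddMonoidHomEquiv.symm (QuotientAddGroup.lift K χ.toAddMonoidHom ?_), ?_⟩
    · intro k hk
      exact congrArg Additive.ofMul (hχ k hk)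
    · refine Subtype.ext (AddChar.ext _ _ fun g => ?_)
      rfl

end Dual

variable {n : ℕ} {F : Type*} [Field F]

/-- dotting on the right with a fixed vector -/
def dotR (v : Fin n → F) : (Fin n → F) →+ F where
  toFun φ := φ ⬝ᵥ v
  map_zero' := zero_dotProduct v
  map_add' _ _ := add_dotProduct _ _ _

theorem dotR_apply (v φ : Fin n → F) : dotR v φ = φ ⬝ᵥ v := rfl

/-- the functionals killing `u` -/
def Wsp (u : Fin n → F) : AddSubgroup (Fin n → F) := (dotR u).ker

theorem mem_Wsp {u φ : Fin n → F} : φ ∈ Wsp u ↔ φ ⬝ᵥ u = 0 := Iff.rfl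

theorem card_Wsp [Finite F] {u : Fin n → F} (hu : u ≠ 0) :
    Nat.card (Wsp u) * Nat.card F = Nat.card F ^ n := by
  have hs : Function.Surjective (dotR u) := by
    intro c
    obtain ⟨φ, hφ⟩ := exists_dot_one hu
    exact ⟨c • φ, by rw [dotR_apply, smul_dotProduct, hφ, smul_eq_mul, mul_one]⟩
  have h := (dotR u).ker.card_mul_index
  rw [AddSubgroup.index_ker, AddMonoidHom.range_eq_top.2 hs, AddSubgroup.card_top, Nat.card_fun,
    Nat.card_fin] at h
  exact h

variable (H : Subgroup (SLn n F)) (u : Fin n → F)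

/-- the stabiliser of a coset among the transvections with centre `u` -/
noncomputable def stabK (x : SLn n F ⧸ H) : AddSubgroup (Wsp u) where
  carrier := {φ | tr u φ.1 • x = x}
  zero_mem' := by
    show tr u (0 : Fin n → F) • x = x
    rw [tr_zero, one_smul]
  add_mem' {a b} ha hb := by
    show tr u (a.1 + b.1) • x = x
    rw [← tr_mul a.2 b.2, mul_smul]
    rw [show tr u b.1 • x = x from hb, show tr u a.1 • x = x from ha]
  neg_mem' {a} ha := by
    show tr u (-a.1) • x = x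
    rw [← tr_inv a.2]
    exact inv_smul_eq_iff.2 (show tr u a.1 • x = x from ha).symm

theorem mem_stabK {x : SLn n F ⧸ H} {φ : Wsp u} : φ ∈ stabK H u x ↔ tr u φ.1 • x = x := Iff.rfl

theorem mem_stabK_mk {g : SLn n F} {φ : Wsp u} :
    φ ∈ stabK H u (g : SLn n F ⧸ H) ↔ g⁻¹ * tr u φ.1 * g ∈ H := by
  rw [mem_stabK, MulAction.Quotient.smul_coe, QuotientGroup.eq, smul_eq_mul,
    ← H.inv_mem_iff]
  simp only [_root_.mul_inv_rev, inv_inv, mul_assoc]

/-- the orbit relation of the transvections with centre `u` -/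
def orbSetoid : Setoid (SLn n F ⧸ H) where
  r x y := ∃ φ : Wsp u, tr u φ.1 • x = y
  iseqv :=
    { refl := fun x => ⟨0, by show tr u (0 : Fin n → F) • x = x; rw [tr_zero, one_smul]⟩
      symm := fun {x y} ⟨φ, h⟩ => ⟨-φ, by
        show tr u (-φ.1) • y = x
        rw [← tr_inv φ.2, inv_smul_eq_iff, h]⟩
      trans := fun {x y z} ⟨φ, h⟩ ⟨φ', h'⟩ => ⟨φ' + φ, by
        show tr u (φ'.1 + φ.1) • x = z
        rw [← tr_mul φ'.2 φ.2, mul_smul, h, h']⟩ }

theorem stabK_eq_of_rel {x y : SLn n F ⧸ H} (h : (orbSetoid H u).r x y) :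
    stabK H u x = stabK H u y := by
  obtain ⟨φ, rfl⟩ := h
  ext ψ
  rw [mem_stabK, mem_stabK, ← mul_smul, tr_mul ψ.2 φ.2, add_comm, ← tr_mul φ.2 ψ.2, mul_smul,
    smul_left_cancel_iff]

theorem card_class (x : SLn n F ⧸ H) :
    Nat.card {y // (orbSetoid H u).r x y} = (stabK H u x).index := by
  rw [AddSubgroup.index]
  refine (Nat.card_congr (Equiv.ofBijective
    (Quotient.lift (fun φ : Wsp u => (⟨tr u φ.1 • x, ⟨φ, rfl⟩⟩ : {y // (orbSetoid H u).r x y}))
      ?_) ⟨?_, ?_⟩)).symm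
  · intro a b hab
    refine Subtype.ext ?_
    have hm : -a + b ∈ stabK H u x := QuotientAddGroup.leftRel_apply.1 hab
    rw [mem_stabK] at hm
    show tr u a.1 • x = tr u b.1 • x
    conv_lhs => rw [← hm]
    show tr u a.1 • tr u (-a.1 + b.1) • x = _
    rw [← mul_smul, tr_mul (φ := a.1) (ψ := -a.1 + b.1) a.2 (-a + b).2]
    simp
  · intro a b
    induction a using QuotientAddGroup.induction_on with | _ a => ?_
    induction b using QuotientAddGroup.induction_on with | _ b => ?_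
    intro hab
    have hab' : tr u a.1 • x = tr u b.1 • x := congrArg Subtype.val hab
    refine QuotientAddGroup.eq.2 ?_
    rw [mem_stabK]
    show tr u (-a.1 + b.1) • x = x
    rw [← tr_mul (φ := -a.1) (-a).2 b.2, mul_smul, ← hab', ← mul_smul,
      tr_mul (φ := -a.1) (-a).2 a.2, neg_add_cancel, tr_zero, one_smul]
  · rintro ⟨y, φ, rfl⟩
    exact ⟨(φ : Wsp u ⧸ stabK H u x), rfl⟩

variable (ψ : AddChar F ℂ)

/-- characters of `Wsp u` given by vectors -/
noncomputable def theta : (Fin n → F) →+ AddChar (Wsp u) ℂ where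
  toFun v := ψ.compAddMonoidHom ((dotR v).comp (Wsp u).subtype)
  map_zero' := AddChar.ext _ _ fun φ => by simp [dotR_apply]
  map_add' v w := AddChar.ext _ _ fun φ => by
    simp [dotR_apply, dotProduct_add, AddChar.map_add_eq_mul]

theorem theta_apply (v : Fin n → F) (φ : Wsp u) : theta u ψ v φ = ψ (φ.1 ⬝ᵥ v) := rfl

/-- the annihilator of the stabiliser of a coset, as a set of vectors -/
noncomputable def annA (x : SLn n F ⧸ H) : AddSubgroup (Fin n → F) :=
  (annih (stabK H u x)).comap (theta u ψ)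

theorem mem_annA {x : SLn n F ⧸ H} {v : Fin n → F} :
    v ∈ annA H u ψ x ↔ ∀ φ ∈ stabK H u x, ψ (φ.1 ⬝ᵥ v) = 1 := Iff.rfl

theorem exists_addChar [Finite F] : ∃ ψ : AddChar F ℂ, ψ ≠ 1 := by
  obtain ⟨ψ, hψ⟩ := AddChar.exists_apply_ne_zero.2 (one_ne_zero (α := F))
  exact ⟨ψ, fun h => hψ (by rw [h, AddChar.one_apply])⟩

variable {ψ}

theorem eq_zero_of_forall (hψ : ψ ≠ 1) {c : F} (h : ∀ t : F, ψ (t * c) = 1) : c = 0 := by
  by_contra hc
  exact hψ (AddChar.ext _ _ fun a => by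
    rw [AddChar.one_apply]
    simpa [inv_mul_cancel_right₀ hc, mul_assoc, hc] using h (a * c⁻¹))

variable {u}

theorem theta_eq_zero_iff (hψ : ψ ≠ 1) (v : Fin n → F) :
    theta u ψ v = 0 ↔ v ∈ Submodule.span F {u} := by
  constructor
  · intro h
    by_contra hv
    obtain ⟨φ, hφ, hφv⟩ := exists_sep hv
    have hu : φ ⬝ᵥ u = 0 := hφ u (Submodule.subset_span rfl)
    refine one_ne_zero (eq_zero_of_forall hψ (c := (1 : F)) fun t => ?_)
    have := DFunLike.congr_fun h (⟨t • φ, by rw [mem_Wsp, smul_dotProduct, hu, smul_zero]⟩ : Wsp u)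
    rw [theta_apply, AddChar.zero_apply, smul_dotProduct, hφv, smul_eq_mul] at this
    exact this
  · intro h
    obtain ⟨c, rfl⟩ := Submodule.mem_span_singleton.1 h
    refine AddChar.ext _ _ fun φ => ?_
    rw [theta_apply, AddChar.zero_apply, dotProduct_smul, mem_Wsp.1 φ.2, smul_zero,
      AddChar.map_zero_eq_one]

theorem span_le_annA (hψ : ψ ≠ 1) (x : SLn n F ⧸ H) {v : Fin n → F}
    (hv : v ∈ Submodule.span F {u}) : v ∈ annA H u ψ x := by
  intro φ hφ
  rw [(theta_eq_zero_iff hψ v).2 hv, AddChar.zero_apply]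

theorem card_span [Finite F] (hu : u ≠ 0) :
    Nat.card (Submodule.span F {u} : Submodule F (Fin n → F)) = Nat.card F := by
  rw [Module.natCard_eq_pow_finrank (K := F), finrank_span_singleton hu, pow_one]

theorem card_annA [Finite F] (hu : u ≠ 0) (hψ : ψ ≠ 1) (x : SLn n F ⧸ H) :
    Nat.card (annA H u ψ x) = Nat.card F * (stabK H u x).index := by
  classical
  haveI := Fintype.ofFinite (Wsp u)
  have hW := card_Wsp (n := n) hu
  have hker : Nat.card (theta u ψ).ker = Nat.card F := by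
    rw [← card_span (n := n) hu]
    exact Nat.card_congr (Equiv.subtypeEquivRight fun v => theta_eq_zero_iff hψ v)
  have hdual : Nat.card (AddChar (Wsp u) ℂ) = Nat.card (Wsp u) := by
    rw [Nat.card_eq_fintype_card, Nat.card_eq_fintype_card, AddChar.card_eq]
  haveI : Finite (AddChar (Wsp u) ℂ) := Nat.finite_of_card_ne_zero (by
    rw [hdual]; exact Nat.card_pos.ne')
  have hrange : Nat.card (theta u ψ).range = Nat.card (Wsp u) := by
    have h := (theta u ψ).ker.card_mul_index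
    rw [AddSubgroup.index_ker, hker, Nat.card_fun, Nat.card_fin, ← hW, mul_comm (Nat.card (Wsp u))] at h
    exact Nat.eq_of_mul_eq_mul_left Nat.card_pos h
  have hsurj : Function.Surjective (theta u ψ) :=
    AddMonoidHom.range_eq_top.1 (AddSubgroup.eq_top_of_card_eq _ (hrange.trans hdual.symm))
  have h1 := (annih (stabK H u x)).card_mul_index
  have h2 := (annA H u ψ x).card_mul_index
  rw [annA, AddSubgroup.index_comap_of_surjective _ hsurj, Nat.card_fun, Nat.card_fin, ← hW,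
    ← hdual, ← h1, card_annih] at h2
  rw [annA]
  have hne : (annih (stabK H u x)).index ≠ 0 := AddSubgroup.index_ne_zero_of_finite
  exact Nat.eq_of_mul_eq_mul_right (Nat.pos_of_ne_zero hne) (h2.trans (by ring))

/-- the images under an element fixing `u` -/
theorem mul_tr_eq {S : SLn n F} (hS : S.1 *ᵥ u = u) {φ : Fin n → F} (hφ : φ ⬝ᵥ u = 0) :
    S * tr u φ = tr u (φ ᵥ* (S⁻¹).1) * S := by
  have h := tr_conj S hφ
  rw [hS] at h
  rw [← h, inv_mul_cancel_right]

theorem vecMul_mem_Wsp {S : SLn n F} (hS : S.1 *ᵥ u = u) {φ : Fin n → F} (hφ : φ ⬝ᵥ u = 0) :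
    (φ ᵥ* S.1) ⬝ᵥ u = 0 := by
  rw [← dotProduct_mulVec, hS, hφ]

theorem inv_fix {S : SLn n F} (hS : S.1 *ᵥ u = u) : (S⁻¹).1 *ᵥ u = u := by
  conv_lhs => arg 2; rw [← hS]
  rw [inv_mulVec_mulVec]

theorem rel_smul {S : SLn n F} (hS : S.1 *ᵥ u = u) {x y : SLn n F ⧸ H}
    (h : (orbSetoid H u).r x y) : (orbSetoid H u).r (S • x) (S • y) := by
  obtain ⟨φ, rfl⟩ := h
  exact ⟨⟨φ.1 ᵥ* (S⁻¹).1, vecMul_mem_Wsp (inv_fix hS) φ.2⟩, by
    rw [← mul_smul, ← mul_smul, mul_tr_eq hS φ.2]⟩

theorem mulVec_mem_annA {S : SLn n F} (hS : S.1 *ᵥ u = u) {x : SLn n F ⧸ H} {v : Fin n → F}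
    (h : v ∈ annA H u ψ x) : S.1 *ᵥ v ∈ annA H u ψ (S • x) := by
  intro φ hφ
  rw [theta_apply, dotProduct_mulVec]
  refine h ⟨φ.1 ᵥ* S.1, vecMul_mem_Wsp hS φ.2⟩ ?_
  rw [mem_stabK] at hφ ⊢
  apply smul_left_cancel S
  show S • tr u (φ.1 ᵥ* S.1) • x = S • x
  rw [← mul_smul, mul_tr_eq hS (vecMul_mem_Wsp hS φ.2), vecMul_vecMul, mul_inv_coe, vecMul_one,
    mul_smul]
  exact hφ

end Cfsg.Agent.H51
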