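import Cfsg.Agent.H51.OrbitAnn
import Cfsg.Agent.H51.FixedSub

/-!
If a proper subgroup of SL_n has index less than the number of points, then either it meets no
transvection group with centre `u`, or it meets each of them in a hyperplane.
-/
set_option autoImplicit false

namespace Cfsg.Agent.H51

open Matrix Finset

variable {n : ℕ} {F : Type*} [Field F]

/-- a subset invariant in the sense below and containing `v` is in the plane of `u, v` or is everything -/
theorem block_dichotomy {u v : Fin n → F} (A : AddSubgroup (Fin n → F))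
    (hv : v ∉ Submodule.span F {u}) (hvA : v ∈ A)
    (hinv : ∀ S : SLn n F, S.1 *ᵥ u = u → ∀ z ∈ A, z ∉ Submodule.span F {u} → S.1 *ᵥ z = z →
      ∀ y ∈ A, S.1 *ᵥ y ∈ A) :
    A = ⊤ ∨ ∀ w ∈ A, w ∈ Submodule.span F {u, v} := by
  by_cases h : ∀ w ∈ A, w ∈ Submodule.span F {u, v}
  · exact Or.inr h
  push Not at h
  obtain ⟨w, hwA, hw⟩ := h
  left
  have hwu : w ∉ Submodule.span F {u} := fun h' => hw (Submodule.span_mono (by simp) h')
  have key : ∀ {z y χ : Fin n → F}, z ∈ A → z ∉ Submodule.span F {u} → y ∈ A →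
      χ ⬝ᵥ u = 0 → χ ⬝ᵥ z = 0 → χ ⬝ᵥ y = 1 → ∀ c, χ ⬝ᵥ c = 0 → c ∈ A := by
    intro z y χ hz hzu hy hu hz0 hy1 c hc
    have := hinv (tr c χ) (by rw [tr_mulVec hc, hu, zero_smul, add_zero]) z hz hzu
      (by rw [tr_mulVec hc, hz0, zero_smul, add_zero]) y hy
    rw [tr_mulVec hc, hy1, one_smul] at this
    exact (A.add_mem_cancel_left hy).1 this
  obtain ⟨χ, hχ, hχw⟩ := exists_sep hw
  have hvw : v ∉ Submodule.span F {u, w} := by
    intro h'
    obtain ⟨a, b, hab⟩ := Submodule.mem_span_pair.1 h'
    by_cases hb : b = 0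
    · exact hv (Submodule.mem_span_singleton.2 ⟨a, by simpa [hb] using hab⟩)
    · apply hw
      have hm : b • w ∈ Submodule.span F {u, v} := by
        rw [show b • w = v - a • u by rw [← hab]; abel]
        exact sub_mem (Submodule.subset_span (by simp)) (Submodule.smul_mem _ _ (Submodule.subset_span (by simp)))
      exact (Submodule.smul_mem_iff _ hb).1 hm
  obtain ⟨χ', hχ', hχv⟩ := exists_sep hvw
  refine (AddSubgroup.eq_top_iff' A).2 fun z => ?_
  have h1 := key hvA hv hwA (hχ u (Submodule.subset_span (by simp)))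
    (hχ v (Submodule.subset_span (by simp))) hχw (z - (χ ⬝ᵥ z) • w)
    (by rw [dotProduct_sub, dotProduct_smul, hχw, smul_eq_mul, mul_one, sub_self])
  have h2 := key hwA hwu hvA (hχ' u (Submodule.subset_span (by simp)))
    (hχ' w (Submodule.subset_span (by simp))) hχv ((χ ⬝ᵥ z) • w)
    (by rw [dotProduct_smul, hχ' w (Submodule.subset_span (by simp)), smul_zero])
  simpa using A.add_mem h1 h2

theorem card_span_pair [Finite F] {u v : Fin n → F} (hu : u ≠ 0)
    (hv : v ∉ Submodule.span F {u}) :
    Nat.card (Submodule.span F {u, v} : Submodule F (Fin n → F)) = Nat.card F ^ 2 := by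
  rw [Module.natCard_eq_pow_finrank (K := F)]
  congr 1
  have hli : LinearIndependent F ![u, v] := by
    rw [LinearIndependent.pair_iff]
    intro a b hab
    by_cases hb : b = 0
    · subst hb
      simp only [zero_smul, add_zero, smul_eq_zero, hu, or_false] at hab
      exact ⟨hab, rfl⟩
    · exact absurd (Submodule.mem_span_singleton.2 ⟨-(b⁻¹ * a), by
        apply smul_right_injective (Fin n → F) hb
        simp only [neg_smul, smul_neg, smul_smul, mul_inv_cancel_left₀ hb]
        exact (neg_eq_of_add_eq_zero_right hab)⟩) hv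
  rw [← mem_span_pair_range, finrank_span_eq_card hli, Fintype.card_fin]

variable [Finite F] {H : Subgroup (SLn n F)} {u : Fin n → F}

set_option maxHeartbeats 1000000 in
/-- the dichotomy -/
theorem orbit_dichotomy (hn : 3 ≤ n) (hu : u ≠ 0) (hd : H.index < geomN n (Nat.card F))
    (hfix : ∀ g : SLn n F, ∃ φ, φ ⬝ᵥ u = 0 ∧ g⁻¹ * tr u φ * g ∉ H) :
    (H.index = Nat.card F ^ (n - 1) ∧
      ∀ (g : SLn n F) (φ : Fin n → F), φ ⬝ᵥ u = 0 → g⁻¹ * tr u φ * g ∈ H → φ = 0) ∨
    (H.index = Nat.card F * geomN (n - 1) (Nat.card F) ∧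
      ∀ g : SLn n F, ∃ v, v ∉ Submodule.span F {u} ∧
        ∀ φ : Fin n → F, φ ⬝ᵥ u = 0 → (g⁻¹ * tr u φ * g ∈ H ↔ φ ⬝ᵥ v = 0)) := by
  classical
  obtain ⟨ψ, hψ⟩ := exists_addChar (F := F)
  haveI : Finite (SLn n F) := inferInstance
  haveI : Finite (SLn n F ⧸ H) := inferInstance
  haveI := Fintype.ofFinite (SLn n F ⧸ H)
  let Q := Quotient (orbSetoid H u)
  haveI : Fintype Q := Fintype.ofFinite Q
  haveI : Fintype (Fin n → F) := Fintype.ofFinite _
  set q := Nat.card F with hqdef
  have hq : 2 ≤ q := Finite.one_lt_card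
  let A : Q → AddSubgroup (Fin n → F) := fun o => annA H u ψ o.out
  let k : Q → ℕ := fun o => (stabK H u o.out).index
  have hArel : ∀ x, A (Quotient.mk (orbSetoid H u) x) = annA H u ψ x := by
    intro x
    show annA H u ψ _ = _
    rw [annA, annA, stabK_eq_of_rel H u (Quotient.mk_out (s := orbSetoid H u) x)]
  have hcardA : ∀ o, Nat.card (A o) = q * k o := fun o => card_annA H hu hψ _
  -- index as a sum
  have hsum : H.index = ∑ o : Q, k o := by
    have h := Nat.card_congr (Equiv.sigmaFiberEquiv (Quotient.mk (orbSetoid H u))).symm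
    rw [Nat.card_sigma] at h
    rw [show H.index = Nat.card (SLn n F ⧸ H) from rfl, h]
    refine Finset.sum_congr rfl fun o _ => ?_
    show _ = (stabK H u o.out).index
    rw [← card_class H u o.out]
    refine Nat.card_congr (Equiv.subtypeEquivRight fun y => ?_)
    constructor
    · intro hy
      exact (orbSetoid H u).symm (Quotient.exact (hy.trans o.out_eq.symm))
    · intro hy
      rw [← o.out_eq]
      exact (Quotient.sound hy).symm
  -- each class is nontrivial
  have hk2 : ∀ o, 2 ≤ k o := by
    intro o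
    obtain ⟨g, hg⟩ := QuotientGroup.mk_surjective o.out
    obtain ⟨φ, hφ, hφg⟩ := hfix g
    have h0 : k o ≠ 0 := AddSubgroup.index_ne_zero_of_finite
    have h1 : k o ≠ 1 := by
      intro h
      apply hφg
      have : (⟨φ, hφ⟩ : Wsp u) ∈ stabK H u o.out := by
        rw [AddSubgroup.index_eq_one.1 h]; exact AddSubgroup.mem_top _
      rw [← hg, mem_stabK_mk] at this
      exact this
    omega
  -- the outside part of each annihilator
  let L : Finset (Fin n → F) := univ.filter (fun v => v ∈ Submodule.span F {u})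
  have hL : L.card = q := by
    rw [hqdef, ← card_span (n := n) hu, Nat.card_eq_fintype_card]
    simp [L, Fintype.card_subtype]
  have hout : ∀ o, (univ.filter (fun v => v ∈ A o ∧ v ∉ Submodule.span F {u})).card + q = q * k o := by
    intro o
    rw [← hcardA o, Nat.card_eq_fintype_card, Fintype.card_subtype, ← hL,
      ← Finset.card_union_of_disjoint]
    · congr 1
      ext v
      simp only [mem_union, mem_filter, mem_univ, true_and, L]
      constructor
      · rintro (⟨h, -⟩ | h)
        · exact h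
        · exact span_le_annA H hψ _ h
      · intro h
        by_cases hv : v ∈ Submodule.span F {u}
        · exact Or.inr hv
        · exact Or.inl ⟨h, hv⟩
    · rw [Finset.disjoint_left]
      intro v hv hv'
      simp only [mem_filter, mem_univ, true_and, L] at hv hv'
      exact hv.2 hv'
  -- the multiplicity is constant
  let μ : (Fin n → F) → ℕ := fun v => (univ.filter (fun o : Q => v ∈ A o)).card
  have hμle : ∀ (S : SLn n F), S.1 *ᵥ u = u → ∀ v, μ v ≤ μ (S.1 *ᵥ v) := by
    intro S hS v
    refine Finset.card_le_card_of_injOn (Quotient.map (fun x => S • x) fun a b h => rel_smul H hS h) ?_ ?_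
    · intro o ho
      simp only [mem_coe, mem_filter, mem_univ, true_and] at ho ⊢
      conv => arg 1; arg 1; rw [← o.out_eq, Quotient.map_mk]
      rw [hArel]
      exact mulVec_mem_annA H hS ho
    · intro o _ o' _ h
      rw [← o.out_eq, ← o'.out_eq, Quotient.map_mk, Quotient.map_mk] at h
      have h' := rel_smul H (inv_fix hS) (Quotient.exact h)
      rw [inv_smul_smul, inv_smul_smul] at h'
      rw [← o.out_eq, ← o'.out_eq]
      exact Quotient.sound h'
  have hμconst : ∀ v v', v ∉ Submodule.span F {u} → v' ∉ Submodule.span F {u} → μ v = μ v' := by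
    intro v v' hv hv'
    refine le_antisymm ?_ ?_
    · obtain ⟨S, hS, hSv⟩ := exists_fix_map hn hv hv'
      exact hSv ▸ hμle S hS v
    · obtain ⟨S, hS, hSv⟩ := exists_fix_map hn hv' hv
      exact hSv ▸ hμle S hS v'
  obtain ⟨v₀, hv₀⟩ : ∃ v₀, v₀ ∉ Submodule.span F {u} := by
    have := exists_notMem_span (F := F) ![u] (by omega : 1 < n)
    rwa [Matrix.range_cons, Matrix.range_empty, Set.union_empty] at this
  have hncard : (univ.filter (fun v : Fin n → F => v ∉ Submodule.span F {u})).card + q = q * q ^ (n - 1) := by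
    rw [← hL, add_comm, ← pow_succ']
    simp only [L]
    rw [Finset.card_filter_add_card_filter_not, Finset.card_univ, ← Nat.card_eq_fintype_card,
      Nat.card_fun, Nat.card_fin, hL, show n - 1 + 1 = n by omega]
  have hcount : ∑ o : Q, (univ.filter (fun v => v ∈ A o ∧ v ∉ Submodule.span F {u})).card
      = (univ.filter (fun v : Fin n → F => v ∉ Submodule.span F {u})).card * μ v₀ := by
    simp only [Finset.card_filter]
    rw [Finset.sum_comm, Finset.sum_mul]
    refine Finset.sum_congr rfl fun v _ => ?_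
    by_cases hv : v ∈ Submodule.span F {u}
    · simp [hv]
    · rw [← hμconst v v₀ hv hv₀]
      simp only [μ, Finset.card_filter, hv, not_false_eq_true, and_true, if_true, one_mul]
  have hpred := pred_mul_geomN q (by omega) (n - 1)
  set M := geomN (n - 1) q with hM
  have hN : geomN n q = q * M + 1 := by
    rw [hM, ← geomN_succ']; congr 1; omega
  have hNp : geomN n q = M + q ^ (n - 1) := by
    rw [hM, ← geomN_succ]; congr 1; omega
  have hQne : Nonempty Q := ⟨Quotient.mk (orbSetoid H u) ((1 : SLn n F) : SLn n F ⧸ H)⟩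
  have hQpos : 1 ≤ Fintype.card Q := Fintype.card_pos
  -- d + μ = #Q + μ q^(n-1)
  have hmain : H.index + μ v₀ = Fintype.card Q + μ v₀ * q ^ (n - 1) := by
    have h1 : q * H.index = ∑ o : Q, (univ.filter (fun v => v ∈ A o ∧ v ∉ Submodule.span F {u})).card
        + q * Fintype.card Q := by
      rw [hsum, Finset.mul_sum, ← Finset.sum_congr rfl (fun o _ => hout o), Finset.sum_add_distrib,
        Finset.sum_const, Finset.card_univ, smul_eq_mul, mul_comm (Fintype.card Q)]
    rw [hcount] at h1
    apply Nat.eq_of_mul_eq_mul_left (by omega : 0 < q)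
    linear_combination h1 + (μ v₀) * hncard
  have hμ1 : μ v₀ = 1 := by
    have hsum2 : 2 * Fintype.card Q ≤ H.index := by
      rw [hsum]
      calc 2 * Fintype.card Q = ∑ _o : Q, 2 := by simp [mul_comm]
        _ ≤ _ := Finset.sum_le_sum fun o _ => hk2 o
    rcases Nat.lt_or_ge (μ v₀) 1 with h | h
    · have : μ v₀ = 0 := by omega
      rw [this] at hmain
      omega
    rcases Nat.lt_or_ge (μ v₀) 2 with h' | h'
    · omega
    exfalso
    obtain ⟨r, hr⟩ : ∃ r, μ v₀ = 2 + r := ⟨μ v₀ - 2, by omega⟩
    have hqM : M ≤ (q - 1) * M := Nat.le_mul_of_pos_left _ (by omega)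
    have hP : 1 ≤ q ^ (n - 1) := Nat.one_le_pow _ _ (by omega)
    have hr' : r ≤ r * q ^ (n - 1) := Nat.le_mul_of_pos_right _ (by omega)
    rw [hr, add_mul] at hmain
    omega
  rw [hμ1, one_mul] at hmain
  have huniq : ∀ v, v ∉ Submodule.span F {u} → ∀ o o' : Q, v ∈ A o → v ∈ A o' → o = o' := by
    intro v hv o o' ho ho'
    have h1 : μ v = 1 := (hμconst v v₀ hv hv₀).trans hμ1
    exact Finset.card_le_one.1 h1.le o (by simp [ho]) o' (by simp [ho'])
  have hexv : ∀ o, ∃ v, v ∈ A o ∧ v ∉ Submodule.span F {u} := by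
    intro o
    have h := hout o
    have : 2 * q ≤ q * k o := by rw [mul_comm q]; exact Nat.mul_le_mul_right q (hk2 o)
    obtain ⟨v, hv⟩ := Finset.card_pos.1 (show 0 < (univ.filter (fun v => v ∈ A o ∧ v ∉ Submodule.span F {u})).card by omega)
    exact ⟨v, (mem_filter.1 hv).2⟩
  have hblock : ∀ o, A o = ⊤ ∨ ∀ v ∈ A o, v ∉ Submodule.span F {u} → ∀ w ∈ A o, w ∈ Submodule.span F {u, v} := by
    intro o
    by_cases htop : A o = ⊤
    · exact Or.inl htop
    refine Or.inr fun v hvA hv => ((block_dichotomy (A o) hv hvA ?_).resolve_left htop)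
    intro S hS z hz hzu hSz y hy
    have h1 : ∀ y ∈ A o, S.1 *ᵥ y ∈ A (Quotient.mk (orbSetoid H u) (S • o.out)) := by
      intro y hy
      rw [hArel]
      exact mulVec_mem_annA H hS hy
    have h2 := huniq z hzu _ o (hSz ▸ h1 z hz) hz
    exact h2 ▸ h1 y hy
  by_cases htop : ∃ o, A o = ⊤
  · left
    obtain ⟨o₀, ho₀⟩ := htop
    have hall : ∀ o, o = o₀ := fun o => by
      obtain ⟨v, hvA, hv⟩ := hexv o
      exact huniq v hv o o₀ hvA (ho₀ ▸ AddSubgroup.mem_top v)
    have hQ1 : Fintype.card Q = 1 := le_antisymm (Fintype.card_le_one_iff.2 fun a b => (hall a).trans (hall b).symm) hQpos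
    rw [hQ1] at hmain
    have hidx : H.index = q ^ (n - 1) := by omega
    refine ⟨hidx, fun g φ hφ hg => ?_⟩
    have hk0 : k (Quotient.mk (orbSetoid H u) (g : SLn n F ⧸ H)) = q ^ (n - 1) := by
      have e : ∀ o, k o = H.index := by
        intro o
        rw [hsum, Finset.sum_eq_single o₀ (fun b _ hb => absurd (hall b) hb) (by simp), hall o]
      rw [e, hidx]
    have hK : stabK H u (g : SLn n F ⧸ H) = ⊥ := by
      apply AddSubgroup.eq_bot_of_card_eq
      have h := (stabK H u (g : SLn n F ⧸ H)).card_mul_index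
      rw [show (stabK H u (g : SLn n F ⧸ H)).index = q ^ (n - 1) from by
        rw [← hk0]; show _ = (stabK H u _).index
        rw [stabK_eq_of_rel H u (Quotient.mk_out (s := orbSetoid H u) (g : SLn n F ⧸ H))]] at h
      have hW : Nat.card (Wsp u) = q ^ (n - 1) := by
        have h' := card_Wsp (n := n) hu
        rw [← hqdef, show q ^ n = q ^ (n - 1) * q by rw [← pow_succ]; congr 1; omega] at h'
        exact Nat.eq_of_mul_eq_mul_right (by omega) h'
      rw [hW] at h
      exact Nat.eq_of_mul_eq_mul_right (Nat.pow_pos (by omega)) (h.trans (one_mul _).symm)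
    have : (⟨φ, hφ⟩ : Wsp u) ∈ stabK H u (g : SLn n F ⧸ H) := (mem_stabK_mk H u).2 hg
    rw [hK, AddSubgroup.mem_bot] at this
    exact congrArg Subtype.val this
  · right
    push Not at htop
    have hsub : ∀ o v, v ∈ A o → v ∉ Submodule.span F {u} →
        ∀ w ∈ A o, w ∈ Submodule.span F {u, v} := fun o v h1 h2 =>
      ((hblock o).resolve_left (htop o)) v h1 h2
    have hkq : ∀ o, k o ≤ q := by
      intro o
      obtain ⟨v, hvA, hv⟩ := hexv o
      have h : Nat.card (A o) ≤ Nat.card (Submodule.span F {u, v} : Submodule F (Fin n → F)) :=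
        Nat.card_mono (Set.toFinite _) fun w hw => hsub o v hvA hv w hw
      rw [card_span_pair hu hv, hcardA, ← hqdef, pow_two] at h
      exact Nat.le_of_mul_le_mul_left h (by omega)
    have hkeq : ∀ o, k o = q := by
      by_contra hne
      push Not at hne
      obtain ⟨o₁, ho₁⟩ := hne
      have hlt : ∑ o : Q, k o < ∑ _o : Q, q :=
        Finset.sum_lt_sum (fun o _ => hkq o) ⟨o₁, mem_univ _, lt_of_le_of_ne (hkq o₁) ho₁⟩
      rw [← hsum, Finset.sum_const, Finset.card_univ, smul_eq_mul, mul_comm] at hlt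
      have hQM : Fintype.card Q ≤ M := by omega
      have := Nat.mul_le_mul_left (q - 1) hQM
      have e : q * Fintype.card Q = (q - 1) * Fintype.card Q + Fintype.card Q := by
        rw [← Nat.succ_mul]; congr 1; omega
      omega
    have hidx : H.index = q * M := by
      have h1 : H.index = q * Fintype.card Q := by
        rw [hsum, Finset.sum_congr rfl fun o _ => hkeq o, Finset.sum_const, Finset.card_univ,
          smul_eq_mul, mul_comm]
      have e : q * Fintype.card Q = (q - 1) * Fintype.card Q + Fintype.card Q := by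
        rw [← Nat.succ_mul]; congr 1; omega
      have h2 : (q - 1) * Fintype.card Q = (q - 1) * M := by omega
      rw [h1, Nat.eq_of_mul_eq_mul_left (by omega) h2]
    refine ⟨hidx, fun g => ?_⟩
    set o := Quotient.mk (orbSetoid H u) (g : SLn n F ⧸ H) with ho
    obtain ⟨v, hvA, hv⟩ := hexv o
    refine ⟨v, hv, ?_⟩
    have hKi : (stabK H u (g : SLn n F ⧸ H)).index = q := by
      rw [← hkeq o]; show _ = (stabK H u _).index
      rw [stabK_eq_of_rel H u (Quotient.mk_out (s := orbSetoid H u) (g : SLn n F ⧸ H))]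
    rw [ho, hArel] at hvA
    have hAeq : ∀ w ∈ Submodule.span F {u, v}, w ∈ annA H u ψ (g : SLn n F ⧸ H) := by
      have hle : (annA H u ψ (g : SLn n F ⧸ H) : Set (Fin n → F)) ⊆ (Submodule.span F {u, v} : Set (Fin n → F)) := by
        intro w hw
        exact hsub o v (by rw [ho, hArel]; exact hvA) hv w (by rw [ho, hArel]; exact hw)
      have heq : (annA H u ψ (g : SLn n F ⧸ H) : Set (Fin n → F)) = (Submodule.span F {u, v} : Set (Fin n → F)) := by
        refine Set.eq_of_subset_of_ncard_le hle (le_of_eq ?_) (Set.toFinite _)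
        rw [← Nat.card_coe_set_eq, ← Nat.card_coe_set_eq]
        exact (card_span_pair hu hv).trans (by
          show _ = Nat.card (annA H u ψ (g : SLn n F ⧸ H))
          rw [card_annA H hu hψ, hKi, pow_two])
      intro w hw
      rw [← SetLike.mem_coe, heq]; exact hw
    let Kv : AddSubgroup (Wsp u) := ((dotR v).comp (Wsp u).subtype).ker
    have hle : stabK H u (g : SLn n F ⧸ H) ≤ Kv := by
      intro φ hφ
      refine eq_zero_of_forall hψ fun t => ?_
      have := mem_annA H u ψ |>.1 (hAeq (t • v) (Submodule.smul_mem _ _ (Submodule.subset_span (by simp)))) φ hφ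
      rwa [dotProduct_smul, smul_eq_mul] at this
    have hKvi : Kv.index = q := by
      have hs : Function.Surjective ((dotR v).comp (Wsp u).subtype) := by
        intro c
        obtain ⟨φ, hφ, hφv⟩ := exists_sep hv
        refine ⟨⟨c • φ, ?_⟩, ?_⟩
        · rw [mem_Wsp, smul_dotProduct, hφ u (Submodule.subset_span rfl), smul_zero]
        · show (c • φ) ⬝ᵥ v = c
          rw [smul_dotProduct, hφv, smul_eq_mul, mul_one]
      rw [AddSubgroup.index_ker, AddMonoidHom.range_eq_top.2 hs, AddSubgroup.card_top]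
    have heq : stabK H u (g : SLn n F ⧸ H) = Kv := by
      refine AddSubgroup.eq_of_le_of_card_ge hle (le_of_eq ?_)
      have h1 := (stabK H u (g : SLn n F ⧸ H)).card_mul_index
      have h2 := Kv.card_mul_index
      rw [hKi] at h1; rw [hKvi] at h2
      exact Nat.eq_of_mul_eq_mul_right (by omega) (h2.trans h1.symm)
    intro φ hφ
    rw [← mem_stabK_mk H u (φ := (⟨φ, hφ⟩ : Wsp u)), heq]
    exact Iff.rfl

end Cfsg.Agent.H51
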