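import Cfsg.Agent.H51.RootCases

/-!
The subgroup generated by three root subgroups.
-/

set_option autoImplicit false

namespace Cfsg.Agent.H51

open Cfsg.Lie

variable {D : ChevalleyDatum} {F : Type*} [Field F]

theorem closure_three (a b c : ℕ) :
    Subgroup.closure {g : GL D.Idx F | ∃ s ∈ [a, b, c], ∃ t : F,
      (g : Matrix D.Idx D.Idx F) = D.x F s t} =
      D.rootSubgroup F a ⊔ D.rootSubgroup F b ⊔ D.rootSubgroup F c := by
  rw [ChevalleyDatum.rootSubgroup, ChevalleyDatum.rootSubgroup, ChevalleyDatum.rootSubgroup,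
    ← Subgroup.closure_union, ← Subgroup.closure_union]
  congr 1
  ext g
  simp [or_assoc, exists_or, or_and_right]

end Cfsg.Agent.H51
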