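import Cfsg.Agent.H37.Chev.Struct

/-!
Root subgroups of two roots that are not opposite generate a unipotent group; the pairs formed by
a central root subgroup and its conjugates.
-/

set_option autoImplicit false

namespace Cfsg.Agent.H51

open Cfsg.Lie Cfsg.Agent.H37 Cfsg.Agent.H37.RootSys

variable {D : ChevalleyDatum} {F : Type*} [Field F] (Q : Chev.Data D F)

theorem hom_simple_val (i : Fin Q.X.n) (r : Fin D.nroots) :
    (Q.X.good.hom (Q.X.M.simple i) r).val = Q.K.w i r := by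
  rw [Q.X.good.hom_simple, Q.X.good.sigmaPerm_val, RootSys.sigma_eq_w Q.X.good Q.K i.isLt r.isLt]

/-- Two roots that are not opposite are made positive simultaneously. -/
theorem exists_pos_pair : ∀ r : Fin D.nroots, D.nroots / 2 ≤ r.val → ∀ s : Fin D.nroots,
    s.val ≠ D.nroots - 1 - r.val → ∃ w, D.nroots / 2 ≤ (Q.X.good.hom w r).val ∧
      D.nroots / 2 ≤ (Q.X.good.hom w s).val := by
  suffices h : ∀ k (hk : k < D.nroots), D.nroots / 2 ≤ k → ∀ s : Fin D.nroots,
      s.val ≠ D.nroots - 1 - k → ∃ w, D.nroots / 2 ≤ (Q.X.good.hom w ⟨k, hk⟩).val ∧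
        D.nroots / 2 ≤ (Q.X.good.hom w s).val from fun r => h r.val r.isLt
  intro k
  induction k using Nat.strong_induction_on with
  | _ k ih =>
    intro hk hp s hne
    by_cases hs : D.nroots / 2 ≤ s.val
    · exact ⟨1, by simpa using hp, by simpa using hs⟩
    have hev := Q.X.good.even
    have hsl := s.isLt
    have hneg : ∀ {w : Q.X.M.Group} {q : Fin D.nroots}, q.val < D.nroots / 2 →
        (∀ r, ∀ hr : r < D.nroots, D.nroots / 2 ≤ r →
          (Q.X.good.hom w ⟨r, hr⟩).val < D.nroots / 2) →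
        D.nroots / 2 ≤ (Q.X.good.hom w q).val := by
      intro w q hq hw
      have h1 := hw (D.nroots - 1 - q.val) (by omega) (by omega)
      rw [Q.X.good.hom_neg w q] at h1
      omega
    rcases Q.X.climb k hk hp with ⟨i, hi, rfl⟩ | ⟨i, hi, hlt, hpos⟩
    · refine ⟨Q.X.w0 * Q.X.M.simple ⟨i, hi⟩, ?_, ?_⟩
      · rw [map_mul, Equiv.Perm.mul_apply]
        refine hneg ?_ fun r hr hp' => Q.X.w0_neg hr hp'
        rw [Q.X.good.hom_simple, Q.X.good.sigmaPerm_val]
        exact (Q.X.good.simple_spec hi).2.2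
      · rw [map_mul, Equiv.Perm.mul_apply]
        refine hneg ?_ fun r hr hp' => Q.X.w0_neg hr hp'
        rw [Q.X.good.hom_simple, Q.X.good.sigmaPerm_val]
        have h1 := (Q.X.good.sigma_spec hi s.isLt).2.2.2.1
        have h2 := (Q.X.good.sigma_spec hi (show D.nroots - 1 - s.val < D.nroots by omega)).2.2.2.2
          (by omega) (by omega)
        rw [h1] at h2
        have h3 := (Q.X.good.sigma_spec hi s.isLt).1
        simp only [Fin.val_mk] at *
        omega
    · have hs' := (Q.X.good.sigma_spec hi hk).1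
      obtain ⟨w, h1, h2⟩ := ih _ hlt hs' hpos ⟨_, (Q.X.good.sigma_spec hi s.isLt).1⟩ (by
        intro e
        simp only at e
        have e' := congrArg (Q.X.C.sigma i) e
        rw [(Q.X.good.sigma_spec hi s.isLt).2.2.1, (Q.X.good.sigma_spec hi hs').2.2.2.1,
          (Q.X.good.sigma_spec hi hk).2.2.1] at e'
        exact hne e')
      have hstep : ∀ q : Fin D.nroots, Q.X.good.hom (w * Q.X.M.simple ⟨i, hi⟩) q =
          Q.X.good.hom w ⟨Q.X.C.sigma i q, (Q.X.good.sigma_spec hi q.isLt).1⟩ := fun q => by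
        rw [map_mul, Equiv.Perm.mul_apply]
        refine congrArg _ (Fin.ext ?_)
        rw [Q.X.good.hom_simple, Q.X.good.sigmaPerm_val]
      exact ⟨w * Q.X.M.simple ⟨i, hi⟩, by rw [hstep]; exact h1, by rw [hstep]; exact h2⟩

variable [Finite F] {p : ℕ} [Fact p.Prime] [CharP F p]

theorem isPGroup_U : IsPGroup p (Q.sys.U) := by
  have := Fintype.ofFinite F
  obtain ⟨k, -, hk⟩ := FiniteField.card F p
  refine IsPGroup.of_card (n := (k : ℕ) * (D.nroots / 2)) ?_
  rw [Q.sys.card_U, Nat.card_eq_fintype_card, hk, ← pow_mul]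

/-- The subgroup generated by two root subgroups of non-opposite roots, one positive. -/
theorem isPGroup_pair {r s : ℕ} (hr : r < D.nroots) (hp : D.nroots / 2 ≤ r) (hs : s < D.nroots)
    (hne : s ≠ D.nroots - 1 - r) : IsPGroup p (XS Q.sys.x {r, s}) := by
  obtain ⟨w, h1, h2⟩ := exists_pos_pair Q ⟨r, hr⟩ hp ⟨s, hs⟩ hne
  refine ((isPGroup_U Q).map (MulAut.conj (Q.sys.rep w)⁻¹).toMonoidHom).to_le (XS_le ?_)
  rintro q hq t
  have hkey : ∀ (a : ℕ) (ha : a < D.nroots), D.nroots / 2 ≤ (Q.X.good.hom w ⟨a, ha⟩).val →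
      Q.sys.x a t ∈ Q.sys.U.map (MulAut.conj (Q.sys.rep w)⁻¹).toMonoidHom := by
    intro a ha hpa
    obtain ⟨t', e⟩ := Q.sys.rep_conj w a ha t
    refine ⟨_, Q.sys.x_mem_U (Fin.isLt _) hpa t', ?_⟩
    rw [← e]
    simp [mul_assoc]
  rcases hq with rfl | rfl
  · exact hkey _ hr h1
  · exact hkey _ hs h2

omit [Finite F] [Fact p.Prime] [CharP F p] in
theorem xG_comm_U {m : ℕ} (hm : m + 1 = D.nroots) {g : ↥(D.group F)} (hg : g ∈ Q.sys.U) (t : F) :
    g * Q.sys.x m t = Q.sys.x m t * g := by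
  have hev := Q.X.good.even
  have hrk : D.nroots / 2 ≤ m := by have := Q.K.two_half; omega
  have hle : Q.sys.U ≤ Subgroup.centralizer {Q.sys.x m t} := by
    refine XS_le fun s hs u => ?_
    rw [Subgroup.mem_centralizer_singleton_iff]
    have hs' := mem_posSet.1 hs
    by_cases hsm : s = m
    · subst hsm
      rw [← Q.sys.x_add' _ hs'.1, ← Q.sys.x_add' _ hs'.1, add_comm]
    · have hmP : m ∈ Q.sys.P := Q.sys.P_eq ▸ mem_posSet.2 ⟨by omega, hrk⟩
      have hsP : s ∈ Q.sys.P := Q.sys.P_eq ▸ hs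
      have h := Q.sys.comm hsP hmP hsm u t
      have hempty : {k | Q.sys.T s m k} = ∅ := Set.eq_empty_iff_forall_notMem.2 fun k hk => by
        obtain ⟨h1, h2, h3⟩ := Q.sys.T_pos hsP hmP hk
        rw [Q.sys.P_eq, mem_posSet] at h1
        omega
      rw [hempty, XS_empty, Subgroup.mem_bot, mul_inv_eq_one, mul_inv_eq_iff_eq_mul] at h
      exact h
  exact Subgroup.mem_centralizer_singleton_iff.1 (hle hg)

omit [Finite F] [Fact p.Prime] [CharP F p] in
theorem rootSubgroup_eq_map (r : ℕ) :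
    D.rootSubgroup F r = (XS Q.sys.x {r}).map (D.group F).subtype := by
  refine le_antisymm ?_ ?_
  · intro g hg
    obtain ⟨t, rfl⟩ := (Q.K.mem_rootSubgroup F).1 hg
    exact ⟨Q.sys.x r t, x_mem_XS (Set.mem_singleton r) t, rfl⟩
  · rw [Subgroup.map_le_iff_le_comap]
    refine XS_le fun s hs t => ?_
    rw [Set.mem_singleton_iff] at hs
    subst hs
    exact (Q.K.mem_rootSubgroup F).2 ⟨t, rfl⟩

include Q in
/-- The pairs formed by the highest root subgroup and its conjugates. -/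
theorem top_root_pairs {m : ℕ} (hm : m + 1 = D.nroots) {g : GL D.Idx F} (hg : g ∈ D.group F) :
    IsPGroup p ↥(D.rootSubgroup F m ⊔ (D.rootSubgroup F m).map (MulAut.conj g).toMonoidHom) ∨
    ∃ h ∈ D.group F,
      (D.rootSubgroup F m ⊔ (D.rootSubgroup F m).map (MulAut.conj g).toMonoidHom).map
        (MulAut.conj h).toMonoidHom = D.rootSubgroup F m ⊔ D.rootSubgroup F 0 := by
  obtain ⟨u, hu, h, hh, w, v, hv, e⟩ := Q.sys.normalForm.exists_eq ⟨g, hg⟩
  have hm' : m < D.nroots := by omega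
  have hp : D.nroots / 2 ≤ m := by have := Q.K.two_half; omega
  have hvU : v ∈ Q.sys.U := Q.sys.Uw_le w hv
  set r := (Q.X.good.hom w ⟨m, hm'⟩).val with hr
  have hrlt : r < D.nroots := Fin.isLt _
  -- the conjugate is the `u`-conjugate of `X r`
  have hconj : ∀ t, ∃ t', (⟨g, hg⟩ : ↥(D.group F)) * Q.sys.x m t * (⟨g, hg⟩ : ↥(D.group F))⁻¹ =
      u * Q.sys.x r t' * u⁻¹ := by
    intro t
    obtain ⟨t1, e1⟩ := Q.sys.rep_conj w m hm' t
    obtain ⟨t2, e2⟩ := Q.sys.h_conj h hh r hrlt t1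
    refine ⟨t2, ?_⟩
    have hc := xG_comm_U Q hm hvU t
    rw [← e2, ← e1, e]
    change u * h * Q.sys.rep w * v * Q.sys.x m t * (u * h * Q.sys.rep w * v)⁻¹ = _
    rw [mul_assoc (u * h * Q.sys.rep w) v, hc]
    group
  have hconj' : ∀ t, ∃ t', u * Q.sys.x r t * u⁻¹ =
      (⟨g, hg⟩ : ↥(D.group F)) * Q.sys.x m t' * (⟨g, hg⟩ : ↥(D.group F))⁻¹ := by
    intro t
    obtain ⟨t2, e2⟩ := Q.sys.h_conj h⁻¹ (inv_mem hh) r hrlt t
    obtain ⟨k, hk, ek⟩ := Q.sys.rep_inv w
    obtain ⟨t1, e1⟩ := Q.sys.rep_conj w⁻¹ r hrlt t2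
    have hw : (Q.X.good.hom w⁻¹ ⟨r, hrlt⟩).val = m := by
      have : (⟨r, hrlt⟩ : Fin D.nroots) = Q.X.good.hom w ⟨m, hm'⟩ := Fin.ext rfl
      rw [this, map_inv]
      simp
    rw [hw] at e1
    obtain ⟨t3, e3⟩ := Q.sys.h_conj k hk m hm' t1
    refine ⟨t3, ?_⟩
    have e4 : (Q.sys.rep w)⁻¹ * (h⁻¹ * Q.sys.x r t * h) * Q.sys.rep w = Q.sys.x m t3 := by
      rw [inv_inv] at e2
      rw [e2, ← e3, ← e1, ← inv_inv (Q.sys.rep w), ek]
      group
    have hc := xG_comm_U Q hm (inv_mem hvU) t3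
    rw [e]
    change _ = u * h * Q.sys.rep w * v * Q.sys.x m t3 * (u * h * Q.sys.rep w * v)⁻¹
    rw [mul_assoc (u * h * Q.sys.rep w) v, show v * Q.sys.x m t3 = Q.sys.x m t3 * v from
      xG_comm_U Q hm hvU t3, ← e4]
    group
  set A := XS Q.sys.x {m} with hA
  have hmapA : A.map (MulAut.conj (⟨g, hg⟩ : ↥(D.group F))).toMonoidHom =
      (XS Q.sys.x {r}).map (MulAut.conj u).toMonoidHom := by
    refine le_antisymm ?_ ?_
    · rw [Subgroup.map_le_iff_le_comap]
      refine XS_le fun s hs t => ?_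
      rw [Set.mem_singleton_iff] at hs
      subst hs
      obtain ⟨t', e'⟩ := hconj t
      exact ⟨_, x_mem_XS (Set.mem_singleton r) t', e'.symm⟩
    · rw [Subgroup.map_le_iff_le_comap]
      refine XS_le fun s hs t => ?_
      rw [Set.mem_singleton_iff] at hs
      subst hs
      obtain ⟨t', e'⟩ := hconj' t
      exact ⟨_, x_mem_XS (Set.mem_singleton m) t', e'.symm⟩
  have hfixA : A.map (MulAut.conj u).toMonoidHom = A := by
    refine le_antisymm ?_ ?_
    · rw [Subgroup.map_le_iff_le_comap]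
      refine XS_le fun s hs t => ?_
      rw [Set.mem_singleton_iff] at hs
      subst hs
      rw [Subgroup.mem_comap, MulEquiv.coe_toMonoidHom, MulAut.conj_apply, xG_comm_U Q hm hu,
        mul_inv_cancel_right]
      exact x_mem_XS (Set.mem_singleton _) t
    · refine XS_le fun s hs t => ?_
      rw [Set.mem_singleton_iff] at hs
      subst hs
      refine ⟨_, x_mem_XS (Set.mem_singleton _) t, ?_⟩
      rw [MulEquiv.coe_toMonoidHom, MulAut.conj_apply, xG_comm_U Q hm hu, mul_inv_cancel_right]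
  have hsup : A ⊔ A.map (MulAut.conj (⟨g, hg⟩ : ↥(D.group F))).toMonoidHom =
      (XS Q.sys.x {m, r}).map (MulAut.conj u).toMonoidHom := by
    rw [hmapA]
    conv_lhs => rw [← hfixA, ← Subgroup.map_sup]
    congr 1
    refine le_antisymm (sup_le (XS_mono (by simp)) (XS_mono (by simp))) (XS_le fun s hs t => ?_)
    rcases hs with rfl | rfl
    · exact Subgroup.mem_sup_left (x_mem_XS (Set.mem_singleton _) t)
    · exact Subgroup.mem_sup_right (x_mem_XS (Set.mem_singleton _) t)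
  have hpush : ∀ (S : Subgroup ↥(D.group F)) (a : ↥(D.group F)),
      (S.map (MulAut.conj a).toMonoidHom).map (D.group F).subtype =
        (S.map (D.group F).subtype).map (MulAut.conj (a : GL D.Idx F)).toMonoidHom := by
    intro S a
    rw [Subgroup.map_map, Subgroup.map_map]
    rfl
  have hgl : D.rootSubgroup F m ⊔ (D.rootSubgroup F m).map (MulAut.conj g).toMonoidHom =
      ((XS Q.sys.x {m, r}).map (D.group F).subtype).map
        (MulAut.conj (u : GL D.Idx F)).toMonoidHom := by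
    rw [← hpush, ← hsup, Subgroup.map_sup, hpush, rootSubgroup_eq_map Q]
  rw [hgl]
  by_cases hr0 : r = 0
  · refine Or.inr ⟨(u : GL D.Idx F)⁻¹, inv_mem u.2, ?_⟩
    rw [Subgroup.map_map, show (MulAut.conj (u : GL D.Idx F)⁻¹).toMonoidHom.comp
        (MulAut.conj (u : GL D.Idx F)).toMonoidHom = MonoidHom.id _ from
      MonoidHom.ext fun x => by simp [mul_assoc], Subgroup.map_id, rootSubgroup_eq_map Q,
      rootSubgroup_eq_map Q, ← Subgroup.map_sup]
    congr 1
    rw [hr0]
    refine le_antisymm (XS_le fun s hs t => ?_) (sup_le (XS_mono (by simp)) (XS_mono (by simp)))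
    rcases hs with rfl | rfl
    · exact Subgroup.mem_sup_left (x_mem_XS (Set.mem_singleton _) t)
    · exact Subgroup.mem_sup_right (x_mem_XS (Set.mem_singleton _) t)
  · refine Or.inl (((isPGroup_pair Q (r := m) (s := r) hm' hp hrlt ?_).map _).map _)
    omega

end Cfsg.Agent.H51
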