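import Mathlib
import Cfsg.Agent.Linear.Generation

/-!
General transvections `1 + u φᵀ` in SL_n, separation of vectors by dot products,
transitivity of SL_n on nonzero vectors.
-/
set_option autoImplicit false

namespace Cfsg.Agent.H51

open Matrix

variable {n : ℕ} {F : Type*} [Field F]

/-- SL_n -/
abbrev SLn (n : ℕ) (F : Type*) [Field F] : Type _ := Matrix.SpecialLinearGroup (Fin n) F

/-- a matrix of determinant one as an element of SL_n -/
def mkSL (A : Matrix (Fin n) (Fin n) F) (h : A.det = 1) : SLn n F := ⟨A, h⟩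

theorem mkSL_val (A : Matrix (Fin n) (Fin n) F) (h : A.det = 1) : (mkSL A h).1 = A := rfl

theorem mul_val (A B : SLn n F) : (A * B).1 = A.1 * B.1 := rfl

theorem one_val : (1 : SLn n F).1 = 1 := rfl

theorem det_one_add_vecMul (u φ : Fin n → F) : (1 + vecMulVec u φ).det = 1 + φ ⬝ᵥ u := by
  rw [vecMulVec_eq Unit, det_one_add_replicateCol_mul_replicateRow]

open Classical in
/-- the transvection `v ↦ v + (φ ⬝ v) u` (when `φ ⬝ u = 0`) -/
noncomputable def tr (u φ : Fin n → F) : SLn n F :=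
  if h : φ ⬝ᵥ u = 0 then mkSL (1 + vecMulVec u φ) (by rw [det_one_add_vecMul, h, add_zero]) else 1

theorem tr_coe {u φ : Fin n → F} (h : φ ⬝ᵥ u = 0) : (tr u φ).1 = 1 + vecMulVec u φ := by
  rw [tr, dif_pos h, mkSL_val]

theorem tr_mulVec {u φ : Fin n → F} (h : φ ⬝ᵥ u = 0) (v : Fin n → F) :
    (tr u φ).1 *ᵥ v = v + (φ ⬝ᵥ v) • u := by
  rw [tr_coe h, add_mulVec, one_mulVec, vecMulVec_mulVec, op_smul_eq_smul]

theorem tr_zero (u : Fin n → F) : tr u (0 : Fin n → F) = 1 := by
  refine Subtype.ext ?_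
  rw [tr_coe (zero_dotProduct u), vecMulVec_zero, add_zero]
  exact one_val.symm

theorem tr_mul {u φ ψ : Fin n → F} (h : φ ⬝ᵥ u = 0) (h' : ψ ⬝ᵥ u = 0) :
    tr u φ * tr u ψ = tr u (φ + ψ) := by
  have h'' : (φ + ψ) ⬝ᵥ u = 0 := by rw [add_dotProduct, h, h', add_zero]
  refine Subtype.ext ?_
  rw [mul_val, tr_coe h, tr_coe h', tr_coe h'', add_mul, mul_add, mul_add,
    Matrix.one_mul, Matrix.one_mul, Matrix.mul_one, vecMulVec_mul_vecMulVec, h, zero_smul,
    vecMulVec_zero, add_zero, vecMulVec_add]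
  abel

theorem tr_inv {u φ : Fin n → F} (h : φ ⬝ᵥ u = 0) : (tr u φ)⁻¹ = tr u (-φ) :=
  inv_eq_of_mul_eq_one_right (by
    rw [tr_mul h (by rw [neg_dotProduct, h, neg_zero]), add_neg_cancel, tr_zero])

theorem tr_smul {u φ : Fin n → F} (c : F) (h : φ ⬝ᵥ u = 0) : tr (c • u) φ = tr u (c • φ) := by
  refine Subtype.ext ?_
  rw [tr_coe (by rw [dotProduct_smul, h, smul_zero]), tr_coe (by rw [smul_dotProduct, h, smul_zero]),
    smul_vecMulVec, vecMulVec_smul]

theorem tr_injective {u φ ψ : Fin n → F} (hu : u ≠ 0) (h : φ ⬝ᵥ u = 0) (h' : ψ ⬝ᵥ u = 0)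
    (he : tr u φ = tr u ψ) : φ = ψ := by
  have h1 : vecMulVec u φ = vecMulVec u ψ := by
    have := congrArg Subtype.val he
    rw [tr_coe h, tr_coe h'] at this
    exact add_left_cancel this
  obtain ⟨i, hi⟩ := Function.ne_iff.1 hu
  funext j
  have := congrFun (congrFun h1 i) j
  simp only [vecMulVec_apply] at this
  exact mul_left_cancel₀ hi this

theorem inv_mul_coe (g : SLn n F) : (g⁻¹).1 * g.1 = 1 := by
  rw [← mul_val, inv_mul_cancel, one_val]

theorem mul_inv_coe (g : SLn n F) : g.1 * (g⁻¹).1 = 1 := by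
  rw [← mul_val, mul_inv_cancel, one_val]

theorem inv_mulVec_mulVec (g : SLn n F) (v : Fin n → F) : (g⁻¹).1 *ᵥ (g.1 *ᵥ v) = v := by
  rw [mulVec_mulVec, inv_mul_coe, one_mulVec]

theorem mulVec_inv_mulVec (g : SLn n F) (v : Fin n → F) : g.1 *ᵥ ((g⁻¹).1 *ᵥ v) = v := by
  rw [mulVec_mulVec, mul_inv_coe, one_mulVec]

theorem mulVec_ne_zero (g : SLn n F) {v : Fin n → F} (hv : v ≠ 0) : g.1 *ᵥ v ≠ 0 := fun h =>
  hv (by rw [← inv_mulVec_mulVec g v, h, mulVec_zero])

theorem tr_conj (g : SLn n F) {u φ : Fin n → F} (h : φ ⬝ᵥ u = 0) :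
    g * tr u φ * g⁻¹ = tr (g.1 *ᵥ u) (φ ᵥ* (g⁻¹).1) := by
  have h' : (φ ᵥ* (g⁻¹).1) ⬝ᵥ (g.1 *ᵥ u) = 0 := by
    rw [← dotProduct_mulVec, inv_mulVec_mulVec, h]
  refine Subtype.ext ?_
  rw [mul_val, mul_val, tr_coe h, tr_coe h', mul_add,
    Matrix.mul_one, add_mul, mul_inv_coe, mul_vecMulVec, vecMulVec_mul]

/-- separate a vector from a subspace by a dot product -/
theorem exists_sep {W : Submodule F (Fin n → F)} {v : Fin n → F} (hv : v ∉ W) :
    ∃ φ : Fin n → F, (∀ w ∈ W, φ ⬝ᵥ w = 0) ∧ φ ⬝ᵥ v = 1 := by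
  obtain ⟨f, hf, hW⟩ := W.exists_dual_map_eq_bot_of_notMem hv inferInstance
  obtain ⟨φ, hφ⟩ : ∃ φ : Fin n → F, ∀ x, φ ⬝ᵥ x = (f v)⁻¹ * f x := by
    refine ⟨fun i => (f v)⁻¹ * f (Pi.single i 1), fun x => ?_⟩
    conv_rhs => rw [pi_eq_sum_univ' x, map_sum, Finset.mul_sum]
    refine Finset.sum_congr rfl fun i _ => ?_
    rw [map_smul, smul_eq_mul]
    ring
  refine ⟨φ, fun w hw => ?_, by rw [hφ, inv_mul_cancel₀ hf]⟩
  have : f w ∈ W.map f := Submodule.mem_map_of_mem hw
  rw [hW, Submodule.mem_bot] at this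
  rw [hφ, this, mul_zero]

theorem exists_dot_one {v : Fin n → F} (hv : v ≠ 0) : ∃ φ : Fin n → F, φ ⬝ᵥ v = 1 := by
  obtain ⟨φ, -, h⟩ := exists_sep (W := (⊥ : Submodule F (Fin n → F))) (v := v) (by simpa using hv)
  exact ⟨φ, h⟩

theorem exists_notMem_span {k : ℕ} (w : Fin k → Fin n → F) (hk : k < n) :
    ∃ v : Fin n → F, v ∉ Submodule.span F (Set.range w) := by
  by_contra h
  push Not at h
  have h' : Submodule.span F (Set.range w) = ⊤ := eq_top_iff.2 fun v _ => h v
  have h1 := finrank_range_le_card (R := F) w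
  rw [Set.finrank, h', finrank_top, Module.finrank_fin_fun, Fintype.card_fin] at h1
  omega

theorem mem_span_pair_range {u v : Fin n → F} :
    Submodule.span F (Set.range ![u, v]) = Submodule.span F {u, v} := by
  rw [Matrix.range_cons, Matrix.range_cons, Matrix.range_empty, Set.union_empty,
    Set.singleton_union]

/-- transitivity on pairs (u, v) with v outside the line of u, fixing u -/
theorem exists_fix_map (hn : 3 ≤ n) {u v v' : Fin n → F} (hv : v ∉ Submodule.span F {u})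
    (hv' : v' ∉ Submodule.span F {u}) :
    ∃ g : SLn n F, g.1 *ᵥ u = u ∧ g.1 *ᵥ v = v' := by
  have key : ∀ {v v' : Fin n → F}, v ∉ Submodule.span F {u} → v' ∉ Submodule.span F {u, v} →
      ∃ g : SLn n F, g.1 *ᵥ u = u ∧ g.1 *ᵥ v = v' := by
    intro v v' hv hv'
    have h1 : v ∉ Submodule.span F {u, v' - v} := by
      intro h
      obtain ⟨a, b, hab⟩ := Submodule.mem_span_pair.1 h
      by_cases hb : b = 0
      · exact hv (Submodule.mem_span_singleton.2 ⟨a, by simpa [hb] using hab⟩)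
      · apply hv'
        have hmem : b • v' ∈ Submodule.span F {u, v} := by
          rw [show b • v' = (1 + b) • v - a • u by
            rw [add_smul, one_smul]; conv_rhs => arg 1; arg 1; rw [← hab]
            rw [smul_sub]; abel]
          exact sub_mem (Submodule.smul_mem _ _ (Submodule.subset_span (by simp)))
            (Submodule.smul_mem _ _ (Submodule.subset_span (by simp)))
        exact (Submodule.smul_mem_iff _ hb).1 hmem
    obtain ⟨χ, hχ, hχv⟩ := exists_sep h1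
    have hχu : χ ⬝ᵥ u = 0 := hχ u (Submodule.subset_span (by simp))
    have hχd : χ ⬝ᵥ (v' - v) = 0 := hχ _ (Submodule.subset_span (by simp))
    refine ⟨tr (v' - v) χ, ?_, ?_⟩
    · rw [tr_mulVec hχd, hχu, zero_smul, add_zero]
    · rw [tr_mulVec hχd, hχv, one_smul, add_sub_cancel]
  by_cases h : v' ∈ Submodule.span F {u, v}
  · obtain ⟨w, hw⟩ := exists_notMem_span (F := F) ![u, v] (by omega : 2 < n)
    rw [mem_span_pair_range] at hw
    obtain ⟨g₁, g₁u, g₁v⟩ := key hv hw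
    have hwu : w ∉ Submodule.span F {u} := fun h' => hw (Submodule.span_mono (by simp) h')
    have hv'w : v' ∉ Submodule.span F {u, w} := by
      intro h'
      obtain ⟨a, b, hab⟩ := Submodule.mem_span_pair.1 h'
      by_cases hb : b = 0
      · exact hv' (Submodule.mem_span_singleton.2 ⟨a, by simpa [hb] using hab⟩)
      · apply hw
        have : b • w ∈ Submodule.span F {u, v} := by
          rw [show b • w = v' - a • u by rw [← hab]; abel]
          exact sub_mem h (Submodule.smul_mem _ _ (Submodule.subset_span (by simp)))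
        exact (Submodule.smul_mem_iff _ hb).1 this
    obtain ⟨g₂, g₂u, g₂v⟩ := key hwu hv'w
    refine ⟨g₂ * g₁, ?_, ?_⟩
    · rw [mul_val, ← mulVec_mulVec, g₁u, g₂u]
    · rw [mul_val, ← mulVec_mulVec, g₁v, g₂v]
  · exact key hv h

theorem exists_map_eq (hn : 2 ≤ n) {u v : Fin n → F} (hu : u ≠ 0) (hv : v ≠ 0) :
    ∃ g : SLn n F, g.1 *ᵥ u = v := by
  have key : ∀ {u v : Fin n → F}, u ≠ 0 → v ∉ Submodule.span F {u} →
      ∃ g : SLn n F, g.1 *ᵥ u = v := by
    intro u v hu hv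
    have h1 : u ∉ Submodule.span F {v - u} := by
      intro h
      obtain ⟨b, hb⟩ := Submodule.mem_span_singleton.1 h
      have hb0 : b ≠ 0 := fun e => hu (by rw [← hb, e, zero_smul])
      refine hv (Submodule.mem_span_singleton.2 ⟨b⁻¹ * (1 + b), ?_⟩)
      rw [mul_smul, inv_smul_eq_iff₀ hb0, add_smul, one_smul]
      conv_lhs => arg 1; rw [← hb]
      rw [smul_sub]; abel
    obtain ⟨χ, hχ, hχu⟩ := exists_sep h1
    have hχd : χ ⬝ᵥ (v - u) = 0 := hχ _ (Submodule.subset_span rfl)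
    exact ⟨tr (v - u) χ, by rw [tr_mulVec hχd, hχu, one_smul, add_sub_cancel]⟩
  by_cases h : v ∈ Submodule.span F {u}
  · obtain ⟨w, hw⟩ := exists_notMem_span (F := F) ![u] (by omega : 1 < n)
    rw [Matrix.range_cons, Matrix.range_empty, Set.union_empty] at hw
    obtain ⟨g₁, g₁u⟩ := key hu hw
    have hw0 : w ≠ 0 := fun e => hw (e ▸ Submodule.zero_mem _)
    have hvw : v ∉ Submodule.span F {w} := by
      intro h'
      obtain ⟨a, ha⟩ := Submodule.mem_span_singleton.1 h'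
      have ha0 : a ≠ 0 := fun e => hv (by rw [← ha, e, zero_smul])
      rw [← ha] at h
      exact hw ((Submodule.smul_mem_iff _ ha0).1 h)
    obtain ⟨g₂, g₂v⟩ := key hw0 hvw
    exact ⟨g₂ * g₁, by rw [mul_val, ← mulVec_mulVec, g₁u, g₂v]⟩
  · exact key hu h

theorem transvection_eq_tr {i j : Fin n} (hij : i ≠ j) (c : F) :
    (Matrix.SpecialLinearGroup.transvection hij c : SLn n F)
      = tr (Pi.single i 1) (Pi.single j c) := by
  refine Subtype.ext ?_
  rw [tr_coe (by simp [single_dotProduct, Ne.symm hij]), Matrix.SpecialLinearGroup.transvection_coe]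
  congr 1
  ext a b
  simp only [vecMulVec_apply, Matrix.single_apply, Pi.single_apply]
  by_cases h1 : a = i <;> by_cases h2 : b = j <;> simp [h1, h2] <;> intro e <;> first | exact absurd e.symm h2 | exact absurd e.symm h1

theorem eq_top_of_tr_mem {H : Subgroup (SLn n F)}
    (h : ∀ u φ : Fin n → F, φ ⬝ᵥ u = 0 → tr u φ ∈ H) : H = ⊤ :=
  Cfsg.Agent.Linear.eq_top_of_transvection_mem fun i j hij c => by
    rw [transvection_eq_tr hij c]
    exact h _ _ (by simp [single_dotProduct, Ne.symm hij])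

end Cfsg.Agent.H51
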