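import Cfsg.Agent.Unitary.Wall
import Cfsg.Agent.Unitary.Order

/-!
Involutions of unitary groups in characteristic two: the centraliser in GU of an involution has
every possible determinant.
-/

set_option autoImplicit false

namespace Cfsg.Agent.H51.UI

open Cfsg Matrix Cfsg.Agent.Unitary

variable {F : Type*} [Field F] [Fintype F] {n q : ℕ}

theorem exists_frob_ne (hF : Fintype.card F = q ^ 2) : ∃ c : F, c ^ q ≠ c := by
  by_contra h
  push Not at h
  have h1 := card_fixed (F := F) hF
  rw [Nat.card_congr (Equiv.subtypeUnivEquiv h), Nat.card_eq_fintype_card, hF] at h1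
  have := two_le_q hF
  nlinarith

/-- The data of the plane spanned by `x` and `N x`. -/
theorem exists_self_pairing (hF : Fintype.card F = q ^ 2) {N : Matrix (Fin n) (Fin n) F}
    (hsa : ∀ u v, hermForm n F q (N *ᵥ u) v = hermForm n F q u (N *ᵥ v)) (hN : N ≠ 0) :
    ∃ x, hermForm n F q (N *ᵥ x) x ≠ 0 := by
  by_contra h
  push Not at h
  obtain ⟨c, hc⟩ := exists_frob_ne (F := F) hF
  apply hN
  refine Matrix.ext_iff_mulVec.2 fun y => ?_
  rw [Matrix.zero_mulVec]
  refine eq_zero_of_forall_right hF fun v => ?_
  set A := hermForm n F q (N *ᵥ y) v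
  set B := hermForm n F q (N *ᵥ v) y
  have e1 : A + B = 0 := by
    have := h (y + v)
    simp only [mulVec_add, herm_add_left, herm_add_right hF, h y, h v, zero_add, add_zero] at this
    linear_combination this
  have e2 : c ^ q * A + c * B = 0 := by
    have := h (y + c • v)
    simp only [mulVec_add, mulVec_smul, herm_add_left, herm_add_right hF, herm_smul_left,
      herm_smul_right, h y, h v, mul_zero, zero_add, add_zero] at this
    linear_combination this
  have e3 : (c ^ q - c) * A = 0 := by linear_combination e2 - c * e1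
  exact (mul_eq_zero.1 e3).resolve_left (sub_ne_zero.2 hc)

/-- A non-trivial involution commutes with unitary matrices of every square norm-one determinant. -/
theorem exists_centralizer_det (hF : Fintype.card F = q ^ 2) {A : Matrix (Fin n) (Fin n) F}
    (hA : Preserves q A) (hA2 : A * A = 1) (hne : A ≠ 1) [CharP F 2] {l : F}
    (hl : l * l ^ q = 1) :
    ∃ M : Matrix (Fin n) (Fin n) F, Preserves q M ∧ M * A = A * M ∧ M.det = l ^ 2 := by
  set N := A - 1 with hNdef
  have hAN : ∀ v, A *ᵥ v = v + N *ᵥ v := fun v => by
    rw [hNdef, sub_mulVec, one_mulVec, add_sub_cancel]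
  have hN2 : ∀ v, N *ᵥ (N *ᵥ v) = 0 := by
    intro v
    have h : N * N = 0 := by
      have h2 : (2 : Matrix (Fin n) (Fin n) F) = 0 := by
        ext i j
        simp [Matrix.ofNat_apply, CharTwo.two_eq_zero]
      rw [hNdef, sub_mul, mul_sub, hA2, one_mul, mul_one]
      calc (1 : Matrix (Fin n) (Fin n) F) - A - (A - 1) = 2 * (1 - A) := by
            rw [two_mul]; abel
        _ = 0 := by rw [h2, zero_mul]
    rw [mulVec_mulVec, h, zero_mulVec]
  have hsa : ∀ u v, hermForm n F q (N *ᵥ u) v = hermForm n F q u (N *ᵥ v) := by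
    intro u v
    have h := hA (A *ᵥ u) v
    rw [mulVec_mulVec, hA2, one_mulVec] at h
    rw [hNdef, sub_mulVec, sub_mulVec, one_mulVec, one_mulVec, herm_sub_left, herm_sub_right hF, h]
  obtain ⟨x, hx⟩ := exists_self_pairing hF hsa (by rw [hNdef]; exact sub_ne_zero.2 hne)
  set y := N *ᵥ x with hy
  set b := hermForm n F q y x with hb
  set e := hermForm n F q x x with he
  have hbx : hermForm n F q x y = b := by rw [hb, hy, hsa]
  have hbq : b ^ q = b := by rw [hb, herm_swap hF, hbx]
  have heq : e ^ q = e := herm_swap hF x x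
  have hyy : hermForm n F q y y = 0 := by rw [hy, hsa, hN2, herm_zero_right hF]
  -- the orthogonal projection on the plane
  let α : (Fin n → F) → F := fun v => hermForm n F q v y / b
  let β : (Fin n → F) → F := fun v => (hermForm n F q v x - α v * e) / b
  let P : (Fin n → F) → (Fin n → F) := fun v => α v • x + β v • y
  have hαx : α x = 1 := by simp only [α, hbx, div_self hx]
  have hβx : β x = 0 := by simp only [β, hαx, ← he, one_mul, sub_self, zero_div]
  have hαy : α y = 0 := by simp only [α, hyy, zero_div]
  have hβy : β y = 1 := by simp only [β, hαy, zero_mul, sub_zero, ← hb, div_self hx]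
  have hPsa : ∀ u v, hermForm n F q (P u) v = hermForm n F q u (P v) := by
    intro u v
    have hu1 : hermForm n F q x v = hermForm n F q v x ^ q := (herm_swap hF v x).symm
    have hu2 : hermForm n F q y v = hermForm n F q v y ^ q := (herm_swap hF v y).symm
    simp only [P, α, β, herm_add_left, herm_add_right hF, herm_smul_left, herm_smul_right, div_pow,
      sub_pow_q hF, mul_pow, hbq, heq, hu1, hu2]
    field_simp
    ring
  have hPP : ∀ v, P (P v) = P v := by
    intro v
    have h1 : α (P v) = α v := by
      simp only [α, P, herm_add_left, herm_smul_left, hbx, hyy, mul_zero, add_zero]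
      rw [mul_div_assoc, div_self hx, mul_one]
    have h2 : β (P v) = β v := by
      have : hermForm n F q (P v) x = α v * e + β v * b := by
        simp only [P, herm_add_left, herm_smul_left, ← he, ← hb]
      show (hermForm n F q (P v) x - α (P v) * e) / b = β v
      rw [h1, this, add_sub_cancel_left, mul_div_assoc, div_self hx, mul_one]
    simp only [P] at h1 h2 ⊢
    rw [h1, h2]
  have hPN : ∀ v, P (N *ᵥ v) = N *ᵥ P v := by
    intro v
    have h1 : α (N *ᵥ v) = 0 := by
      show hermForm n F q (N *ᵥ v) y / b = 0
      rw [hsa, hy, hN2, herm_zero_right hF, zero_div]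
    have h2 : β (N *ᵥ v) = α v := by
      show (hermForm n F q (N *ᵥ v) x - α (N *ᵥ v) * e) / b = α v
      rw [h1, zero_mul, sub_zero, hsa, ← hy]
    simp only [P, h1, h2, zero_smul, zero_add, mulVec_add, mulVec_smul, ← hy]
    rw [hy, hN2, smul_zero, add_zero]
  -- its matrix
  set Bc : Matrix (Fin n) (Fin 2) F := Matrix.of fun i k => if k = 0 then x i else y i with hBc
  set Br : Matrix (Fin 2) (Fin n) F := Matrix.of fun k j =>
    if k = 0 then α (Pi.single j 1) else β (Pi.single j 1) with hBr
  have hαlin : ∀ v, α v = ∑ j, v j * α (Pi.single j 1) := by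
    intro v
    have hv : hermForm n F q v y = ∑ j, v j * hermForm n F q (Pi.single j 1) y := by
      conv_lhs => rw [pi_eq_sum_univ v]
      rw [herm_sum_left]
      refine Finset.sum_congr rfl fun j _ => ?_
      rw [herm_smul_left]
      congr 2
      ext k
      simp [Pi.single_apply, eq_comm]
    simp only [α, hv, Finset.sum_div, mul_div_assoc]
  have hβlin : ∀ v, β v = ∑ j, v j * β (Pi.single j 1) := by
    intro v
    have hv : hermForm n F q v x = ∑ j, v j * hermForm n F q (Pi.single j 1) x := by
      conv_lhs => rw [pi_eq_sum_univ v]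
      rw [herm_sum_left]
      refine Finset.sum_congr rfl fun j _ => ?_
      rw [herm_smul_left]
      congr 2
      ext k
      simp [Pi.single_apply, eq_comm]
    simp only [β, hv, hαlin v, Finset.sum_mul, ← Finset.sum_sub_distrib, Finset.sum_div]
    refine Finset.sum_congr rfl fun j _ => ?_
    ring
  have hBrv : ∀ v, Br *ᵥ v = ![α v, β v] := by
    intro v
    ext k
    fin_cases k
    · simp only [hBr, mulVec, dotProduct, Matrix.of_apply]
      rw [hαlin v]
      exact Finset.sum_congr rfl fun j _ => by simp [mul_comm]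
    · simp only [hBr, mulVec, dotProduct, Matrix.of_apply]
      rw [hβlin v]
      exact Finset.sum_congr rfl fun j _ => by simp [mul_comm]
  set M : Matrix (Fin n) (Fin n) F := 1 + (l - 1) • (Bc * Br) with hM
  have hMv : ∀ v, M *ᵥ v = v + (l - 1) • P v := by
    intro v
    rw [hM, add_mulVec, one_mulVec, smul_mulVec, ← mulVec_mulVec, hBrv]
    congr 2
    ext i
    simp [P, hBc, mulVec, dotProduct, Fin.sum_univ_two, mul_comm]
  refine ⟨M, ?_, ?_, ?_⟩
  · intro u v
    rw [hMv, hMv]
    simp only [herm_add_left, herm_add_right hF, herm_smul_left, herm_smul_right, sub_pow_q hF,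
      one_pow]
    rw [hPsa u (P v), hPP v, hPsa u v]
    linear_combination (hermForm n F q u (P v)) * hl
  · refine Matrix.ext_iff_mulVec.2 fun v => ?_
    rw [← mulVec_mulVec, ← mulVec_mulVec, hMv, hMv, hAN v, hAN (v + (l - 1) • P v), mulVec_add,
      mulVec_smul, ← hPN v]
    have hlin : P (v + N *ᵥ v) = P v + P (N *ᵥ v) := by
      simp only [P, α, β, herm_add_left, add_div, add_mul, add_smul, sub_div]
      module
    rw [hlin, smul_add]
    abel
  · have hBB : Br * Bc = 1 := by
      refine Matrix.ext_iff_mulVec.2 fun w => ?_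
      rw [← mulVec_mulVec, hBrv, one_mulVec]
      have hcol : Bc *ᵥ w = w 0 • x + w 1 • y := by
        ext i
        simp [hBc, mulVec, dotProduct, Fin.sum_univ_two, mul_comm]
      have ha : α (Bc *ᵥ w) = w 0 := by
        rw [hcol]
        simp only [α, herm_add_left, herm_smul_left, hbx, hyy, mul_zero, add_zero]
        rw [mul_div_assoc, div_self hx, mul_one]
      have hb' : β (Bc *ᵥ w) = w 1 := by
        show (hermForm n F q (Bc *ᵥ w) x - α (Bc *ᵥ w) * e) / b = w 1
        rw [ha, hcol, herm_add_left, herm_smul_left, herm_smul_left, ← he, ← hb,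
          add_sub_cancel_left, mul_div_assoc, div_self hx, mul_one]
      ext k
      fin_cases k
      · exact ha
      · exact hb'
    rw [hM, ← Matrix.smul_mul, det_one_add_mul_comm, Matrix.mul_smul, hBB,
      show (1 : Matrix (Fin 2) (Fin 2) F) + (l - 1) • 1 = l • 1 by
        rw [sub_smul, one_smul, add_sub_cancel], det_smul, det_one, mul_one, Fintype.card_fin]

end Cfsg.Agent.H51.UI
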