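import Cfsg.Agent.H51.Supports
import Cfsg.Agent.H51.CentWord
import Cfsg.Agent.H37.Chev.Parabolic

/-!
Weakly closed subgroups of the unipotent group of a Chevalley group are unipotent radicals:
torus averaging isolates root elements, certified commutators give the remaining roots.
-/

set_option autoImplicit false

namespace Cfsg.Agent.H51.WC

open Cfsg.Lie Cfsg.Agent.H37 Cfsg.Agent.H37.RootSys

variable {D : ChevalleyDatum}

/-- The exponent by which a torus word scales a root element. -/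
def wt (D : ChevalleyDatum) (e : List (ℕ × ℤ)) (r : ℕ) : ℤ :=
  (e.map fun p => p.2 * D.cartan p.1 r).sum

/-- Some listed torus word fixes `γ` and moves `k`. -/
def movB (D : ChevalleyDatum) (Z W : List ℤ) (Es : List (List (ℕ × ℤ))) (γ k : ℕ) : Bool :=
  Es.any fun e => (e.all fun p => decide (p.1 < D.rank)) && Z.contains (wt D e γ) &&
    W.contains (wt D e k)

/-- The fundamental roots are separated from the other positive roots, up to the exceptions. -/
def simpB (D : ChevalleyDatum) (Z W : List ℤ) (Es : List (List (ℕ × ℤ))) (R : ℕ → List ℕ) : Bool :=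
  (List.range D.rank).all fun i => (List.range D.nroots).all fun k =>
    decide (k < D.nroots / 2) || k == D.simple i || (R i).contains k ||
      (movB D Z W Es (D.simple i) k && (R i).all fun q => decide (k < q))

/-- The set is closed: no positive combination of two members is a further root, judged by the
Cartan integers. -/
def closedC (D : ChevalleyDatum) (B : List ℕ) : Bool :=
  B.all fun r => decide (r < D.nroots) && decide (D.nroots / 2 ≤ r) && B.all fun s => r == s ||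
    (List.range D.nroots).all fun k => B.contains k || decide (k ≤ r) || decide (k ≤ s) ||
      (List.range D.rank).any fun i => (List.range D.rank).any fun j =>
        let d := D.cartan i r * D.cartan j s - D.cartan j r * D.cartan i s
        let na := D.cartan i k * D.cartan j s - D.cartan j k * D.cartan i s
        let nb := D.cartan i r * D.cartan j k - D.cartan j r * D.cartan i k
        !(d == 0) && (decide (na * d ≤ 0) || decide (nb * d ≤ 0) ||
          (List.range D.rank).any fun l =>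
            !(na * D.cartan l r + nb * D.cartan l s == d * D.cartan l k))

/-- The commutator term `d.2.2` of the pair `d.1, d.2.1` isolates `γ`. -/
def derB (D : ChevalleyDatum) (Z W C : List ℤ) (Es : List (List (ℕ × ℤ))) (d : ℕ × ℕ × ℕ)
    (γ : ℕ) : Bool :=
  match (D.commTerms d.1 d.2.1).drop d.2.2 with
  | c :: post => c.1 == γ && C.contains c.2.1 &&
      decide (d.1 < D.nroots) && decide (D.nroots / 2 ≤ d.1) &&
      decide (d.2.1 < D.nroots) && decide (D.nroots / 2 ≤ d.2.1) &&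
      !(d.2.1 == d.1) && !(d.2.1 == D.neg d.1) &&
      (((D.commTerms d.1 d.2.1).take d.2.2).all fun q => decide (q.1 < γ)) &&
      (post.all fun q => decide (γ < q.1) && movB D Z W Es γ q.1) &&
      closedC D (γ :: post.map Prod.fst)
  | [] => false

/-- Every positive root is fundamental or isolated by a listed commutator. -/
def allDer (D : ChevalleyDatum) (Z W C : List ℤ) (Es : List (List (ℕ × ℤ)))
    (L : List (ℕ × ℕ × ℕ)) : Bool :=
  (List.range D.nroots).all fun k => decide (k < D.nroots / 2) ||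
    ((List.range D.rank).any fun i => k == D.simple i) ||
      ((L.any fun d => derB D Z W C Es d k) &&
        (List.range D.rank).any fun i => [1, -1, 2, -2].contains (D.cartan i k))

variable {F : Type*} [Field F] (Q : Chev.Data D F)

theorem closed_of_closedC {B : List ℕ} (h : closedC D B = true) :
    Q.sys.toUnip.Closed B.toFinset := by
  simp only [closedC, List.all_eq_true, Bool.and_eq_true, decide_eq_true_eq, Bool.or_eq_true,
    beq_iff_eq, List.mem_range, List.contains_iff_mem, List.any_eq_true, Bool.not_eq_true',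
    beq_eq_false_iff_ne] at h
  constructor
  · intro r hr
    rw [List.mem_toFinset] at hr
    exact Q.sys.P_eq ▸ mem_posSet.2 ⟨(h r hr).1.1, (h r hr).1.2⟩
  · intro r hr s hs hne k hk
    rw [List.mem_toFinset] at hr hs ⊢
    obtain ⟨⟨hr1, hr2⟩, hall⟩ := h r hr
    obtain ⟨⟨hs1, hs2⟩, -⟩ := h s hs
    obtain ⟨hkP, hrk, hsk⟩ := Q.sys.T_pos (Q.sys.P_eq ▸ mem_posSet.2 ⟨hr1, hr2⟩)
      (Q.sys.P_eq ▸ mem_posSet.2 ⟨hs1, hs2⟩) hk
    rw [Q.sys.P_eq, mem_posSet] at hkP
    rcases (hall s hs).resolve_left hne k hkP.1 with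
      ((h' | h') | h') | ⟨i, hi, j, hj, hd, h'⟩
    · exact h'
    · omega
    · omega
    · exfalso
      obtain ⟨_, _, hk'⟩ := (hk : Combo Q.K r s k).2
      obtain ⟨ha, hb, hcf⟩ := hk'
      rename_i a b
      have hlin : ∀ l < D.rank, D.cartan l k = a * D.cartan l r + b * D.cartan l s := by
        intro l hl
        rw [Q.K.cartan_lin l hl k hkP.1, Q.K.cartan_lin l hl r hr1, Q.K.cartan_lin l hl s hs1,
          ← List.sum_map_mul_left, ← List.sum_map_mul_left, ← List.sum_map_add]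
        refine congrArg List.sum (List.map_congr_left fun m hm => ?_)
        rw [hcf m (List.mem_range.1 hm)]
        ring
      set d := D.cartan i r * D.cartan j s - D.cartan j r * D.cartan i s with hd'
      have ha' : (1 : ℤ) ≤ a := by exact_mod_cast ha
      have hb' : (1 : ℤ) ≤ b := by exact_mod_cast hb
      have hdd : 0 < d * d := mul_self_pos.2 hd
      have ea : D.cartan i k * D.cartan j s - D.cartan j k * D.cartan i s = a * d := by
        rw [hlin i hi, hlin j hj, hd']; ring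
      have eb : D.cartan i r * D.cartan j k - D.cartan j r * D.cartan i k = b * d := by
        rw [hlin i hi, hlin j hj, hd']; ring
      rw [ea, eb] at h'
      rcases h' with (h' | h') | ⟨l, hl, h'⟩
      · nlinarith
      · nlinarith
      · exact h' (by rw [hlin l hl]; ring)

/-- A torus element. -/
def tor (e : List (ℕ × ℤ)) (v : Fˣ) : ↥(D.group F) :=
  (e.map fun p => (⟨Q.K.hU F (D.simple p.1) ((v ^ p.2 : Fˣ) : F),
    Q.K.wU_mem F fun q _ => Q.K.xU_mem_group F q.1 q.2⟩ : ↥(D.group F))).prod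

theorem tor_conj {e : List (ℕ × ℤ)} (he : ∀ p ∈ e, p.1 < D.rank) (v : Fˣ) {r : ℕ}
    (hr : r < D.nroots) (t : F) :
    tor Q e v * Q.sys.x r t * (tor Q e v)⁻¹ = Q.sys.x r (((v ^ wt D e r : Fˣ) : F) * t) := by
  induction e generalizing t with
  | nil => simp [tor, wt]
  | cons p e ih =>
    have hp := he p (List.mem_cons_self ..)
    have h1 : (⟨Q.K.hU F (D.simple p.1) ((v ^ p.2 : Fˣ) : F),
        Q.K.wU_mem F fun q _ => Q.K.xU_mem_group F q.1 q.2⟩ : ↥(D.group F)) = tor Q [p] v := by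
      simp [tor]
    have h2 : ∀ s : F, tor Q [p] v * Q.sys.x r s * (tor Q [p] v)⁻¹ =
        Q.sys.x r (((v ^ (p.2 * D.cartan p.1 r) : Fˣ) : F) * s) := by
      intro s
      refine Subtype.ext ?_
      have := Q.K.hU_conj_xU F (Q.K.simple_lt p.1 hp).1 hr (v ^ p.2) s
      rw [Q.K.pairing_simple hp, ← zpow_mul] at this
      simp only [tor, List.map_cons, List.map_nil, List.prod_cons, List.prod_nil, mul_one,
        Subgroup.coe_mul, Subgroup.coe_inv]
      exact this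
    have e1 : tor Q (p :: e) v = tor Q [p] v * tor Q e v := by simp [tor]
    rw [e1, show tor Q [p] v * tor Q e v * Q.sys.x r t * (tor Q [p] v * tor Q e v)⁻¹ =
      tor Q [p] v * (tor Q e v * Q.sys.x r t * (tor Q e v)⁻¹) * (tor Q [p] v)⁻¹ by group,
      ih (fun q hq => he q (List.mem_cons_of_mem _ hq)), h2, ← mul_assoc, ← Units.val_mul,
      ← zpow_add]
    rfl

theorem tor_mem_H {e : List (ℕ × ℤ)} (he : ∀ p ∈ e, p.1 < D.rank) (v : Fˣ) :
    tor Q e v ∈ Q.sys.H := by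
  refine Subgroup.list_prod_mem _ fun g hg => ?_
  obtain ⟨p, hp, rfl⟩ := List.mem_map.1 hg
  exact Subgroup.mem_subgroupOf.2
    (RootSys.hU_mem Q.K (Q.K.simple_lt p.1 (he p hp)).1 (Units.ne_zero _))

/-- `y` has coordinate `c` at the root `γ` of the set `S`. -/
def Co (S : Finset ℕ) (γ : ℕ) (y : ↥(D.group F)) (c : F) : Prop :=
  ∃ n ∈ XS Q.sys.x (↑(S.erase γ) : Set ℕ), y = Q.sys.x γ c * n

/-- The root `γ` is not the target of a commutator inside `S`. -/
def Untargeted (S : Finset ℕ) (γ : ℕ) : Prop :=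
  ∀ r ∈ S, ∀ s ∈ S, r ≠ s → ¬ Q.sys.T r s γ

variable {S : Finset ℕ} {γ : ℕ}

theorem closed_erase (hS : Q.sys.toUnip.Closed S) (hγ : Untargeted Q S γ) :
    Q.sys.toUnip.Closed (S.erase γ) :=
  ⟨(Finset.erase_subset _ _).trans hS.1, fun r hr s hs hne k hk => Finset.mem_erase.2
    ⟨fun e => hγ r (Finset.mem_erase.1 hr).2 s (Finset.mem_erase.1 hs).2 hne
      (by rw [e] at hk; exact hk),
      hS.2 r (Finset.mem_erase.1 hr).2 s (Finset.mem_erase.1 hs).2 hne k hk⟩⟩

theorem conj_erase (hS : Q.sys.toUnip.Closed S) (hγS : γ ∈ S) (hγ : Untargeted Q S γ) (c : F)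
    {n : ↥(D.group F)} (hn : n ∈ XS Q.sys.x (↑(S.erase γ) : Set ℕ)) :
    Q.sys.x γ c * n * (Q.sys.x γ c)⁻¹ ∈ XS Q.sys.x (↑(S.erase γ) : Set ℕ) := by
  refine conj_mem_XS (fun r hr t => ?_) hn
  obtain ⟨hne, hrS⟩ := Finset.mem_erase.1 (Finset.mem_coe.1 hr)
  rw [show Q.sys.x γ c * Q.sys.x r t * (Q.sys.x γ c)⁻¹ =
    Q.sys.x γ c * Q.sys.x r t * (Q.sys.x γ c)⁻¹ * (Q.sys.x r t)⁻¹ * Q.sys.x r t by group]
  refine mul_mem (XS_mono (fun k hk => Finset.mem_coe.2 (Finset.mem_erase.2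
    ⟨fun e => hγ γ hγS r hrS hne.symm (by rw [e] at hk; exact hk), hS.2 γ hγS r hrS hne.symm k hk⟩))
    (Q.sys.toUnip.comm (hS.1 hγS) (hS.1 hrS) hne.symm c t)) (x_mem_XS hr t)

theorem mem_single {γ : ℕ} (hγ' : γ ∈ Q.sys.P) {a : ↥(D.group F)}
    (ha : a ∈ XS Q.sys.x {γ}) : ∃ c, a = Q.sys.x γ c := by
  induction ha using Subgroup.closure_induction with
  | mem g hg => obtain ⟨r, rfl, t, rfl⟩ := hg; exact ⟨t, rfl⟩
  | one => exact ⟨0, (Q.sys.toUnip.x_zero hγ').symm⟩
  | mul g g' _ _ ih ih' =>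
    obtain ⟨t, rfl⟩ := ih
    obtain ⟨t', rfl⟩ := ih'
    exact ⟨t + t', (Q.sys.toUnip.x_add γ hγ' t t').symm⟩
  | inv g _ ih =>
    obtain ⟨t, rfl⟩ := ih
    exact ⟨-t, (Q.sys.toUnip.x_neg hγ' t).symm⟩

theorem Co.exists_coord (hS : Q.sys.toUnip.Closed S) (hγS : γ ∈ S) {y : ↥(D.group F)}
    (hy : y ∈ XS Q.sys.x (↑S : Set ℕ)) : ∃ c, Co Q S γ y c := by
  obtain ⟨a, ha, b, hb, rfl⟩ := Q.sys.toUnip.exists_split hS {γ} (↑(S.erase γ) : Set ℕ)
    (fun r hr => (em (r = γ)).imp id fun h => Finset.mem_coe.2 (Finset.mem_erase.2 ⟨h, hr⟩)) hy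
  obtain ⟨c, rfl⟩ := mem_single Q (hS.1 hγS) ha
  exact ⟨c, b, hb, rfl⟩

theorem Co.mem_XS (hγS : γ ∈ S) {y : ↥(D.group F)} {c : F} (h : Co Q S γ y c) :
    y ∈ XS Q.sys.x (↑S : Set ℕ) := by
  obtain ⟨n, hn, rfl⟩ := h
  exact mul_mem (x_mem_XS (Finset.mem_coe.2 hγS) c)
    (XS_mono (Finset.coe_subset.2 (Finset.erase_subset _ _)) hn)

theorem Co.mul (hS : Q.sys.toUnip.Closed S) (hγS : γ ∈ S) (hγ : Untargeted Q S γ)
    {y z : ↥(D.group F)} {a b : F} (hy : Co Q S γ y a) (hz : Co Q S γ z b) :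
    Co Q S γ (y * z) (a + b) := by
  obtain ⟨n, hn, rfl⟩ := hy
  obtain ⟨m, hm, rfl⟩ := hz
  refine ⟨_, mul_mem (conj_erase Q hS hγS hγ (-b) hn) hm, ?_⟩
  rw [show Q.sys.x γ (-b) = (Q.sys.x γ b)⁻¹ from Q.sys.toUnip.x_neg (hS.1 hγS) b,
    show Q.sys.x γ (a + b) = Q.sys.x γ a * Q.sys.x γ b from Q.sys.toUnip.x_add γ (hS.1 hγS) a b]
  group

theorem Co.one (hS : Q.sys.toUnip.Closed S) (hγS : γ ∈ S) : Co Q S γ 1 (0 : F) :=
  ⟨1, one_mem _, by rw [mul_one]; exact (Q.sys.toUnip.x_zero (hS.1 hγS)).symm⟩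

theorem Co.list (hS : Q.sys.toUnip.Closed S) (hγS : γ ∈ S) (hγ : Untargeted Q S γ) {ι : Type*}
    {f : ι → ↥(D.group F)} {g : ι → F} : ∀ {L : List ι}, (∀ i ∈ L, Co Q S γ (f i) (g i)) →
      Co Q S γ (L.map f).prod (L.map g).sum
  | [], _ => Co.one Q hS hγS
  | i :: L, h => by
    rw [List.map_cons, List.map_cons, List.prod_cons, List.sum_cons]
    exact Co.mul Q hS hγS hγ (h i (List.mem_cons_self ..))
      (Co.list hS hγS hγ fun j hj => h j (List.mem_cons_of_mem _ hj))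

theorem Co.tor (hS : Q.sys.toUnip.Closed S) (hγS : γ ∈ S) {y : ↥(D.group F)} {c : F}
    (hy : Co Q S γ y c) {e : List (ℕ × ℤ)} (he : ∀ p ∈ e, p.1 < D.rank) (v : Fˣ) :
    Co Q S γ (tor Q e v * y * (tor Q e v)⁻¹) (((v ^ wt D e γ : Fˣ) : F) * c) := by
  obtain ⟨n, hn, rfl⟩ := hy
  have hlt : ∀ r ∈ S, r < D.nroots := fun r hr => (mem_posSet.1 (Q.sys.P_eq ▸ hS.1 hr)).1
  refine ⟨WC.tor Q e v * n * (WC.tor Q e v)⁻¹, conj_mem_XS (fun r hr t => ?_) hn, ?_⟩
  · rw [tor_conj Q he v (hlt r (Finset.mem_erase.1 (Finset.mem_coe.1 hr)).2)]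
    exact x_mem_XS hr _
  · rw [← tor_conj Q he v (hlt γ hγS) c]
    group

theorem Co.unique (hS : Q.sys.toUnip.Closed S) (hγS : γ ∈ S) (hγ : Untargeted Q S γ)
    {y : ↥(D.group F)} {a b : F} (ha : Co Q S γ y a) (hb : Co Q S γ y b) : a = b := by
  obtain ⟨n, hn, rfl⟩ := ha
  obtain ⟨m, hm, e⟩ := hb
  have hγP : γ ∈ Q.sys.P := hS.1 hγS
  have h1 : Q.sys.x γ (-b + a) ∈ XS Q.sys.x (↑(S.erase γ) : Set ℕ) := by
    rw [show Q.sys.x γ (-b + a) = Q.sys.x γ (-b) * Q.sys.x γ a from Q.sys.toUnip.x_add γ hγP _ _,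
      show Q.sys.x γ (-b) = (Q.sys.x γ b)⁻¹ from Q.sys.toUnip.x_neg hγP b,
      show Q.sys.x γ a = Q.sys.x γ b * m * n⁻¹ by rw [← e]; group,
      show (Q.sys.x γ b)⁻¹ * (Q.sys.x γ b * m * n⁻¹) = m * n⁻¹ by group]
    exact mul_mem hm (inv_mem hn)
  have hsing : Q.sys.toUnip.Closed {γ} := ⟨Finset.singleton_subset_iff.2 hγP, fun r hr s hs hne =>
    absurd ((Finset.mem_singleton.1 hr).trans (Finset.mem_singleton.1 hs).symm) hne⟩
  have h2 := XS_inter Q.sys.toUnip hsing (closed_erase Q hS hγ)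
    (x_mem_XS (Finset.mem_coe.2 (Finset.mem_singleton_self γ)) _) h1
  have h0 := Q.sys.toUnip.sep hγP (-b + a) (XS_mono (fun r hr => ?_) h2)
  · linear_combination h0
  · obtain ⟨h3, h4⟩ := Finset.mem_inter.1 (Finset.mem_coe.1 hr)
    exact absurd (Finset.mem_singleton.1 h3) (Finset.mem_erase.1 h4).1

theorem Co.zero_iff (hS : Q.sys.toUnip.Closed S) (hγS : γ ∈ S) (hγ : Untargeted Q S γ)
    {y : ↥(D.group F)} {c : F} (hy : Co Q S γ y c) :
    y ∈ XS Q.sys.x (↑(S.erase γ) : Set ℕ) ↔ c = 0 := by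
  have hz : Q.sys.x γ (0 : F) = 1 := Q.sys.toUnip.x_zero (hS.1 hγS)
  constructor
  · intro h
    exact Co.unique Q hS hγS hγ hy ⟨y, h, by rw [hz, one_mul]⟩
  · rintro rfl
    obtain ⟨n, hn, rfl⟩ := hy
    rwa [hz, one_mul]

/-- The conditions on a parameter. -/
def Good (v : Fˣ) (Z W : List ℤ) : Prop := (∀ z ∈ Z, v ^ z = 1) ∧ ∀ z ∈ W, v ^ z ≠ 1

variable [Fintype F]

open Classical in
theorem sum_powers (w : Fˣ) :
    ((List.range (Fintype.card F - 1)).map fun i => ((w ^ i : Fˣ) : F)).sum =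
      if w = 1 then -1 else 0 := by
  classical
  rw [← List.sum_toFinset _ List.nodup_range, List.toFinset_range]
  simp only [Units.val_pow_eq_pow_val]
  split_ifs with h
  · subst h
    simp [Nat.cast_sub (Fintype.card_pos : 0 < Fintype.card F)]
  · have h1 : (w : F) ≠ 1 := fun e => h (Units.val_eq_one.1 e)
    rw [geom_sum_eq h1, FiniteField.pow_card_sub_one_eq_one _ (Units.ne_zero w), sub_self,
      zero_div]

/-- The average of an element under a torus word. -/
def mean (e : List (ℕ × ℤ)) (v : Fˣ) (y : ↥(D.group F)) : ↥(D.group F) :=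
  ((List.range (Fintype.card F - 1)).map fun i : ℕ =>
    tor Q e (v ^ i) * y * (tor Q e (v ^ i))⁻¹).prod

open Classical in
theorem Co.mean (hS : Q.sys.toUnip.Closed S) (hγS : γ ∈ S) (hγ : Untargeted Q S γ)
    {y : ↥(D.group F)} {c : F} (hy : Co Q S γ y c) {e : List (ℕ × ℤ)}
    (he : ∀ p ∈ e, p.1 < D.rank) (v : Fˣ) :
    Co Q S γ (mean Q e v y) ((if v ^ wt D e γ = 1 then -1 else 0) * c) := by
  classical
  have h := Co.list Q hS hγS hγ (L := List.range (Fintype.card F - 1))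
    (f := fun i : ℕ => WC.tor Q e (v ^ i) * y * (WC.tor Q e (v ^ i))⁻¹)
    (g := fun i : ℕ => (((v ^ wt D e γ) ^ i : Fˣ) : F) * c) fun i _ => by
      have := Co.tor Q hS hγS hy he (v ^ i)
      rwa [show (v ^ i) ^ wt D e γ = (v ^ wt D e γ) ^ i by
        rw [← zpow_natCast, ← zpow_natCast, ← zpow_mul, ← zpow_mul, mul_comm]] at this
  rwa [List.sum_map_mul_right, sum_powers] at h

variable {X : Subgroup ↥(D.group F)}
  (hH : ∀ h ∈ Q.sys.H, ∀ y ∈ X, h * y * h⁻¹ ∈ X)
include hH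

theorem mean_mem {e : List (ℕ × ℤ)} (he : ∀ p ∈ e, p.1 < D.rank) (v : Fˣ) {y : ↥(D.group F)}
    (hy : y ∈ X) : mean Q e v y ∈ X := Subgroup.list_prod_mem _ fun g hg => by
  obtain ⟨i, -, rfl⟩ := List.mem_map.1 hg
  exact hH _ (tor_mem_H Q he _) y hy

/-- Averaging removes every moved coordinate. -/
theorem reduce {v : Fˣ} {Z W : List ℤ} (hv : Good v Z W) {Es : List (List (ℕ × ℤ))}
    (R : Finset ℕ) :
    ∀ (S : Finset ℕ), Q.sys.toUnip.Closed S → γ ∈ S → Untargeted Q S γ →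
      (∀ k ∈ S, k ≠ γ → k ∈ R ∨ (movB D Z W Es γ k = true ∧ ∀ q ∈ R, k < q)) →
      ∀ y ∈ X, ∀ c, Co Q S γ y c → c ≠ 0 →
      ∃ c' ≠ 0, ∃ n ∈ XS Q.sys.x (↑R : Set ℕ), Q.sys.x γ c' * n ∈ X := by
  classical
  intro S
  induction S using Finset.strongInduction with
  | H S ih =>
    intro hS hγS hγ hmov y hy c hc hc0
    set M := S.filter fun k => k ≠ γ ∧ k ∉ R with hM
    rcases M.eq_empty_or_nonempty with hMe | hMne
    · obtain ⟨n, hn, rfl⟩ := hc
      refine ⟨c, hc0, n, XS_mono ?_ hn, hy⟩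
      intro k hk
      obtain ⟨h1, h2⟩ := Finset.mem_erase.1 (Finset.mem_coe.1 hk)
      by_contra h3
      exact Finset.notMem_empty k (hMe ▸ Finset.mem_filter.2 ⟨h2, h1, h3⟩)
    set k := M.min' hMne with hk
    obtain ⟨hkS, hkγ, hkR⟩ : k ∈ S ∧ k ≠ γ ∧ k ∉ R := Finset.mem_filter.1 (M.min'_mem hMne)
    obtain ⟨hmk, hkq⟩ := (hmov k hkS hkγ).resolve_left hkR
    have hlow : ∀ q ∈ S, q ≠ γ → k ≤ q := by
      intro q hq hqγ
      by_cases hqR : q ∈ R
      · exact (hkq q hqR).le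
      · exact M.min'_le q (Finset.mem_filter.2 ⟨hq, hqγ, hqR⟩)
    have hku : Untargeted Q S k := by
      intro r hr s hs hne hT
      obtain ⟨-, h1, h2⟩ := Q.sys.T_pos (hS.1 hr) (hS.1 hs) hT
      by_cases hrγ : r = γ
      · have := hlow s hs fun e => hne (hrγ.trans e.symm)
        omega
      · have := hlow r hr hrγ
        omega
    simp only [movB, List.any_eq_true, Bool.and_eq_true, List.all_eq_true, decide_eq_true_eq,
      List.contains_iff_mem] at hmk
    obtain ⟨e, -, ⟨he, hz⟩, hw⟩ := hmk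
    obtain ⟨d, hd⟩ := Co.exists_coord Q hS hkS (hc.mem_XS Q hγS)
    have hcγ := Co.mean Q hS hγS hγ hc he v
    have hck := Co.mean Q hS hkS hku hd he v
    rw [if_pos (hv.1 _ hz), neg_one_mul] at hcγ
    rw [if_neg (hv.2 _ hw), zero_mul] at hck
    have hin := (Co.zero_iff Q hS hkS hku hck).2 rfl
    have hγS' : γ ∈ S.erase k := Finset.mem_erase.2 ⟨hkγ.symm, hγS⟩
    have hS' := closed_erase Q hS hku
    obtain ⟨c'', hc''⟩ := Co.exists_coord Q hS' hγS' hin
    have hcc : c'' = -c := by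
      refine Co.unique Q hS hγS hγ ?_ hcγ
      obtain ⟨n, hn, e2⟩ := hc''
      exact ⟨n, XS_mono (Finset.coe_subset.2
        (Finset.erase_subset_erase _ (Finset.erase_subset _ _))) hn, e2⟩
    exact ih _ (Finset.erase_ssubset hkS) hS' hγS'
      (fun r hr s hs => hγ r (Finset.mem_erase.1 hr).2 s (Finset.mem_erase.1 hs).2)
      (fun q hq => hmov q (Finset.mem_erase.1 hq).2) _ (mean_mem Q hH he v hy) c'' hc''
      (by rw [hcc]; exact neg_ne_zero.2 hc0)

/-- One root element gives the root subgroup. -/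
theorem scale {r : ℕ} (hr : r < D.nroots) {i : ℕ} (hi : i < D.rank)
    (hA : D.cartan i r = 1 ∨ D.cartan i r = -1 ∨ D.cartan i r = 2 ∨ D.cartan i r = -2)
    {t : F} (ht : t ≠ 0) (hx : Q.sys.x r t ∈ X) : ∀ a, Q.sys.x r a ∈ X := by
  classical
  have hone : ∀ u : Fˣ, Q.sys.x r (((u ^ D.cartan i r : Fˣ) : F) * t) ∈ X := by
    intro u
    have := hH _ (tor_mem_H Q (e := [(i, 1)]) (by simpa using hi) u) _ hx
    rw [tor_conj Q (by simpa using hi) u hr] at this
    simpa [wt] using this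
  have hsq : ∀ u : F, Q.sys.x r (u ^ 2 * t) ∈ X := by
    intro u
    by_cases hu : u = 0
    · rw [hu, zero_pow two_ne_zero, zero_mul, Q.sys.x_zero' hr]; exact one_mem _
    rcases hA with h | h | h | h
    · have := hone (Units.mk0 u hu ^ 2)
      rwa [h, zpow_one, show ((Units.mk0 u hu ^ 2 : Fˣ) : F) = u ^ 2 by norm_cast] at this
    · have := hone (Units.mk0 u hu ^ 2)⁻¹
      rwa [h, zpow_neg_one, inv_inv, show ((Units.mk0 u hu ^ 2 : Fˣ) : F) = u ^ 2 by norm_cast]
        at this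
    · simpa [h, zpow_ofNat] using hone (Units.mk0 u hu)
    · simpa [h, zpow_ofNat] using hone (Units.mk0 u hu)⁻¹
  intro a
  obtain ⟨u, w, e⟩ : ∃ u w : F, u ^ 2 + w ^ 2 = a / t := by
    rcases eq_or_ne (ringChar F) 2 with h2 | h2
    · obtain ⟨u, hu⟩ := FiniteField.isSquare_of_char_two h2 (a / t)
      exact ⟨u, 0, by rw [hu]; ring⟩
    · obtain ⟨u, w, h⟩ := FiniteField.exists_root_sum_quadratic
        (f := Polynomial.X ^ 2) (g := Polynomial.X ^ 2 - Polynomial.C (a / t))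
        (Polynomial.degree_X_pow 2) (Polynomial.degree_X_pow_sub_C two_pos _)
        (FiniteField.odd_card_of_char_ne_two h2)
      exact ⟨u, w, by simp at h; linear_combination h⟩
  have : Q.sys.x r a = Q.sys.x r (u ^ 2 * t) * Q.sys.x r (w ^ 2 * t) := by
    rw [← Q.sys.x_add' _ hr, ← add_mul, e, div_mul_cancel₀ a ht]
  rw [this]
  exact mul_mem (hsq u) (hsq w)

end Cfsg.Agent.H51.WC
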