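import Cfsg.Agent.H51.WeaklyClosedMain

/-!
Certificates for weakly closed subgroups: separating torus words and isolating commutators.
-/

set_option autoImplicit false
set_option maxRecDepth 100000

namespace Cfsg.Agent.H51.WC

open Cfsg.Lie

/-- Torus words for G2four. -/
def esG2four : List (List (ℕ × ℤ)) :=
    [[(0, 1), (1, 2)], [(0, 1), (1, -1)], [(0, 1)], [(0, 1), (1, 1)], [(1, 1)]]

/-- Commutators for G2four. -/
def derG2four : List (ℕ × ℕ × ℕ) :=
    [(6, 7, 0), (6, 7, 1), (7, 9, 0), (6, 10, 0)]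

theorem simpG2four : simpB chevG2 [0, 3, -3] [1, -1, 2, -2] esG2four (fun i => if i = 1 then [10, 11] else []) = true := by decide +kernel

theorem allG2four : allDer chevG2 [0, 3, -3] [1, -1, 2, -2] [1, -1, 3, -3] esG2four derG2four = true := by decide +kernel

/-- Torus words for G2big. -/
def esG2big : List (List (ℕ × ℤ)) :=
    [[(0, 1), (1, 2)], [(0, 2), (1, 3)], [(0, 1), (1, 1)], [(1, 1)], [(0, 1), (1, 3)]]

/-- Commutators for G2big. -/
def derG2big : List (ℕ × ℕ × ℕ) :=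
    [(6, 7, 0), (6, 7, 1), (6, 7, 2), (6, 10, 0)]

theorem simpG2big : simpB chevG2 [0] [1, -1, 2, -2, 3, -3] esG2big (fun _ => []) = true := by decide +kernel

theorem allG2big : allDer chevG2 [0] [1, -1, 2, -2, 3, -3] [1, -1] esG2big derG2big = true := by decide +kernel

/-- Torus words for B2. -/
def esB2 : List (List (ℕ × ℤ)) :=
    [[(0, 1), (1, 2)], [(0, 1), (1, 1)], [(0, 1)]]

/-- Commutators for B2. -/
def derB2 : List (ℕ × ℕ × ℕ) :=
    [(4, 5, 0), (4, 5, 1)]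

theorem simpB2 : simpB chevB2 [0] [1, -1, 2, -2] esB2 (fun _ => []) = true := by decide +kernel

theorem allB2 : allDer chevB2 [0] [1, -1, 2, -2] [1, -1] esB2 derB2 = true := by decide +kernel

/-- Torus words for D4. -/
def esD4 : List (List (ℕ × ℤ)) :=
    [[(3, 1)], [(2, 1)], [(0, 1), (1, 2)], [(0, 2), (1, 1)], [(0, 1), (2, -1)], [(0, 1)], [(1,
    2), (2, 1)], [(1, 2), (3, 1)]]

/-- Commutators for D4. -/
def derD4 : List (ℕ × ℕ × ℕ) :=
    [(12, 14, 0), (13, 14, 0), (12, 16, 0), (14, 18, 0), (12, 19, 0), (13, 19, 0), (12, 21,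
    0), (14, 22, 0)]

theorem simpD4 : simpB chevD4 [0] [1, -1, 2, -2] esD4 (fun _ => []) = true := by decide +kernel

theorem allD4 : allDer chevD4 [0] [1, -1, 2, -2] [1, -1] esD4 derD4 = true := by decide +kernel

/-- Torus words for F4. -/
def esF4 : List (List (ℕ × ℤ)) :=
    [[(2, 1)], [(3, 1)], [(0, 1), (1, 2)], [(1, 1), (2, 2)], [(0, 1), (2, -1)], [(0, 2), (1,
    1)], [(1, 1), (2, 1)], [(0, 1)], [(1, 1), (3, -2)], [(1, 1)], [(2, 2), (3, 1)]]

/-- Commutators for F4. -/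
def derF4 : List (ℕ × ℕ × ℕ) :=
    [(24, 25, 0), (25, 27, 0), (24, 28, 0), (25, 27, 1), (24, 30, 0), (25, 31, 0), (27, 33,
    0), (28, 33, 0), (29, 33, 0), (27, 35, 0), (27, 36, 0), (28, 36, 0), (27, 39, 0), (25, 34,
    1), (24, 41, 0), (25, 42, 0), (33, 40, 0), (30, 42, 0), (25, 45, 0), (24, 46, 0)]

theorem simpF4 : simpB chevF4 [0] [1, -1, 2, -2] esF4 (fun _ => []) = true := by decide +kernel

theorem allF4 : allDer chevF4 [0] [1, -1, 2, -2] [1, -1] esF4 derF4 = true := by decide +kernel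

/-- Torus words for E6. -/
def esE6 : List (List (ℕ × ℤ)) :=
    [[(4, 1)], [(3, 1)], [(1, 1)], [(5, 1)], [(2, 1)], [(0, 1)], [(1, 1), (3, 2)], [(0, 1),
    (3, -1)], [(2, 1), (3, 2)], [(1, 1), (4, -1)], [(2, 2), (3, 1)], [(1, 1), (2, -1)], [(3,
    2), (4, 1)], [(3, 1), (5, -1)]]

/-- Commutators for E6. -/
def derE6 : List (ℕ × ℕ × ℕ) :=
    [(36, 37, 0), (37, 39, 0), (36, 40, 0), (39, 42, 0), (37, 43, 0), (36, 44, 0), (39, 46,
    0), (37, 47, 0), (36, 48, 0), (42, 47, 0), (37, 50, 0), (36, 51, 0), (39, 51, 0), (36, 53,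
    0), (37, 54, 0), (42, 56, 0), (39, 57, 0), (37, 58, 0), (36, 59, 0), (46, 58, 0), (37, 61,
    0), (36, 62, 0), (39, 62, 0), (36, 64, 0), (37, 65, 0), (42, 64, 0), (36, 67, 0), (37, 68,
    0), (39, 69, 0), (46, 70, 0)]

theorem simpE6 : simpB chevE6 [0] [1, -1] esE6 (fun _ => []) = true := by decide +kernel

theorem allE6 : allDer chevE6 [0] [1, -1] [1, -1] esE6 derE6 = true := by decide +kernel

/-- Torus words for E7. -/
def esE7 : List (List (ℕ × ℤ)) :=
    [[(5, 1)], [(4, 1)], [(3, 1)], [(1, 1)], [(0, 1), (2, 2)], [(2, 1)], [(0, 1)], [(6, 1)],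
    [(0, 1), (3, -1)], [(2, 1), (3, 2)], [(0, 2), (2, 1)], [(2, 2), (3, 1)], [(1, 1), (2,
    -1)], [(3, 1), (5, -1)], [(4, 2), (5, 1)]]

/-- Commutators for E7. -/
def derE7 : List (ℕ × ℕ × ℕ) :=
    [(63, 64, 0), (64, 66, 0), (63, 67, 0), (66, 69, 0), (64, 70, 0), (63, 71, 0), (69, 73,
    0), (66, 74, 0), (64, 75, 0), (63, 76, 0), (69, 78, 0), (66, 79, 0), (64, 80, 0), (63, 81,
    0), (73, 79, 0), (66, 83, 0), (64, 84, 0), (63, 85, 0), (69, 84, 0), (64, 87, 0), (63, 88,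
    0), (66, 88, 0), (63, 90, 0), (64, 91, 0), (73, 93, 0), (69, 94, 0), (66, 95, 0), (64, 96,
    0), (63, 97, 0), (78, 95, 0), (66, 99, 0), (64, 100, 0), (63, 101, 0), (69, 100, 0), (64,
    103, 0), (63, 104, 0), (66, 104, 0), (63, 106, 0), (64, 107, 0), (73, 103, 0), (64, 109,
    0), (63, 110, 0), (66, 110, 0), (63, 112, 0), (64, 113, 0), (69, 112, 0), (63, 115, 0),
    (64, 116, 0), (66, 117, 0), (78, 115, 0), (63, 119, 0), (64, 120, 0), (66, 121, 0), (69,
    122, 0), (73, 123, 0), (93, 124, 0)]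

theorem simpE7 : simpB chevE7 [0] [1, -1] esE7 (fun _ => []) = true := by decide +kernel

theorem allE7 : allDer chevE7 [0] [1, -1] [1, -1] esE7 derE7 = true := by decide +kernel

/-- Torus words for E8. -/
def esE8 : List (List (ℕ × ℤ)) :=
    [[(6, 1)], [(5, 1)], [(4, 1)], [(3, 1)], [(1, 1)], [(7, 1)], [(2, 1)], [(0, 1)], [(0, 1),
    (3, -1)], [(2, 1), (3, 2)], [(2, 2), (3, 1)], [(1, 1), (2, -1)], [(1, 1), (4, -1)], [(1,
    2), (3, 1)], [(3, 1), (5, -1)], [(3, 2), (4, 1)], [(4, 1), (6, -1)], [(4, 2), (5, 1)],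
    [(5, 2), (6, 1)], [(5, 1), (7, -1)], [(6, 2), (7, 1)]]

/-- Commutators for E8. -/
def derE8 : List (ℕ × ℕ × ℕ) :=
    [(120, 121, 0), (121, 123, 0), (120, 124, 0), (123, 126, 0), (121, 127, 0), (120, 128, 0),
    (126, 130, 0), (123, 131, 0), (121, 132, 0), (120, 133, 0), (130, 135, 0), (126, 136, 0),
    (123, 137, 0), (121, 138, 0), (120, 139, 0), (130, 141, 0), (126, 142, 0), (123, 143, 0),
    (121, 144, 0), (120, 145, 0), (135, 142, 0), (126, 147, 0), (123, 148, 0), (121, 149, 0),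
    (120, 150, 0), (130, 148, 0), (123, 152, 0), (121, 153, 0), (120, 154, 0), (126, 153, 0),
    (121, 156, 0), (120, 157, 0), (123, 157, 0), (120, 159, 0), (121, 160, 0), (135, 162, 0),
    (130, 163, 0), (126, 164, 0), (123, 165, 0), (121, 166, 0), (120, 167, 0), (141, 164, 0),
    (126, 169, 0), (123, 170, 0), (121, 171, 0), (120, 172, 0), (130, 170, 0), (123, 174, 0),
    (121, 175, 0), (120, 176, 0), (126, 175, 0), (121, 178, 0), (120, 179, 0), (123, 179, 0),
    (120, 181, 0), (121, 182, 0), (135, 174, 0), (123, 184, 0), (121, 185, 0), (120, 186, 0),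
    (126, 185, 0), (121, 188, 0), (120, 189, 0), (123, 189, 0), (120, 191, 0), (121, 192, 0),
    (130, 188, 0), (121, 194, 0), (120, 195, 0), (123, 195, 0), (120, 197, 0), (121, 198, 0),
    (126, 197, 0), (120, 200, 0), (121, 201, 0), (123, 202, 0), (141, 194, 0), (121, 204, 0),
    (120, 205, 0), (123, 205, 0), (120, 207, 0), (121, 208, 0), (126, 207, 0), (120, 210, 0),
    (121, 211, 0), (123, 212, 0), (130, 210, 0), (120, 214, 0), (121, 215, 0), (123, 216, 0),
    (126, 217, 0), (135, 214, 0), (120, 219, 0), (121, 220, 0), (123, 221, 0), (126, 222, 0),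
    (130, 223, 0), (141, 224, 0), (162, 219, 0), (120, 226, 0), (121, 227, 0), (123, 228, 0),
    (126, 229, 0), (130, 230, 0), (135, 231, 0), (141, 231, 0), (135, 233, 0), (130, 234, 0),
    (126, 235, 0), (123, 236, 0), (121, 237, 0), (120, 238, 0)]

theorem simpE8 : simpB chevE8 [0] [1, -1] esE8 (fun _ => []) = true := by decide +kernel

theorem allE8 : allDer chevE8 [0] [1, -1] [1, -1] esE8 derE8 = true := by decide +kernel

end Cfsg.Agent.H51.WC
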