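import Cfsg.Agent.H51.WeaklyClosedCert

/-!
G₂ over four elements: the torus cannot separate the long fundamental root from two others; a
commutator with the short one does.
-/

set_option autoImplicit false
set_option maxRecDepth 100000

namespace Cfsg.Agent.H51.WC

open Cfsg.Lie Cfsg.Agent.H37 Cfsg.Agent.H37.RootSys

variable {F : Type*} [Field F] [Fintype F] (Q : Chev.Data chevG2 F)

theorem g2_der8 : derB chevG2 [0, 3, -3] [1, -1, 2, -2] [1, -1, 3, -3] esG2four (7, 6, 0) 8
    = true := by decide +kernel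

theorem g2_der9 : derB chevG2 [0, 3, -3] [1, -1, 2, -2] [1, -1, 3, -3] esG2four (7, 6, 1) 9
    = true := by decide +kernel

theorem g2_der11 : derB chevG2 [0, 3, -3] [1, -1, 2, -2] [1, -1, 3, -3] esG2four (8, 9, 0) 11
    = true := by decide +kernel

theorem g2_terms : chevG2.commTerms 7 6 =
    [(8, (-1 : ℤ), 1, 1), (9, 1, 2, 1), (10, 1, 3, 1), (11, 1, 3, 2)] ∧
    chevG2.commTerms 8 9 = [(11, (3 : ℤ), 1, 1)] ∧ chevG2.commTerms 7 10 = [] ∧
    chevG2.commTerms 7 11 = [] := by decide +kernel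

theorem g2_facts : chevG2.nroots = 12 ∧ chevG2.rank = 2 ∧ chevG2.simple 0 = 7 ∧
    chevG2.simple 1 = 6 ∧ chevG2.cartan 0 8 = -1 ∧ chevG2.cartan 0 9 = 1 ∧
    chevG2.cartan 1 10 = -1 ∧ chevG2.cartan 1 11 = 1 ∧ chevG2.cartan 1 6 = 2 ∧
    chevG2.neg 7 = 4 ∧ chevG2.neg 8 = 3 := by decide +kernel

theorem g2_exception {v : Fˣ} (hv : Good v [0, 3, -3] [1, -1, 2, -2])
    (hC : ∀ c ∈ ([1, -1, 3, -3] : List ℤ), (c : F) ≠ 0) (X : Subgroup ↥(chevG2.group F))
    (hH : ∀ h ∈ Q.sys.H, ∀ y ∈ X, h * y * h⁻¹ ∈ X)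
    (hU : ∀ g ∈ Q.sys.U, ∀ y ∈ X, g * y * g⁻¹ ∈ X) {c : F} (hc : c ≠ 0) {n : ↥(chevG2.group F)}
    (hn : n ∈ XS Q.sys.x (↑([10, 11] : List ℕ).toFinset : Set ℕ))
    (hy : Q.sys.x 6 c * n ∈ X) : ∀ a, Q.sys.x 6 a ∈ X := by
  obtain ⟨hN, hR, h0, h1, a8, a9, a10, a11, a6, n7, n8⟩ := g2_facts
  obtain ⟨t76, t89, t710, t711⟩ := g2_terms
  have hlt : ∀ r, r < 12 → r < chevG2.nroots := fun r h => hN.symm ▸ h
  have hpos : ∀ r, 6 ≤ r → chevG2.nroots / 2 ≤ r := fun r h => by omega
  have hnU : n ∈ Q.sys.U := by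
    refine XS_mono (fun r hr => ?_) hn
    simp at hr
    rcases hr with rfl | rfl <;> exact mem_posSet.2 ⟨hlt _ (by norm_num), hpos _ (by norm_num)⟩
  set e := ((chevG2.commTerms 7 6).map (term Q (1 : F) c)).prod with he
  have heX : e ∈ X := by
    set g := Q.sys.x 7 (1 : F) with hg
    have hgn : g⁻¹ * n * g = n := by
      have hle : XS Q.sys.x (↑([10, 11] : List ℕ).toFinset : Set ℕ) ≤
          Subgroup.centralizer {g} := by
        refine XS_le fun r hr a => Subgroup.mem_centralizer_singleton_iff.2 ?_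
        simp at hr
        rcases hr with rfl | rfl
        · have := conj_eq Q (hlt 7 (by norm_num)) (hlt 10 (by norm_num)) (by norm_num)
            (by rw [n7]; norm_num) 1 a
          rw [t710, List.map_nil, List.prod_nil, mul_one, mul_assoc, inv_mul_eq_iff_eq_mul] at this
          exact this
        · have := conj_eq Q (hlt 7 (by norm_num)) (hlt 11 (by norm_num)) (by norm_num)
            (by rw [n7]; norm_num) 1 a
          rw [t711, List.map_nil, List.prod_nil, mul_one, mul_assoc, inv_mul_eq_iff_eq_mul] at this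
          exact this
      rw [mul_assoc, Subgroup.mem_centralizer_singleton_iff.1 (hle hn), inv_mul_cancel_left]
    have h := conj_eq Q (hlt 7 (by norm_num)) (hlt 6 (by norm_num)) (by norm_num)
      (by rw [n7]; norm_num) 1 c
    rw [← he, ← hg] at h
    have hgU : g ∈ Q.sys.U := Q.sys.x_mem_U (hlt 7 (by norm_num)) (hpos 7 (by norm_num)) _
    have h2 := mul_mem (inv_mem hy) (hU _ (inv_mem hgU) _ hy)
    rw [inv_inv, show g⁻¹ * (Q.sys.x 6 c * n) * g = g⁻¹ * Q.sys.x 6 c * g * (g⁻¹ * n * g) by group,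
      h, hgn] at h2
    have h3 := hU n hnU _ h2
    rwa [show n * ((Q.sys.x 6 c * n)⁻¹ * (Q.sys.x 6 c * e * n)) * n⁻¹ = e by group] at h3
  have h8 : ∀ a, Q.sys.x 8 a ∈ X := by
    obtain ⟨a, ha, hm⟩ := derive Q hH hv hC g2_der8 (fun q hq hlt' => by
      simp only [t76, List.mem_cons, List.not_mem_nil, or_false] at hq
      rcases hq with rfl | rfl | rfl | rfl <;> norm_num at hlt') one_ne_zero hc heX
    exact scale Q hH (hlt 8 (by norm_num)) (i := 0) (by omega) (Or.inr (Or.inl a8)) ha hm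
  have h9 : ∀ a, Q.sys.x 9 a ∈ X := by
    obtain ⟨a, ha, hm⟩ := derive Q hH hv hC g2_der9 (fun q hq hlt' => by
      simp only [t76, List.mem_cons, List.not_mem_nil, or_false] at hq
      rcases hq with rfl | rfl | rfl | rfl <;> norm_num at hlt'
      exact h8) one_ne_zero hc heX
    exact scale Q hH (hlt 9 (by norm_num)) (i := 0) (by omega) (Or.inl a9) ha hm
  have h11 : ∀ a, Q.sys.x 11 a ∈ X := by
    have he' := comm_mem Q hU (hlt 8 (by norm_num)) (hpos 8 (by norm_num))
      (hlt 9 (by norm_num)) (hpos 9 (by norm_num)) (by norm_num) (by rw [n8]; norm_num)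
      (1 : F) 1 (Or.inl (h8 1))
    obtain ⟨a, ha, hm⟩ := derive Q hH hv hC g2_der11 (fun q hq hlt' => by
      simp only [t89, List.mem_cons, List.not_mem_nil, or_false] at hq
      subst hq
      norm_num at hlt') one_ne_zero one_ne_zero he'
    exact scale Q hH (hlt 11 (by norm_num)) (i := 1) (by omega) (Or.inl a11) ha hm
  have h10 : ∀ a, Q.sys.x 10 a ∈ X := by
    have h := heX
    rw [he, t76] at h
    simp only [List.map_cons, List.map_nil, List.prod_cons, List.prod_nil, mul_one, term] at h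
    rw [X.mul_mem_cancel_left (h8 _), X.mul_mem_cancel_left (h9 _),
      X.mul_mem_cancel_right (h11 _)] at h
    refine scale Q hH (hlt 10 (by norm_num)) (i := 1) (by omega) (Or.inr (Or.inl a10)) ?_ h
    simp [hc]
  have hnX : n ∈ X := (XS_le fun r hr a => by
    simp at hr
    rcases hr with rfl | rfl
    · exact h10 a
    · exact h11 a : XS Q.sys.x (↑([10, 11] : List ℕ).toFinset : Set ℕ) ≤ X) hn
  exact scale Q hH (hlt 6 (by norm_num)) (i := 1) (by omega) (Or.inr (Or.inr (Or.inl a6))) hc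
    ((X.mul_mem_cancel_right hnX).1 hy)

end Cfsg.Agent.H51.WC
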