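import Cfsg.Agent.H51.WeaklyClosed

/-!
Weakly closed subgroups of the unipotent group: the theorem from the certificates.
-/

set_option autoImplicit false

namespace Cfsg.Agent.H51.WC

open Cfsg.Lie Cfsg.Agent.H37 Cfsg.Agent.H37.RootSys

variable {D : ChevalleyDatum} {F : Type*} [Field F] (Q : Chev.Data D F)

/-- One factor of a commutator. -/
def term (t u : F) (q : ℕ × ℤ × ℕ × ℕ) : ↥(D.group F) :=
  Q.sys.x q.1 ((q.2.1 : F) * (-t) ^ q.2.2.1 * u ^ q.2.2.2)

theorem conj_eq {r s : ℕ} (hr : r < D.nroots) (hs : s < D.nroots) (h1 : s ≠ r)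
    (h2 : s ≠ D.neg r) (t u : F) :
    (Q.sys.x r t)⁻¹ * Q.sys.x s u * Q.sys.x r t =
      Q.sys.x s u * ((D.commTerms r s).map (term Q t u)).prod := by
  refine Subtype.ext ?_
  simp only [Subgroup.coe_mul, Subgroup.coe_inv, Subgroup.val_list_prod, List.map_map]
  show (Q.K.xU F r t)⁻¹ * Q.K.xU F s u * Q.K.xU F r t = _
  rw [Q.K.xU_conj F hr hs h1 h2 t u]
  congr 1
  simp only [ChevalleyDatum.commWord, Chevalley.Cert.wU, List.map_map]
  rfl

variable {X : Subgroup ↥(D.group F)}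

/-- The commutator lies in `X` if one of the two root subgroups does. -/
theorem comm_mem (hU : ∀ g ∈ Q.sys.U, ∀ y ∈ X, g * y * g⁻¹ ∈ X) {r s : ℕ} (hr : r < D.nroots)
    (hr' : D.nroots / 2 ≤ r) (hs : s < D.nroots) (hs' : D.nroots / 2 ≤ s) (h1 : s ≠ r)
    (h2 : s ≠ D.neg r) (t u : F) (h : Q.sys.x r t ∈ X ∨ Q.sys.x s u ∈ X) :
    ((D.commTerms r s).map (term Q t u)).prod ∈ X := by
  have e : ((D.commTerms r s).map (term Q t u)).prod =
      (Q.sys.x s u)⁻¹ * ((Q.sys.x r t)⁻¹ * Q.sys.x s u * Q.sys.x r t) := by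
    rw [conj_eq Q hr hs h1 h2]; group
  rw [e]
  rcases h with h | h
  · have := hU _ (inv_mem (Q.sys.x_mem_U hs hs' u)) _ (inv_mem h)
    rw [inv_inv] at this
    simpa [mul_assoc] using mul_mem this h
  · have := hU _ (inv_mem (Q.sys.x_mem_U hr hr' t)) _ h
    rw [inv_inv] at this
    exact mul_mem (inv_mem h) this

variable [Fintype F] (hH : ∀ h ∈ Q.sys.H, ∀ y ∈ X, h * y * h⁻¹ ∈ X)
include hH

/-- A certified commutator in `X` isolates its root. -/
theorem derive {v : Fˣ} {Z W C : List ℤ} (hv : Good v Z W) (hC : ∀ c ∈ C, (c : F) ≠ 0)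
    {Es : List (List (ℕ × ℤ))} {d : ℕ × ℕ × ℕ} {γ : ℕ} (hd : derB D Z W C Es d γ = true)
    (hlow : ∀ q ∈ D.commTerms d.1 d.2.1, q.1 < γ → ∀ a, Q.sys.x q.1 a ∈ X)
    {t u : F} (ht : t ≠ 0) (hu : u ≠ 0)
    (he : ((D.commTerms d.1 d.2.1).map (term Q t u)).prod ∈ X) :
    ∃ c ≠ 0, Q.sys.x γ c ∈ X := by
  classical
  unfold derB at hd
  split at hd
  case h_2 => simp at hd
  rename_i c post hdrop
  simp only [Bool.and_eq_true, beq_iff_eq, List.contains_iff_mem, decide_eq_true_eq,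
    List.all_eq_true] at hd
  obtain ⟨⟨⟨⟨⟨hc1, hcC⟩, -⟩, hpre⟩, hpost⟩, hclosed⟩ :
      ((((c.1 = γ ∧ c.2.1 ∈ C) ∧ True) ∧
        (∀ q ∈ (D.commTerms d.1 d.2.1).take d.2.2, q.1 < γ)) ∧
        (∀ q ∈ post, γ < q.1 ∧ movB D Z W Es γ q.1 = true)) ∧
        closedC D (γ :: post.map Prod.fst) = true :=
    ⟨⟨⟨⟨hd.1.1.1.1.1.1.1.1.1, trivial⟩, hd.1.1.2⟩, hd.1.2⟩, hd.2⟩
  set S := (γ :: post.map Prod.fst).toFinset with hS
  have hcl : Q.sys.toUnip.Closed S := closed_of_closedC Q hclosed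
  have hγS : γ ∈ S := List.mem_toFinset.2 (List.mem_cons_self ..)
  have hlowS : ∀ k ∈ S, k ≠ γ → k ∈ post.map Prod.fst := fun k hk hne =>
    (List.mem_cons.1 (List.mem_toFinset.1 hk)).resolve_left hne
  have hγ : Untargeted Q S γ := by
    intro r hr s hs hne hT
    obtain ⟨-, h1, h2⟩ := Q.sys.T_pos (hcl.1 hr) (hcl.1 hs) hT
    by_cases hrγ : r = γ
    · omega
    · obtain ⟨q, hq, rfl⟩ := List.mem_map.1 (hlowS r hr hrγ)
      have := (hpost q hq).1
      omega
  have hsplit : D.commTerms d.1 d.2.1 = (D.commTerms d.1 d.2.1).take d.2.2 ++ c :: post := by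
    rw [← hdrop, List.take_append_drop]
  have hz : ((c :: post).map (term Q t u)).prod ∈ X := by
    rw [hsplit, List.map_append, List.prod_append] at he
    refine (X.mul_mem_cancel_left ?_).1 he
    refine Subgroup.list_prod_mem _ fun g hg => ?_
    obtain ⟨q, hq, rfl⟩ := List.mem_map.1 hg
    exact hlow q (List.mem_of_mem_take hq) (hpre q hq) _
  have hγP : γ ∈ Q.sys.P := hcl.1 hγS
  set a : F := (c.2.1 : F) * (-t) ^ c.2.2.1 * u ^ c.2.2.2 with ha
  have hco : Co Q S γ ((c :: post).map (term Q t u)).prod a := by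
    rw [List.map_cons, List.prod_cons]
    have h1 : Co Q S γ (term Q t u c) a := by
      refine ⟨1, one_mem _, ?_⟩
      rw [mul_one, term, hc1]
    have h2 := Co.list Q hcl hγS hγ (L := post) (f := term Q t u) (g := fun _ => (0 : F))
      fun q hq => ⟨term Q t u q, x_mem_XS (Finset.mem_coe.2 (Finset.mem_erase.2
        ⟨(hpost q hq).1.ne', List.mem_toFinset.2 (List.mem_cons_of_mem _
          (List.mem_map_of_mem hq))⟩)) _, by
        rw [show Q.sys.x γ (0 : F) = 1 from Q.sys.toUnip.x_zero hγP, one_mul]⟩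
    simpa using Co.mul Q hcl hγS hγ h1 h2
  obtain ⟨c', hc', n, hn, hmem⟩ := reduce Q hH hv ∅ S hcl hγS hγ (fun k hk hne => by
      obtain ⟨q, hq, rfl⟩ := List.mem_map.1 (hlowS k hk hne)
      exact Or.inr ⟨(hpost q hq).2, by simp⟩) _ hz a hco
    (mul_ne_zero (mul_ne_zero (hC _ hcC) (pow_ne_zero _ (neg_ne_zero.2 ht))) (pow_ne_zero _ hu))
  rw [Finset.coe_empty, XS_empty, Subgroup.mem_bot] at hn
  exact ⟨c', hc', by rwa [hn, mul_one] at hmem⟩

/-- An element with a coordinate at a fundamental root isolates it, up to the exceptions. -/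
theorem simple_part (hXU : X ≤ Q.sys.U) {v : Fˣ} {Z W : List ℤ} (hv : Good v Z W)
    {Es : List (List (ℕ × ℤ))} {R : ℕ → List ℕ} (hsimp : simpB D Z W Es R = true) {l : ℕ}
    (hl : l < D.rank) {y : ↥(D.group F)} (hy : y ∈ X)
    (hout : y ∉ XS Q.sys.x (↑((posSet D).erase (D.simple l)) : Set ℕ)) :
    ∃ c ≠ 0, ∃ n ∈ XS Q.sys.x (↑(R l).toFinset : Set ℕ), Q.sys.x (D.simple l) c * n ∈ X := by
  classical
  simp only [simpB, List.all_eq_true, List.mem_range, Bool.or_eq_true, Bool.and_eq_true,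
    decide_eq_true_eq, beq_iff_eq, List.contains_iff_mem] at hsimp
  set γ := D.simple l with hγdef
  have hcl : Q.sys.toUnip.Closed (posSet D) := Q.sys.P_eq ▸ Q.sys.toUnip.closed_P
  have hγS : γ ∈ posSet D := mem_posSet.2 (Q.K.simple_lt l hl)
  have hγ : Untargeted Q (posSet D) γ := by
    intro r hr s hs hne hT
    obtain ⟨hr1, hr2⟩ := mem_posSet.1 hr
    obtain ⟨hs1, hs2⟩ := mem_posSet.1 hs
    obtain ⟨-, a, b, ha, hb, e⟩ := (hT : Combo Q.K r s γ)
    have hz : ∀ {q : ℕ}, q < D.nroots → D.nroots / 2 ≤ q →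
        (∀ m < D.rank, m ≠ l → Q.K.cf q m = 0) → 1 ≤ Q.K.cf q l := by
      intro q hq hq' h
      by_contra hcon
      have h0 : Q.K.cf q l = 0 := by have := Q.K.cf_nonneg q hq hq' l hl; omega
      have h3 := Q.K.code_lin hq hq hq (a := 0) (b := 0) fun j hj => by
        by_cases hj' : j = l
        · subst hj'; simp [h0]
        · simp [h j hj hj']
      have := RootSys.code_pos_of_le Q.K hq hq'
      simp at h3
      omega
    have hzero : ∀ m < D.rank, m ≠ l → Q.K.cf r m = 0 ∧ Q.K.cf s m = 0 := by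
      intro m hm hml
      have := e m hm
      rw [hγdef, Q.K.cf_simple l hl m hm, if_neg hml] at this
      have h1 := Q.K.cf_nonneg r hr1 hr2 m hm
      have h2 := Q.K.cf_nonneg s hs1 hs2 m hm
      constructor <;> nlinarith [mul_nonneg (Int.natCast_nonneg a) h1,
        mul_nonneg (Int.natCast_nonneg b) h2]
    have h1 := hz hr1 hr2 fun m hm hml => (hzero m hm hml).1
    have h2 := hz hs1 hs2 fun m hm hml => (hzero m hm hml).2
    have := e l hl
    rw [hγdef, Q.K.cf_simple l hl l hl, if_pos rfl] at this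
    have ha' : (1 : ℤ) ≤ a := by exact_mod_cast ha
    have hb' : (1 : ℤ) ≤ b := by exact_mod_cast hb
    nlinarith
  obtain ⟨c, hc⟩ := Co.exists_coord Q hcl hγS (hXU hy)
  have hc0 : c ≠ 0 := fun h => hout ((Co.zero_iff Q hcl hγS hγ hc).2 h)
  refine reduce Q hH hv (Es := Es) (R l).toFinset _ hcl hγS hγ (fun k hk hne => ?_) y hy c hc hc0
  obtain ⟨hk1, hk2⟩ := mem_posSet.1 hk
  rcases hsimp l hl k hk1 with ((h | h) | h) | ⟨h, h'⟩
  · omega
  · exact absurd h hne
  · exact Or.inl (List.mem_toFinset.2 h)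
  · exact Or.inr ⟨h, fun q hq => h' q (List.mem_toFinset.1 hq)⟩

omit hH in
/-- Roots of a fundamental subsystem can be made negative inside its Weyl group. -/
theorem exists_flip {J : Set ℕ} (hJ : ∀ i ∈ J, i < D.rank) : ∀ (γ : ℕ) (hγ : γ < D.nroots),
    D.nroots / 2 ≤ γ → (∀ m < D.rank, m ∉ J → Q.K.cf γ m = 0) →
    ∃ w ∈ Subgroup.closure {x | ∃ i : Fin Q.X.n, (i : ℕ) ∈ J ∧ x = Q.X.M.simple i},
      (Q.X.good.hom w ⟨γ, hγ⟩).val < D.nroots / 2 := by
  intro γ
  induction γ using Nat.strong_induction_on with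
  | _ γ ih =>
    intro hγ hp hout
    obtain ⟨i, hi, hcase⟩ := Q.K.w_down γ hγ hp
    have hi' : i < Q.X.n := Q.rank_eq ▸ hi
    have hgen : ∀ (hiJ : i ∈ J), Q.X.M.simple ⟨i, hi'⟩ ∈
        Subgroup.closure {x | ∃ i : Fin Q.X.n, (i : ℕ) ∈ J ∧ x = Q.X.M.simple i} :=
      fun hiJ => Subgroup.subset_closure ⟨⟨i, hi'⟩, hiJ, rfl⟩
    rcases hcase with rfl | ⟨h1, h2⟩
    · have hiJ : i ∈ J := by
        by_contra h
        have := hout i hi h
        rw [Q.K.cf_simple i hi i hi, if_pos rfl] at this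
        exact one_ne_zero this
      refine ⟨_, hgen hiJ, ?_⟩
      rw [hom_simple_val]
      show Q.K.w i (D.simple i) < _
      rw [← sigma_eq_w Q.X.good Q.K hi' (Q.K.simple_lt i hi).1,
        RootSys.neg_simple_eq Q.X.good Q.K hi', Q.K.neg_eq _ (Q.K.simple_lt i hi).1]
      have := (Q.K.simple_lt i hi).2
      have := Q.X.good.even
      omega
    · have hw := (Q.K.w_lt i hi γ hγ).1
      have hiJ : i ∈ J := by
        by_contra h
        have h0 := hout i hi h
        have h3 := Q.K.cf_w i hi γ hγ i hi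
        rw [if_pos rfl, h0, zero_sub] at h3
        have h4 := Q.K.cf_nonneg _ hw h1 i hi
        have hlin := Q.K.code_lin (a := 1) (b := - D.cartan i γ) hw hγ (Q.K.simple_lt i hi).1
          (fun j hj => by
            rw [Q.K.cf_w i hi γ hγ j hj, Q.K.cf_simple i hi j hj]
            split_ifs <;> ring)
        have hpos := RootSys.code_pos_of_le Q.K (Q.K.simple_lt i hi).1 (Q.K.simple_lt i hi).2
        have hmono : ∀ n, Q.K.w i γ + n + 1 < D.nroots →
            Q.K.code (Q.K.w i γ) < Q.K.code (Q.K.w i γ + n + 1) := by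
          intro n
          induction n with
          | zero => exact fun hn => Q.K.code_lt _ hn
          | succ n ihn => exact fun hn => (ihn (by omega)).trans (Q.K.code_lt _ hn)
        have := hmono (γ - Q.K.w i γ - 1) (by omega)
        rw [show Q.K.w i γ + (γ - Q.K.w i γ - 1) + 1 = γ by omega] at this
        nlinarith
      obtain ⟨w, hw', hval⟩ := ih _ h2 hw h1 fun m hm hmJ => by
        rw [Q.K.cf_w i hi γ hγ m hm, if_neg (fun e => hmJ (by rw [e]; exact hiJ)),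
          hout m hm hmJ, sub_zero]
      refine ⟨w * Q.X.M.simple ⟨i, hi'⟩, mul_mem hw' (hgen hiJ), ?_⟩
      rw [map_mul, Equiv.Perm.mul_apply]
      convert hval using 3
      exact Fin.ext (hom_simple_val Q _ _)

omit hH in
/-- The theorem, from the certificates. -/
theorem eq_radical {v : Fˣ} {Z W C : List ℤ} (hv : Good v Z W) (hC : ∀ c ∈ C, (c : F) ≠ 0)
    {Es : List (List (ℕ × ℤ))} {R : ℕ → List ℕ} (hsimp : simpB D Z W Es R = true)
    {L : List (ℕ × ℕ × ℕ)} (hL : allDer D Z W C Es L = true)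
    (hexc : ∀ (X : Subgroup ↥(D.group F)), (∀ h ∈ Q.sys.H, ∀ y ∈ X, h * y * h⁻¹ ∈ X) →
      (∀ g ∈ Q.sys.U, ∀ y ∈ X, g * y * g⁻¹ ∈ X) → ∀ l < D.rank, R l ≠ [] → ∀ c ≠ 0,
      ∀ n ∈ XS Q.sys.x (↑(R l).toFinset : Set ℕ), Q.sys.x (D.simple l) c * n ∈ X →
      ∀ a, Q.sys.x (D.simple l) a ∈ X)
    (X : Subgroup ↥(D.group F)) (hXU : X ≤ Q.sys.U)
    (hwc : ∀ g, (∀ y ∈ X, g * y * g⁻¹ ∈ Q.sys.U) → ∀ y, y ∈ X ↔ g * y * g⁻¹ ∈ X) :
    ∃ J : Set ℕ, (∀ j ∈ J, j < D.rank) ∧ X = XS Q.sys.x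
      {r | r < D.nroots ∧ D.nroots / 2 ≤ r ∧ ¬ ∀ m < D.rank, m ∉ J → Q.K.cf r m = 0} := by
  classical
  have hH : ∀ h ∈ Q.sys.H, ∀ y ∈ X, h * y * h⁻¹ ∈ X := fun h hh y hy =>
    (hwc h (fun z hz => Q.sys.H_conj_U hh (hXU hz)) y).1 hy
  have hU : ∀ g ∈ Q.sys.U, ∀ y ∈ X, g * y * g⁻¹ ∈ X := fun g hg y hy =>
    (hwc g (fun z hz => mul_mem (mul_mem hg (hXU hz)) (inv_mem hg)) y).1 hy
  set J : Set ℕ := {i | i < D.rank ∧ nG Q.K F i ∈ Subgroup.normalizer (X : Set ↥(D.group F))}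
    with hJ
  refine ⟨J, fun j hj => hj.1, le_antisymm ?_ ?_⟩
  · -- the part in the radical
    intro y hy
    have hrep : ∀ w ∈ Subgroup.closure {x | ∃ i : Fin Q.X.n, (i : ℕ) ∈ J ∧ x = Q.X.M.simple i},
        Q.sys.rep w ∈ Subgroup.normalizer (X : Set ↥(D.group F)) := by
      intro w hw
      have hstep : ∀ i : Fin Q.X.n, (i : ℕ) ∈ J → ∀ z, Q.sys.rep z ∈ Subgroup.normalizer
          (X : Set ↥(D.group F)) → Q.sys.rep (Q.X.M.simple i * z) ∈
            Subgroup.normalizer (X : Set ↥(D.group F)) := by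
        intro i hi z hz
        obtain ⟨k, hk, e1⟩ := Q.sys.rep_mul (Q.X.M.simple i) z
        have e2 : Q.sys.rep (Q.X.M.simple i * z) =
            k⁻¹ * (Q.sys.rep (Q.X.M.simple i) * Q.sys.rep z) := by rw [e1, inv_mul_cancel_left]
        rw [e2, Q.rep_simple]
        refine mul_mem (inv_mem ?_) (mul_mem hi.2 hz)
        exact Subgroup.mem_normalizer_iff.2 fun z => hwc k (fun a ha =>
          Q.sys.H_conj_U hk (hXU ha)) z
      induction hw using Subgroup.closure_induction_left with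
      | one => rw [Q.sys.rep_one]; exact one_mem _
      | mul_left x hx z _ hz => obtain ⟨i, hi, rfl⟩ := hx; exact hstep i hi z hz
      | inv_mul_cancel x hx z _ hz =>
        obtain ⟨i, hi, rfl⟩ := hx
        rw [show (Q.X.M.simple i)⁻¹ = Q.X.M.simple i from
          inv_eq_of_mul_eq_one_right (Q.X.M.toCoxeterSystem.simple_mul_simple_self i)]
        exact hstep i hi z hz
    have hsupp : ∀ B : Finset ℕ, (∀ r ∈ B, r ∈ posSet D ∧ ∀ m < D.rank, m ∉ J → Q.K.cf r m = 0) →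
        ∃ S : Finset ℕ, Q.sys.toUnip.Closed S ∧ Disjoint S B ∧
          y ∈ XS Q.sys.x (↑S : Set ℕ) := by
      intro B
      induction B using Finset.induction with
      | empty => exact fun _ => ⟨posSet D, Q.sys.P_eq ▸ Q.sys.toUnip.closed_P,
          Finset.disjoint_empty_right _, hXU hy⟩
      | insert r B _ ihB =>
        intro h
        obtain ⟨S, hS1, hS2, hS3⟩ := ihB fun q hq => h q (Finset.mem_insert_of_mem hq)
        obtain ⟨hr, hout⟩ := h r (Finset.mem_insert_self _ _)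
        obtain ⟨hr1, hr2⟩ := mem_posSet.1 hr
        obtain ⟨w, hw, hneg⟩ := exists_flip Q (fun i hi => hi.1) r hr1 hr2 hout
        have hconj := hXU ((Subgroup.mem_normalizer_iff.1 (hrep w hw) y).1 hy)
        obtain ⟨h4, -⟩ := supp_of_conj Q hS1 w (one_mem _) hS3 (by simpa using hconj)
        refine ⟨_, closed_inter Q hS1 (closed_keep Q w), ?_, h4⟩
        rw [Finset.disjoint_left]
        intro q hq hqB
        obtain ⟨hq1, hq2⟩ := Finset.mem_inter.1 hq
        rcases Finset.mem_insert.1 hqB with rfl | hqB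
        · obtain ⟨_, _, h5⟩ := Sys.mem_keep.1 hq2
          omega
        · exact Finset.disjoint_left.1 hS2 hq1 hqB
    obtain ⟨S, hS1, hS2, hS3⟩ := hsupp ((posSet D).filter fun r =>
      ∀ m < D.rank, m ∉ J → Q.K.cf r m = 0) fun r hr => Finset.mem_filter.1 hr
    refine XS_mono (fun r hr => ?_) hS3
    have hP := mem_posSet.1 (Q.sys.P_eq ▸ hS1.1 (Finset.mem_coe.1 hr))
    exact ⟨hP.1, hP.2, fun h => Finset.disjoint_left.1 hS2 hr
      (Finset.mem_filter.2 ⟨mem_posSet.2 hP, h⟩)⟩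
  · refine XS_le fun r hr t => ?_
    obtain ⟨hr1, hr2, hr3⟩ := hr
    revert t
    induction r using Nat.strong_induction_on with
    | _ r ih =>
      have hfund : ∀ l < D.rank, l ∉ J → ∀ a, Q.sys.x (D.simple l) a ∈ X := by
        intro l hl hlJ
        have hout : ∃ y ∈ X, y ∉ XS Q.sys.x (↑((posSet D).erase (D.simple l)) : Set ℕ) := by
          by_contra hcon
          push Not at hcon
          refine hlJ ⟨hl, Subgroup.mem_normalizer_iff.2 fun z => hwc _ (fun y hy => ?_) z⟩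
          refine conj_mem_XS (fun q hq a => ?_) (hcon y hy)
          obtain ⟨hne, hq'⟩ := Finset.mem_erase.1 (Finset.mem_coe.1 hq)
          obtain ⟨hq1, hq2⟩ := mem_posSet.1 hq'
          have e : nG Q.K F l * Q.sys.x q a * (nG Q.K F l)⁻¹ =
              Q.sys.x (Q.K.w l q) ((Q.K.sg l q : F) * a) :=
            Subtype.ext (Q.K.nS_conj_xU F hl hq1 a)
          rw [e]
          exact Q.sys.x_mem_U (Q.K.w_lt l hl q hq1).1 (Q.K.w_pos l hl q hq1 hq2 hne) _
        obtain ⟨y, hy, hy'⟩ := hout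
        obtain ⟨c, hc, n, hn, hmem⟩ := simple_part Q hH hXU hv hsimp hl hy hy'
        by_cases hR : R l = []
        · rw [hR, List.toFinset_nil, Finset.coe_empty, XS_empty, Subgroup.mem_bot] at hn
          rw [hn, mul_one] at hmem
          exact scale Q hH (Q.K.simple_lt l hl).1 hl (Or.inr (Or.inr (Or.inl
            (Q.K.cartan_self l hl)))) hc hmem
        · exact hexc X hH hU l hl hR c hc n hn hmem
      simp only [allDer, List.all_eq_true, List.mem_range, Bool.or_eq_true, decide_eq_true_eq,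
        List.any_eq_true, beq_iff_eq, Bool.and_eq_true, List.contains_iff_mem, List.mem_cons,
        List.not_mem_nil, or_false] at hL
      rcases hL r hr1 with (h | ⟨l, hl, rfl⟩) | ⟨⟨d, -, hd⟩, i, hi, hA⟩
      · omega
      · refine hfund l hl fun hlJ => hr3 fun m hm hmJ => ?_
        rw [Q.K.cf_simple l hl m hm, if_neg (fun e => hmJ (by rw [e]; exact hlJ))]
      · have hd' := hd
        unfold derB at hd'
        split at hd'
        case h_2 => simp at hd'
        rename_i c post hdrop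
        simp only [Bool.and_eq_true, beq_iff_eq, decide_eq_true_eq, Bool.not_eq_true',
          beq_eq_false_iff_ne] at hd'
        obtain ⟨⟨⟨⟨⟨⟨⟨⟨⟨⟨hc1, -⟩, hd1⟩, hd1'⟩, hd2⟩, hd2'⟩, hne⟩, hne'⟩, -⟩, -⟩, -⟩ := hd'
        have hcm : c ∈ D.commTerms d.1 d.2.1 :=
          List.mem_of_mem_drop (hdrop.symm ▸ List.mem_cons_self ..)
        obtain ⟨⟨hct, ha, hb⟩, hcf⟩ := Q.K.commTerms_cf hcm
        have hT : Q.sys.T d.1 d.2.1 r := by
          show Combo Q.K d.1 d.2.1 r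
          refine ⟨hr1, c.2.2.1, c.2.2.2, ha, hb, fun j hj => ?_⟩
          rw [← hc1]
          exact hcf j hj
        have hP1 : d.1 ∈ Q.sys.P := Q.sys.P_eq ▸ mem_posSet.2 ⟨hd1, hd1'⟩
        have hP2 : d.2.1 ∈ Q.sys.P := Q.sys.P_eq ▸ mem_posSet.2 ⟨hd2, hd2'⟩
        obtain ⟨-, hlt1, hlt2⟩ := Q.sys.T_pos hP1 hP2 hT
        have hone : (∀ a, Q.sys.x d.1 a ∈ X) ∨ (∀ a, Q.sys.x d.2.1 a ∈ X) := by
          by_cases h1 : ∀ m < D.rank, m ∉ J → Q.K.cf d.1 m = 0
          · by_cases h2 : ∀ m < D.rank, m ∉ J → Q.K.cf d.2.1 m = 0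
            · exact absurd (fun m hm hmJ => by
                rw [← hc1, hcf m hm, h1 m hm hmJ, h2 m hm hmJ]; ring) hr3
            · exact Or.inr (ih _ hlt2 hd2 hd2' h2)
          · exact Or.inl (ih _ hlt1 hd1 hd1' h1)
        have he := comm_mem Q hU hd1 hd1' hd2 hd2' hne hne' (1 : F) 1
          (hone.imp (fun h => h 1) fun h => h 1)
        have hlow : ∀ q ∈ D.commTerms d.1 d.2.1, q.1 < r → ∀ b, Q.sys.x q.1 b ∈ X := by
          intro q hq hqlt b
          obtain ⟨⟨hqr, hqa, hqb⟩, hqcf⟩ := Q.K.commTerms_cf hq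
          have hqT : Q.sys.T d.1 d.2.1 q.1 := by
            show Combo Q.K d.1 d.2.1 q.1
            exact ⟨hqr, q.2.2.1, q.2.2.2, hqa, hqb, hqcf⟩
          have hqP := (Q.sys.T_pos hP1 hP2 hqT).1
          rw [Q.sys.P_eq, mem_posSet] at hqP
          refine ih _ hqlt hqP.1 hqP.2 (fun h0 => hr3 fun m hm hmJ => ?_) b
          have h1 := hqcf m hm
          rw [h0 m hm hmJ] at h1
          have ha' : (0 : ℤ) < q.2.2.1 := by exact_mod_cast hqa
          have hb' : (0 : ℤ) < q.2.2.2 := by exact_mod_cast hqb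
          have h2 := Q.K.cf_nonneg _ hd1 hd1' m hm
          have h3 := Q.K.cf_nonneg _ hd2 hd2' m hm
          have h5 : Q.K.cf d.1 m = 0 := by nlinarith
          have h6 : Q.K.cf d.2.1 m = 0 := by nlinarith
          rw [← hc1, hcf m hm, h5, h6]; ring
        obtain ⟨a, ha0, hmem⟩ := derive Q hH hv hC hd hlow one_ne_zero one_ne_zero he
        exact scale Q hH hr1 hi hA ha0 hmem

end Cfsg.Agent.H51.WC
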